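import Cfsg.Agent.H1.Basic
import Mathlib.RingTheory.Coprime.Lemmas

/-! A `2`-group `T = S⟨t⟩` with `C_S(t)` cyclic of order `4`: `[T, t]` is cyclic, inverted by `t`. -/

set_option autoImplicit false

namespace Cfsg.Agent.H3.C4

open Subgroup

variable {T : Type*} [Group T]

/-- The elements of `N(K)` commuting with `g` modulo `K`. -/
def Zm (K : Subgroup T) (g : T) : Subgroup T where
  carrier := {x | x ∈ normalizer (K : Set T) ∧ g⁻¹ * (x * g * x⁻¹) ∈ K}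
  one_mem' := ⟨one_mem _, by simp⟩
  mul_mem' := by
    rintro x y ⟨hx1, hx2⟩ ⟨hy1, hy2⟩
    refine ⟨mul_mem hx1 hy1, ?_⟩
    have := K.mul_mem hx2 (H1.conj_mem_of_mem_normalizer hx1 hy2)
    convert this using 1; group
  inv_mem' := by
    rintro x ⟨hx1, hx2⟩
    refine ⟨inv_mem hx1, ?_⟩
    have := H1.conj_mem_of_mem_normalizer' hx1 (K.inv_mem hx2)
    convert this using 1; group

theorem Zm_symm {K : Subgroup T} {g x : T} (hx : x ∈ Zm K g) (hg : g ∈ normalizer (K : Set T)) :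
    g ∈ Zm K x := by
  refine ⟨hg, ?_⟩
  have := H1.conj_mem_of_mem_normalizer hg ((Zm K g).inv_mem hx).2
  convert this using 1; group

theorem mem_Zm_of_mem {K : Subgroup T} {g x : T} (hx : x ∈ K) (hg : g ∈ normalizer (K : Set T)) :
    x ∈ Zm K g := by
  refine ⟨le_normalizer hx, ?_⟩
  have := K.mul_mem (H1.conj_mem_of_mem_normalizer' hg hx) (K.inv_mem hx)
  convert this using 1; group

theorem mem_Zm_of_comm {K : Subgroup T} {g x : T} (hx : x ∈ normalizer (K : Set T))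
    (h : x * g = g * x) : x ∈ Zm K g :=
  ⟨hx, by rw [h]; simp⟩

/-- The standing hypotheses. -/
structure Hyp (S : Subgroup T) (t r : T) : Prop where
  hT : IsPGroup 2 T
  norm : S.Normal
  tt : t * t = 1
  tS : t ∉ S
  idx : ∀ x, x ∈ S ∨ x * t ∈ S
  rS : r ∈ S
  r4 : orderOf r = 4
  rt : r * t = t * r
  cent : ∀ x ∈ S, x * t = t * x → x ∈ zpowers r

/-- The inductive invariant. -/
structure Inv (S : Subgroup T) (t r k s : T) : Prop where
  kS : k ∈ S
  tk : t * k * t⁻¹ = k⁻¹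
  rn : r ∈ normalizer (zpowers k : Set T)
  sn : s ∈ normalizer (zpowers k : Set T)
  st : s * t * s⁻¹ = t * k

variable {S : Subgroup T} {t r k s : T}

theorem Hyp.tinv (h : Hyp S t r) : t⁻¹ = t := inv_eq_of_mul_eq_one_right h.tt

theorem Hyp.r_pow (h : Hyp S t r) : r * r * (r * r) = 1 := by
  have := pow_orderOf_eq_one r
  rw [h.r4] at this
  simpa only [pow_succ, pow_zero, one_mul, mul_assoc] using this

theorem Hyp.z_ne (h : Hyp S t r) : r * r ≠ 1 := fun h1 => by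
  have := orderOf_dvd_of_pow_eq_one ((sq r).trans h1)
  rw [h.r4] at this
  omega

variable [Finite T]

theorem Hyp.mem_zpowers (h : Hyp S t r) {x : T} (hx : x ∈ zpowers r) :
    x = 1 ∨ x = r ∨ x = r * r ∨ x = r * r * r := by
  classical
  rw [mem_zpowers_iff_mem_range_orderOf, h.r4] at hx
  simp only [Finset.mem_image, Finset.mem_range] at hx
  obtain ⟨j, hj, rfl⟩ := hx
  interval_cases j <;> simp [pow_succ]

theorem Hyp.invol (h : Hyp S t r) {x : T} (hx : x ∈ S) (hxt : x * t = t * x) (hxx : x * x = 1) :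
    x = 1 ∨ x = r * r := by
  rcases h.mem_zpowers (h.cent x hx hxt) with h1 | h1 | h1 | h1
  · exact Or.inl h1
  · exact absurd (h1 ▸ hxx) h.z_ne
  · exact Or.inr h1
  · refine absurd ?_ h.z_ne
    calc r * r = r * r * (r * r * (r * r)) := by rw [h.r_pow, mul_one]
      _ = 1 := by rw [← hxx, h1]; group

omit [Finite T] in
theorem Hyp.cent' (h : Hyp S t r) {c : T} (hc : c * t = t * c) :
    c ∈ zpowers r ∨ c * t ∈ zpowers r :=
  (h.idx c).imp (fun h1 => h.cent c h1 hc) fun h1 => h.cent _ h1 (by rw [← mul_assoc, hc])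

omit [Finite T] in
theorem Inv.tinv (h : Inv S t r k s) {κ : T} (hκ : κ ∈ zpowers k) : t * κ * t⁻¹ = κ⁻¹ := by
  obtain ⟨i, rfl⟩ := hκ
  simp only
  rw [← conj_zpow, h.tk, inv_zpow]

theorem Inv.tn (h : Inv S t r k s) : t ∈ normalizer (zpowers k : Set T) :=
  H1.mem_normalizer_of_conj_mem fun x hx => by rw [h.tinv hx]; exact inv_mem hx

theorem Inv.cn (H : Hyp S t r) (h : Inv S t r k s) {c : T} (hc : c * t = t * c) :
    c ∈ normalizer (zpowers k : Set T) := by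
  rcases H.cent' hc with h1 | h1
  · exact zpowers_le.mpr h.rn h1
  · exact (mul_mem_cancel_right h.tn).mp (zpowers_le.mpr h.rn h1)

omit [Finite T] in
theorem Inv.conj_t (h : Inv S t r k s) {κ : T} (hκ : κ ∈ zpowers k) :
    κ * t * κ⁻¹ = t * (κ⁻¹ * κ⁻¹) := by
  have h1 := h.tinv (inv_mem hκ)
  rw [inv_inv] at h1
  calc κ * t * κ⁻¹ = t * κ⁻¹ * t⁻¹ * t * κ⁻¹ := by rw [h1]
    _ = _ := by group

omit [Finite T] in
theorem Inv.exists_conj (h : Inv S t r k s) {ω : T} (hω : ω ∈ zpowers k) :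
    ∃ κ ∈ zpowers k, κ * t * κ⁻¹ = t * ω ∨ κ * s * t * (κ * s)⁻¹ = t * ω := by
  obtain ⟨i, rfl⟩ := hω
  have hm : ∀ m : ℤ, k ^ m ∈ zpowers k := fun m => zpow_mem (mem_zpowers k) m
  rcases Int.even_or_odd' i with ⟨m, rfl | rfl⟩
  · refine ⟨k ^ (-m), hm _, Or.inl ?_⟩
    rw [h.conj_t (hm _)]; group
  · refine ⟨k ^ (-m), hm _, Or.inr ?_⟩
    calc k ^ (-m) * s * t * (k ^ (-m) * s)⁻¹ = k ^ (-m) * (s * t * s⁻¹) * (k ^ (-m))⁻¹ := by group
      _ = k ^ (-m) * t * (k ^ (-m))⁻¹ * k := by rw [h.st]; group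
      _ = _ := by rw [h.conj_t (hm _)]; group

omit [Finite T] in
theorem Inv.decomp (h : Inv S t r k s) {x : T} (hx : x ∈ Zm (zpowers k) t) :
    ∃ κ ∈ zpowers k, ∃ c, c * t = t * c ∧ (x = κ * c ∨ x = κ * s * c) := by
  obtain ⟨κ, hκ, h1 | h1⟩ := h.exists_conj hx.2
  · refine ⟨κ, hκ, κ⁻¹ * x, ?_, Or.inl (by group)⟩
    calc κ⁻¹ * x * t = κ⁻¹ * (t * (t⁻¹ * (x * t * x⁻¹))) * x := by group
      _ = _ := by rw [← h1]; group
  · refine ⟨κ, hκ, (κ * s)⁻¹ * x, ?_, Or.inr (by group)⟩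
    calc (κ * s)⁻¹ * x * t = (κ * s)⁻¹ * (t * (t⁻¹ * (x * t * x⁻¹))) * x := by group
      _ = _ := by rw [← h1]; group

omit [Finite T] in
theorem Inv.sZ (h : Inv S t r k s) : s ∈ Zm (zpowers k) t :=
  ⟨h.sn, by rw [h.st]; simp⟩

theorem Inv.trans (h : Inv S t r k s) {ω : T} (hω : ω ∈ zpowers k) :
    ∃ x ∈ Zm (zpowers k) t, x * t * x⁻¹ = t * ω := by
  obtain ⟨κ, hκ, h1 | h1⟩ := h.exists_conj hω
  · exact ⟨κ, mem_Zm_of_mem hκ h.tn, h1⟩
  · exact ⟨κ * s, mul_mem (mem_Zm_of_mem hκ h.tn) h.sZ, h1⟩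

theorem Inv.invol (H : Hyp S t r) (h : Inv S t r k s) {x : T} (hx : x ∈ zpowers k)
    (hxx : x * x = 1) : x = 1 ∨ x = r * r :=
  H.invol (zpowers_le.mpr h.kS hx) (by
    have := h.tinv hx
    rw [inv_eq_of_mul_eq_one_right hxx] at this
    exact (mul_inv_eq_iff_eq_mul.mp this).symm) hxx

theorem Inv.zK (H : Hyp S t r) (h : Inv S t r k s) (hk : k ≠ 1) : r * r ∈ zpowers k := by
  haveI : Fact (Nat.Prime 2) := ⟨Nat.prime_two⟩
  obtain ⟨n, hn⟩ := IsPGroup.iff_orderOf.mp H.hT k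
  obtain ⟨n, rfl⟩ : ∃ m, n = m + 1 := by
    rcases n with _ | n
    · exact absurd (orderOf_eq_one_iff.mp hn) hk
    · exact ⟨n, rfl⟩
  have h1 : k ^ 2 ^ n * k ^ 2 ^ n = 1 := by
    rw [← pow_add, ← two_mul, ← pow_succ', ← hn, pow_orderOf_eq_one]
  rcases h.invol H (pow_mem (mem_zpowers k) _) h1 with h2 | h2
  · have := orderOf_dvd_of_pow_eq_one h2
    rw [hn, Nat.pow_dvd_pow_iff_le_right (by norm_num)] at this
    omega
  · exact h2 ▸ pow_mem (mem_zpowers k) _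

theorem Inv.cZr (H : Hyp S t r) (h : Inv S t r k s) {c : T} (hc : c * t = t * c) :
    c ∈ Zm (zpowers k) r := by
  have hr : zpowers r ≤ Zm (zpowers k) r := zpowers_le.mpr (mem_Zm_of_comm h.rn rfl)
  rcases H.cent' hc with h1 | h1
  · exact hr h1
  · exact (mul_mem_cancel_right (mem_Zm_of_comm h.tn H.rt.symm)).mp (hr h1)

theorem Inv.sZr (H : Hyp S t r) (h : Inv S t r k s) : s ∈ Zm (zpowers k) r := by
  by_cases hk : k = 1
  · refine h.cZr H ?_
    have := h.st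
    rwa [hk, mul_one, mul_inv_eq_iff_eq_mul] at this
  have hz := h.zK H hk
  have hrZ : r ∈ Zm (zpowers k) t := mem_Zm_of_comm h.rn H.rt
  obtain ⟨κ, hκ, c, hc, h1 | h1⟩ := h.decomp (mul_mem (mul_mem h.sZ hrZ) (inv_mem h.sZ))
  · have hcS : c ∈ S := by
      have : κ * c ∈ S := h1 ▸ H.norm.conj_mem r H.rS s
      exact (mul_mem_cancel_left (zpowers_le.mpr h.kS hκ)).mp this
    have key : c ∈ zpowers k → s ∈ Zm (zpowers k) r := fun hcK => by
      have h2 : s * r * s⁻¹ ∈ zpowers k := h1 ▸ mul_mem hκ hcK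
      have h3 : r ∈ zpowers k := by simpa [mul_assoc] using H1.conj_mem_of_mem_normalizer' h.sn h2
      exact ⟨h.sn, mul_mem (inv_mem h3) h2⟩
    have key2 : r⁻¹ * c ∈ zpowers k → s ∈ Zm (zpowers k) r := fun hcK => by
      refine ⟨h.sn, ?_⟩
      rw [h1]
      have := mul_mem (H1.conj_mem_of_mem_normalizer' h.rn hκ) hcK
      convert this using 1; group
    rcases H.mem_zpowers (H.cent c hcS hc) with h2 | h2 | h2 | h2
    · exact key (h2 ▸ one_mem _)
    · exact key2 (by rw [h2]; simp)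
    · exact key (h2 ▸ hz)
    · exact key2 (by rw [h2]; simpa [mul_assoc] using hz)
  · have h2 : s = c⁻¹ * (s⁻¹ * κ⁻¹ * s) * r := by
      rw [show κ = s * r * s⁻¹ * c⁻¹ * s⁻¹ by rw [h1]; group]; group
    rw [h2]
    exact mul_mem (mul_mem (inv_mem (h.cZr H hc)) (mem_Zm_of_mem
      (H1.conj_mem_of_mem_normalizer' h.sn (inv_mem hκ)) h.rn)) (mem_Zm_of_comm h.rn rfl)

theorem Inv.le_Zm (h : Inv S t r k s) (H : Hyp S t r) {g : T}
    (hg : g ∈ normalizer (zpowers k : Set T)) (h1 : t ∈ Zm (zpowers k) g)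
    (h2 : r ∈ Zm (zpowers k) g) (h3 : s ∈ Zm (zpowers k) g) :
    Zm (zpowers k) t ≤ Zm (zpowers k) g := by
  intro x hx
  obtain ⟨κ, hκ, c, hc, h4⟩ := h.decomp hx
  have hcZ : c ∈ Zm (zpowers k) g := by
    rcases H.cent' hc with h5 | h5
    · exact zpowers_le.mpr h2 h5
    · exact (mul_mem_cancel_right h1).mp (zpowers_le.mpr h2 h5)
  rcases h4 with rfl | rfl
  · exact mul_mem (mem_Zm_of_mem hκ hg) hcZ
  · exact mul_mem (mul_mem (mem_Zm_of_mem hκ hg) h3) hcZ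

theorem Inv.comm (h : Inv S t r k s) (H : Hyp S t r) {x y : T} (hx : x ∈ Zm (zpowers k) t)
    (hy : y ∈ Zm (zpowers k) t) : x ∈ Zm (zpowers k) y := by
  have h1 := h.le_Zm H h.rn (mem_Zm_of_comm h.tn H.rt.symm) (mem_Zm_of_comm h.rn rfl) (h.sZr H)
  have h2 := h.le_Zm H h.sn (Zm_symm h.sZ h.tn) (Zm_symm (h.sZr H) h.rn) (mem_Zm_of_comm h.sn rfl)
  exact h.le_Zm H hy.1 (Zm_symm hy h.tn) (Zm_symm (h1 hy) h.rn) (Zm_symm (h2 hy) h.sn) hx

theorem Hyp.odd_gen (H : Hyp S t r) (k : T) (m : ℤ) : k ∈ zpowers (k ^ (2 * m + 1)) := by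
  haveI : Fact (Nat.Prime 2) := ⟨Nat.prime_two⟩
  obtain ⟨n, hn⟩ := IsPGroup.iff_orderOf.mp H.hT k
  rw [mem_zpowers_zpow_iff, hn, ← Int.isCoprime_iff_gcd_eq_one, Nat.cast_pow]
  exact IsCoprime.pow_right ⟨1, -m, by push_cast; ring⟩

theorem Inv.step (h : Inv S t r k s) (H : Hyp S t r) (hne : Zm (zpowers k) t ≠ ⊤) :
    ∃ w y, Inv S t r w y ∧ zpowers k < zpowers w := by
  haveI : Fact (Nat.Prime 2) := ⟨Nat.prime_two⟩
  set K := zpowers k with hK
  set N := Zm K t with hN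
  obtain ⟨y, hyN, hy1, hy2⟩ : ∃ y ∈ normalizer (N : Set T), y ∉ N ∧ y * y ∈ N := by
    obtain ⟨y, ⟨-, hy⟩, hy'⟩ := SetLike.exists_of_lt
      (H1.lt_inf_normalizer_of_isPGroup (H.hT.to_subgroup ⊤) (lt_top_iff_ne_top.mpr hne))
    classical
    have hex : ∃ n, y ^ 2 ^ n ∈ N := by
      obtain ⟨n, hn⟩ := H.hT y
      exact ⟨n, hn ▸ one_mem _⟩
    have h0 : Nat.find hex ≠ 0 := fun h0 => hy' (by simpa [h0] using Nat.find_spec hex)
    obtain ⟨m, hm⟩ := Nat.exists_eq_succ_of_ne_zero h0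
    refine ⟨y ^ 2 ^ m, pow_mem hy _, Nat.find_min hex (by omega), ?_⟩
    have := Nat.find_spec hex
    rwa [hm, pow_succ, pow_mul, sq] at this
  have htN : t ∈ N := mem_Zm_of_comm h.tn rfl
  have hyt : y * t * y⁻¹ ∈ N := H1.conj_mem_of_mem_normalizer hyN htN
  set w := t⁻¹ * (y * t * y⁻¹) with hw
  have hwN : w ∈ N := mul_mem (inv_mem htN) hyt
  have hwy : y * t * y⁻¹ = t * w := by rw [hw]; group
  have hwS : w ∈ S := by
    rcases H.idx y with h1 | h1
    · have := mul_mem (H.norm.conj_mem' y h1 t) (inv_mem h1)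
      convert this using 1; rw [hw]; group
    · have := mul_mem (H.norm.conj_mem' _ h1 t) (inv_mem h1)
      convert this using 1; rw [hw]; group
  have hwK : w ∉ K := fun hwK => by
    obtain ⟨x, hx, hx2⟩ := h.trans hwK
    have h1 : x⁻¹ * y * t = t * (x⁻¹ * y) := by
      calc x⁻¹ * y * t = x⁻¹ * (y * t * y⁻¹) * y := by group
        _ = _ := by rw [hwy, ← hx2]; group
    exact hy1 ((mul_mem_cancel_left (inv_mem hx)).mp (mem_Zm_of_comm (h.cn H h1) h1))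
  have hyK : ∀ g ∈ normalizer (N : Set T), ∀ κ ∈ K, g * κ * g⁻¹ ∈ K := fun g hg κ hκ => by
    obtain ⟨x, hx, hx2⟩ := h.trans hκ
    have := (h.comm H (H1.conj_mem_of_mem_normalizer hg hx)
      (H1.conj_mem_of_mem_normalizer hg htN)).2
    convert this using 1
    rw [show κ = t⁻¹ * (x * t * x⁻¹) by rw [hx2]; group]; group
  have hinv : ∀ κ ∈ K, t * (w * κ) * t⁻¹ = (w * κ)⁻¹ := fun κ hκ => by
    obtain ⟨x, hx, hx2⟩ := h.trans (hyK y⁻¹ (inv_mem hyN) κ hκ)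
    have h1 : t * (w * κ) = y * x * t * (y * x)⁻¹ := by
      calc t * (w * κ) = y * (t * (y⁻¹ * κ * y⁻¹⁻¹)) * y⁻¹ := by rw [← mul_assoc, ← hwy]; group
        _ = _ := by rw [← hx2]; group
    have h2 : t * (w * κ) * (t * (w * κ)) = 1 := by
      rw [h1]
      calc _ = y * x * (t * t) * (y * x)⁻¹ := by group
        _ = 1 := by rw [H.tt]; group
    rw [H.tinv, eq_inv_iff_mul_eq_one, ← h2]; group
  have htw : t * w * t⁻¹ = w⁻¹ := by simpa using hinv 1 (one_mem _)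
  have hcomm : ∀ κ ∈ K, w * κ = κ * w := fun κ hκ => by
    have h1 := hinv κ hκ
    rw [show t * (w * κ) * t⁻¹ = (t * w * t⁻¹) * (t * κ * t⁻¹) by group, htw, h.tinv hκ,
      ← mul_inv_rev, inv_inj] at h1
    exact h1.symm
  have hww : w * w ∈ K := by
    have := inv_mem (h.comm H htN hwN).2
    rwa [htw, mul_inv_rev, inv_inv] at this
  have hkw : k ∈ zpowers w := by
    obtain ⟨i, hi⟩ := hww
    simp only at hi
    rcases Int.even_or_odd' i with ⟨m, rfl | rfl⟩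
    · have hm : k ^ (-m) ∈ K := zpow_mem (mem_zpowers k) _
      have h1 : w * k ^ (-m) * (w * k ^ (-m)) = 1 := by
        calc _ = w * (k ^ (-m) * w) * k ^ (-m) := by group
          _ = w * w * k ^ (-m) * k ^ (-m) := by rw [← hcomm _ hm]; group
          _ = 1 := by rw [← hi]; group
      have h2 : w * k ^ (-m) * t = t * (w * k ^ (-m)) := by
        have := hinv _ hm
        rw [inv_eq_of_mul_eq_one_right h1] at this
        exact (mul_inv_eq_iff_eq_mul.mp this).symm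
      by_cases hk : k = 1
      · rw [hk]; exact one_mem _
      rcases H.invol (mul_mem hwS (zpowers_le.mpr h.kS hm)) h2 h1 with h3 | h3
      · exact absurd ((mul_mem_cancel_right hm).mp (h3 ▸ one_mem K)) hwK
      · exact absurd ((mul_mem_cancel_right hm).mp (h3 ▸ h.zK H hk)) hwK
    · exact zpowers_le.mpr (hi ▸ mul_mem (mem_zpowers w) (mem_zpowers w)) (H.odd_gen k m)
  have hKw : K ≤ zpowers w := zpowers_le.mpr hkw
  have hnorm : ∀ g : T, g * w * g⁻¹ ∈ zpowers w → g ∈ normalizer (zpowers w : Set T) :=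
    fun g hg => H1.mem_normalizer_of_conj_mem (by
      rintro _ ⟨i, rfl⟩
      simp only
      rw [← conj_zpow]; exact zpow_mem hg i)
  refine ⟨w, y, ⟨hwS, htw, hnorm r ?_, hnorm y ?_, hwy⟩, lt_of_le_of_ne hKw fun he => hwK ?_⟩
  · have := mul_mem (mem_zpowers w) (hKw (h.comm H (mem_Zm_of_comm h.rn H.rt) hwN).2)
    rwa [mul_inv_cancel_left] at this
  · have := mul_mem (inv_mem (mem_zpowers w)) (hKw hy2.2)
    convert this using 1
    rw [hw]; group
  · rw [he]; exact mem_zpowers w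

/-- The structure theorem. -/
theorem Hyp.exists_inv (H : Hyp S t r) :
    ∃ k s, Inv S t r k s ∧ s ∈ S ∧ Zm (zpowers k) t = ⊤ := by
  have h0 : Inv S t r 1 1 := ⟨one_mem _, by simp, H1.mem_normalizer_of_conj_mem (by simp), one_mem _, by simp⟩
  obtain ⟨K, ⟨k, s, h, rfl⟩, hmax⟩ := (Set.toFinite {K : Subgroup T | ∃ k s, Inv S t r k s ∧
    zpowers k = K}).exists_maximal ⟨_, 1, 1, h0, rfl⟩
  have htop : Zm (zpowers k) t = ⊤ := by
    by_contra hne
    obtain ⟨w, y, h1, h2⟩ := h.step H hne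
    exact h2.not_ge (hmax ⟨w, y, h1, rfl⟩ h2.le)
  rcases H.idx s with h1 | h1
  · exact ⟨k, s, h, h1, htop⟩
  · exact ⟨k, s * t, ⟨h.kS, h.tk, h.rn, mul_mem h.sn h.tn, by rw [← h.st]; group⟩, h1, htop⟩

end Cfsg.Agent.H3.C4
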