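import Cfsg.Agent.H3.Cent4

/-! Continuation of `Cent4`: coordinates on `T / [T, t]` and the action on `[T, t]`. -/

set_option autoImplicit false

namespace Cfsg.Agent.H3.C4

open Subgroup

/-- The homomorphism `±1 → Q` sending `-1` to `q`. -/
def sg {Q : Type*} [Group Q] (q : Q) (h : q * q = 1) : ℤˣ →* Q where
  toFun e := if e = 1 then 1 else q
  map_one' := if_pos rfl
  map_mul' a b := by
    rcases Int.units_eq_one_or a with rfl | rfl <;> rcases Int.units_eq_one_or b with rfl | rfl <;>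
      simp [h]

theorem exists_coord {Q : Type*} [CommGroup Q] {a b c : Q} (ha : a * a = 1) (hb : b * b = 1)
    (hc : c * c = 1) (h1 : b ≠ 1) (h2 : c ≠ 1) (h3 : b * c ≠ 1) (h4 : a ≠ 1) (h5 : a * b ≠ 1)
    (h6 : a * c ≠ 1) (h7 : a * (b * c) ≠ 1)
    (gen : ∀ q, (q = 1 ∨ q = b ∨ q = c ∨ q = b * c) ∨
      (q = a ∨ q = a * b ∨ q = a * c ∨ q = a * (b * c))) :
    ∃ χ : Q →* ℤˣ × ℤˣ × ℤˣ, (∀ x, χ x = 1 → x = 1) ∧ χ a = (-1, 1, 1) ∧ χ b = (1, -1, 1) ∧
      χ c = (1, 1, -1) := by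
  let ψ : ℤˣ × ℤˣ × ℤˣ →* Q := (sg a ha).coprod ((sg b hb).coprod (sg c hc))
  have hψ : ∀ e1 e2 e3, ψ (e1, e2, e3) =
      (if e1 = 1 then 1 else a) * ((if e2 = 1 then 1 else b) * (if e3 = 1 then 1 else c)) :=
    fun _ _ _ => rfl
  have hinj : Function.Injective ψ := by
    rw [injective_iff_map_eq_one]
    rintro ⟨e1, e2, e3⟩
    rw [hψ]
    rcases Int.units_eq_one_or e1 with rfl | rfl <;> rcases Int.units_eq_one_or e2 with rfl | rfl <;>
      rcases Int.units_eq_one_or e3 with rfl | rfl <;> simp [*]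
  have hsurj : Function.Surjective ψ := by
    intro q
    rcases gen q with (rfl | rfl | rfl | rfl) | (rfl | rfl | rfl | rfl)
    · exact ⟨(1, 1, 1), by rw [hψ]; simp⟩
    · exact ⟨(1, -1, 1), by rw [hψ]; simp⟩
    · exact ⟨(1, 1, -1), by rw [hψ]; simp⟩
    · exact ⟨(1, -1, -1), by rw [hψ]; simp⟩
    · exact ⟨(-1, 1, 1), by rw [hψ]; simp⟩
    · exact ⟨(-1, -1, 1), by rw [hψ]; simp⟩
    · exact ⟨(-1, 1, -1), by rw [hψ]; simp⟩
    · exact ⟨(-1, -1, -1), by rw [hψ]; simp⟩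
  let e := MulEquiv.ofBijective ψ ⟨hinj, hsurj⟩
  refine ⟨e.symm.toMonoidHom, fun x hx => e.symm.map_eq_one_iff.mp hx, ?_, ?_, ?_⟩ <;>
    refine e.symm_apply_eq.mpr (Eq.trans ?_ (hψ _ _ _).symm) <;> simp

variable {T : Type*} [Group T] [Finite T] {S : Subgroup T} {t r k s : T}

/-- The final state of the induction. -/
structure St0 (S : Subgroup T) (t r k s : T) : Prop where
  H : Hyp S t r
  I : Inv S t r k s
  sS : s ∈ S
  top : Zm (zpowers k) t = ⊤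
  k1 : k ≠ 1

omit [Finite T] in
theorem St0.mem (h : St0 S t r k s) (x : T) : x ∈ Zm (zpowers k) t := h.top ▸ mem_top x

omit [Finite T] in
theorem St0.normal (h : St0 S t r k s) : (zpowers k).Normal :=
  ⟨fun _ hx g => H1.conj_mem_of_mem_normalizer (h.mem g).1 hx⟩

theorem St0.comm (h : St0 S t r k s) (x y : T) : y⁻¹ * (x * y * x⁻¹) ∈ zpowers k :=
  (h.I.comm h.H (h.mem x) (h.mem y)).2

theorem St0.zK (h : St0 S t r k s) : r * r ∈ zpowers k := h.I.zK h.H h.k1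

theorem St0.zc (h : St0 S t r k s) (g : T) : g * (r * r) = r * r * g := by
  rcases h.I.invol h.H (h.normal.conj_mem _ h.zK g) (by
    calc _ = g * (r * r * (r * r)) * g⁻¹ := by group
      _ = 1 := by rw [h.H.r_pow]; group) with h1 | h1
  · exact absurd (by simpa using h1) h.H.z_ne
  · exact mul_inv_eq_iff_eq_mul.mp h1

theorem St0.not_sq (h : St0 S t r k s) {κ : T} (hκ : κ ∈ zpowers k) : κ * κ ≠ k := by
  obtain ⟨i, rfl⟩ := hκ
  intro h1
  have h2 : k ^ (2 * (i - 1) + 1) = 1 := by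
    calc k ^ (2 * (i - 1) + 1) = k ^ i * k ^ i * k⁻¹ := by group
      _ = 1 := by simp only at h1; rw [h1, mul_inv_cancel]
  have := h.H.odd_gen k (i - 1)
  rw [h2, zpowers_one_eq_bot, mem_bot] at this
  exact h.k1 this

omit [Finite T] in
theorem St0.rK (h : St0 S t r k s) : r ∉ zpowers k := fun hr => by
  have := h.I.tinv hr
  rw [← h.H.rt, mul_inv_cancel_right, eq_inv_iff_mul_eq_one] at this
  exact h.H.z_ne this

theorem St0.sK (h : St0 S t r k s) {κ c : T} (hκ : κ ∈ zpowers k) (hc : c * t = t * c) :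
    s ≠ κ * c := fun h1 => by
  have h2 := h.I.st
  rw [h1, show κ * c * t * (κ * c)⁻¹ = κ * (c * t) * (κ * c)⁻¹ by group, hc,
    show κ * (t * c) * (κ * c)⁻¹ = κ * t * κ⁻¹ by group, h.I.conj_t hκ, mul_right_inj] at h2
  exact h.not_sq (inv_mem hκ) h2

omit [Finite T] in
theorem St0.swap (h : St0 S t r k s) : St0 S t r k (s * r) :=
  ⟨h.H, ⟨h.I.kS, h.I.tk, h.I.rn, mul_mem h.I.sn h.I.rn, by
    rw [← h.I.st, mul_assoc s r t, h.H.rt]; group⟩, mul_mem h.sS h.H.rS, h.top, h.k1⟩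

theorem St0.cos (h : St0 S t r k s) {x : T} (hx : x ∈ S) :
    ∃ κ ∈ zpowers k, x = κ ∨ x = κ * r ∨ x = κ * s ∨ x = κ * (s * r) := by
  have hK : zpowers k ≤ S := zpowers_le.mpr h.I.kS
  obtain ⟨κ, hκ, c, hc, h1 | h1⟩ := h.I.decomp (h.mem x)
  · have hcS : c ∈ S := (mul_mem_cancel_left (hK hκ)).mp (h1 ▸ hx)
    rcases h.H.mem_zpowers (h.H.cent c hcS hc) with rfl | rfl | rfl | rfl
    · exact ⟨κ, hκ, Or.inl (by simpa using h1)⟩
    · exact ⟨κ, hκ, Or.inr (Or.inl h1)⟩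
    · exact ⟨_, mul_mem hκ h.zK, Or.inl h1⟩
    · exact ⟨_, mul_mem hκ h.zK, Or.inr (Or.inl (by rw [h1]; group))⟩
  · have hcS : c ∈ S := (mul_mem_cancel_left (mul_mem (hK hκ) h.sS)).mp (h1 ▸ hx)
    rcases h.H.mem_zpowers (h.H.cent c hcS hc) with rfl | rfl | rfl | rfl
    · exact ⟨κ, hκ, Or.inr (Or.inr (Or.inl (by simpa using h1)))⟩
    · exact ⟨κ, hκ, Or.inr (Or.inr (Or.inr (by rw [h1]; group)))⟩
    · exact ⟨_, mul_mem hκ h.zK, Or.inr (Or.inr (Or.inl (by rw [h1, mul_assoc, h.zc]; group)))⟩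
    · exact ⟨_, mul_mem hκ h.zK, Or.inr (Or.inr (Or.inr (by
        rw [h1, mul_assoc κ, ← mul_assoc s, h.zc]; group)))⟩

theorem St0.cyc (h : St0 S t r k s) (hs : s * s ∉ zpowers k) {x : T} (hx : x ∈ S) :
    ∃ i : ℕ, x * (s ^ i)⁻¹ ∈ zpowers k := by
  obtain ⟨μ, hμ, h1⟩ : ∃ μ ∈ zpowers k, r = μ * (s * s) := by
    obtain ⟨κ, hκ, h1 | h1 | h1 | h1⟩ := h.cos (mul_mem h.sS h.sS)
    · exact absurd (h1 ▸ hκ) hs
    · exact ⟨κ⁻¹, inv_mem hκ, by rw [h1]; group⟩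
    · exact absurd (by simpa using mul_right_cancel h1) (h.sK hκ (c := 1) (by simp))
    · refine absurd ?_ (h.sK (h.normal.conj_mem' κ hκ s) h.H.rt)
      calc s = s⁻¹ * (s * s) := by group
        _ = _ := by rw [h1]; group
  obtain ⟨κ, hκ, rfl | rfl | rfl | rfl⟩ := h.cos hx
  · exact ⟨0, by simpa using hκ⟩
  · exact ⟨2, by rw [h1, sq]; simpa [mul_assoc] using mul_mem hκ hμ⟩
  · exact ⟨1, by simpa using hκ⟩
  · refine ⟨3, ?_⟩
    have := mul_mem hκ (h.normal.conj_mem μ hμ s)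
    convert this using 1
    nth_rewrite 1 [h1]; group

theorem St0.chi (h : St0 S t r k s) (hs : s * s ∈ zpowers k) :
    ∃ χ : T →* ℤˣ × ℤˣ × ℤˣ, (∀ x, χ x = 1 ↔ x ∈ zpowers k) ∧ χ t = (-1, 1, 1) ∧
      χ r = (1, -1, 1) ∧ χ s = (1, 1, -1) ∧ ∀ x, x ∈ S ↔ (χ x).1 = 1 := by
  haveI := h.normal
  let π := QuotientGroup.mk' (zpowers k)
  have hπ : ∀ x, π x = 1 ↔ x ∈ zpowers k := fun x => QuotientGroup.eq_one_iff x
  letI : CommGroup (T ⧸ zpowers k) :=
    { (inferInstance : Group (T ⧸ zpowers k)) with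
      mul_comm := by
        intro a b
        obtain ⟨a, rfl⟩ := QuotientGroup.mk'_surjective _ a
        obtain ⟨b, rfl⟩ := QuotientGroup.mk'_surjective _ b
        have := (hπ _).mpr (h.comm a b)
        simp only [map_mul, map_inv] at this
        rwa [inv_mul_eq_one, eq_mul_inv_iff_mul_eq, eq_comm] at this }
  have hK : zpowers k ≤ S := zpowers_le.mpr h.I.kS
  have hS : ∀ x ∈ S, π x = 1 ∨ π x = π r ∨ π x = π s ∨ π x = π r * π s := fun x hx => by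
    obtain ⟨κ, hκ, rfl | rfl | rfl | rfl⟩ := h.cos hx <;> simp [(hπ _).mpr hκ, mul_comm]
  have ht : ∀ x ∈ S, π t * π x ≠ 1 := fun x hx h1 =>
    h.H.tS ((mul_mem_cancel_right hx).mp (hK ((hπ _).mp (by rw [map_mul, h1]))))
  have htt : π t * π t = 1 := by rw [← map_mul, h.H.tt, map_one]
  obtain ⟨χ, h1, h2, h3, h4⟩ := exists_coord (a := π t) (b := π r) (c := π s) htt
    (by rw [← map_mul, hπ]; exact h.zK) (by rw [← map_mul, hπ]; exact hs)
    (fun h1 => h.rK ((hπ _).mp h1))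
    (fun h1 => h.sK ((hπ _).mp h1) (c := 1) (by simp) (by simp))
    (fun h1 => h.sK (κ := s * r) (c := r⁻¹) ((hπ _).mp (by rw [map_mul, mul_comm, h1]))
      (show Commute r t from h.H.rt).inv_left.eq (by simp))
    (by simpa using ht 1 (one_mem _)) (ht r h.H.rS) (ht s h.sS)
    (by simpa using ht _ (mul_mem h.H.rS h.sS)) (fun q => by
      obtain ⟨x, rfl⟩ := QuotientGroup.mk'_surjective _ q
      rcases h.H.idx x with h1 | h1
      · exact Or.inl (hS x h1)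
      · right
        have h2 : π x = π t * π (x * t) := by rw [map_mul, mul_left_comm, htt, mul_one]
        change π x = _ ∨ π x = _ ∨ π x = _ ∨ π x = _
        rcases hS _ h1 with h3 | h3 | h3 | h3 <;> rw [h3] at h2 <;> simp only [h2, mul_one] <;> simp)
  have hker : ∀ x, (χ.comp π) x = 1 ↔ x ∈ zpowers k := fun x =>
    ⟨fun hx => (hπ x).mp (h1 _ hx), fun hx => by simp [(hπ x).mpr hx]⟩
  have hS' : ∀ x ∈ S, ((χ.comp π) x).1 = 1 := fun x hx => by
    rcases hS x hx with h5 | h5 | h5 | h5 <;> simp [h5, h3, h4]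
  refine ⟨χ.comp π, hker, h2, h3, h4, fun x => ⟨hS' x, fun hx => ?_⟩⟩
  refine (h.H.idx x).resolve_right fun h5 => ?_
  have := hS' _ h5
  rw [map_mul, Prod.fst_mul, hx, MonoidHom.comp_apply, h2] at this
  simp at this

theorem St0.sqK (h : St0 S t r k s) (hs : s * s ∈ zpowers k) (x : T) : x * x ∈ zpowers k := by
  obtain ⟨χ, h1, -⟩ := h.chi hs
  rw [← h1, map_mul]
  ext <;> simp

omit [Finite T] in
theorem St0.tst (h : St0 S t r k s) : t * s * t⁻¹ = k * s := by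
  have h1 := h.I.st
  calc t * s * t⁻¹ = t * (s * t * s⁻¹) * s := by rw [h.H.tinv]; group
    _ = _ := by rw [h1, ← mul_assoc, h.H.tt, one_mul]

theorem St0.act (h : St0 S t r k s) (hs : s * s ∈ zpowers k) :
    ((∀ κ ∈ zpowers k, s * κ = κ * s) ∧ (s * s * k = 1 ∨ s * s * k = r * r)) ∨
      ∀ κ ∈ zpowers k, s * κ * s⁻¹ = κ⁻¹ := by
  have hc : ∀ x ∈ zpowers k, ∀ y ∈ zpowers k, x * y = y * x := by
    rintro _ ⟨i, rfl⟩ _ ⟨j, rfl⟩
    exact zpow_mul_comm k i j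
  have hk := mem_zpowers k
  have h1 : s * k * s⁻¹ = k⁻¹ * (s * s)⁻¹ * (s * s)⁻¹ := by
    have h2 := h.I.tinv hs
    rw [show t * (s * s) * t⁻¹ = (t * s * t⁻¹) * (t * s * t⁻¹) by group, h.tst] at h2
    calc s * k * s⁻¹ = k⁻¹ * (k * s * (k * s)) * (s * s)⁻¹ := by group
      _ = _ := by rw [h2]
  obtain ⟨i, hi⟩ := id hs
  simp only at hi
  rcases Int.even_or_odd' i with ⟨m, rfl | rfl⟩
  · right
    have h2 : s * k ^ (2 * m) * s⁻¹ = k ^ (2 * m) := by rw [hi]; group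
    rw [← hi, show k⁻¹ * (k ^ (2 * m))⁻¹ * (k ^ (2 * m))⁻¹ = k ^ (-1 - 4 * m) by group] at h1
    rw [← conj_zpow, h1, ← zpow_mul] at h2
    have h3 : (k ^ (4 * m)) ^ (2 * m + 1) = 1 := by
      calc _ = k ^ (2 * m) * (k ^ ((-1 - 4 * m) * (2 * m)))⁻¹ := by group
        _ = 1 := by rw [h2, mul_inv_cancel]
    have h4 := h.H.odd_gen (k ^ (4 * m)) m
    rw [h3, zpowers_one_eq_bot, mem_bot] at h4
    rw [zpow_sub, h4, zpow_neg_one, inv_one, mul_one] at h1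
    rintro _ ⟨j, rfl⟩
    simp only
    rw [← conj_zpow, h1, inv_zpow]
  · left
    have h2 : ∀ κ ∈ zpowers k, s * κ = κ * s := fun κ hκ => by
      obtain ⟨j, rfl⟩ := zpowers_le.mpr (hi ▸ h.H.odd_gen k m) hκ
      exact ((Commute.refl s).mul_right (Commute.refl s)).zpow_right j
    refine ⟨h2, h.I.invol h.H (mul_mem hs hk) ?_⟩
    rw [h2 k hk, mul_inv_cancel_right] at h1
    calc s * s * k * (s * s * k) = s * s * (k * (s * s)) * k := by group
      _ = s * s * (s * s) * k * k := by rw [← hc _ hs k hk]; group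
      _ = s * s * (s * s) * k * (k⁻¹ * (s * s)⁻¹ * (s * s)⁻¹) := by rw [← h1]
      _ = 1 := by group

end Cfsg.Agent.H3.C4
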