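import Cfsg.Agent.H3.Cent4b

/-! Continuation of `Cent4`: the fusion analysis. -/

set_option autoImplicit false

namespace Cfsg.Agent.H3.C4

open Subgroup

variable {T : Type*} [Group T] [Finite T] {S : Subgroup T} {t r k s : T} {F : T → T → Prop}

/-- What is used about fusion in `T`. -/
structure Fus (S : Subgroup T) (t : T) (F : T → T → Prop) : Prop where
  conj : ∀ g x, F x (g * x * g⁻¹)
  symm : ∀ {x y}, F x y → F y x
  trans : ∀ {x y z}, F x y → F y z → F x z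
  memS : ∀ {x y}, F x y → x ∈ S → y ∈ S
  sq : ∀ {x y}, F x y → x * x = 1 → y * y = 1
  one : ∀ {x}, F x 1 → x = 1
  transfer : ∀ (φ : T →* ℤˣ) (x y : T), x * x = 1 → y * y = 1 → x⁻¹ * y ∈ S →
    (∀ x', F x x' → φ x' = 1) → ∃ y', F y y' ∧ φ y' = 1
  cent : ∀ t', F t t' → ∀ a ∈ S, ∀ b ∈ S, a * a = 1 → b * b = 1 → a ≠ 1 → b ≠ 1 →
    a * b = b * a → a * t' = t' * a → b * t' = t' * b → a = b
  ext : ∀ u z f, (∀ g, g * z = z * g) → F u z → f * u = u * f →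
    ∃ f', F (f * f) (f' * f') ∧ (f' * f' = z → f * f = u)
  extA : ∀ w u z y, u ∈ S → (∀ x ∈ S, x * u = u * x) → z ∈ S → (∀ g, g * z = z * g) →
    y ∈ S → y * w * y⁻¹ = w * z → F w u → (∀ z', F z z' → z' = z) → z = 1

/-- The state with `S / K` a four-group. -/
structure St (S : Subgroup T) (t r k s : T) (F : T → T → Prop) : Prop extends St0 S t r k s where
  ss : s * s ∈ zpowers k
  fus : Fus S t F

theorem St.swap' (h : St S t r k s F) : St S t r k (s * r) F :=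
  ⟨h.swap, h.sqK h.ss _, h.fus⟩

theorem St.sqlem (h : St S t r k s F) {u f : T} (hu : u ≠ r * r) (hf : f * u = u * f)
    (hff : f * f = r * r) : ¬ F u (r * r) := fun hF => by
  obtain ⟨f', h1, h2⟩ := h.fus.ext u _ f h.zc hF hf
  rw [hff] at h1 h2
  rcases h.I.invol h.H (h.sqK h.ss f') (h.fus.sq h1 h.H.r_pow) with h3 | h3
  · exact h.H.z_ne (h.fus.one (h3 ▸ h1))
  · exact hu (h2 h3).symm

theorem St.loc (h : St S t r k s F) {x : T} (hx : x ∈ S) (hxx : x * x = 1) (hx1 : x ≠ 1) :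
    x = r * r ∨ ∃ κ ∈ zpowers k, x = κ * r ∨ x = κ * s ∨ x = κ * (s * r) := by
  obtain ⟨κ, hκ, h1 | h1⟩ := h.cos hx
  · exact Or.inl ((h.I.invol h.H (h1 ▸ hκ) hxx).resolve_left hx1)
  · exact Or.inr ⟨κ, hκ, h1⟩

theorem St.tt (h : St S t r k s F) (φ : T →* ℤˣ) {u : T} (hu : u ∈ S) (huu : u * u = 1)
    (hu1 : u ≠ 1) : ∃ v, F u v ∧ v * v = 1 ∧ φ v = 1 ∧
      (v = r * r ∨ ∃ κ ∈ zpowers k, v = κ * r ∨ v = κ * s ∨ v = κ * (s * r)) := by
  obtain ⟨v, h1, h2⟩ := h.fus.transfer φ 1 u (mul_one 1) huu (by simpa using hu)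
    (fun x' hx' => by rw [h.fus.one (h.fus.symm hx'), map_one])
  exact ⟨v, h1, h.fus.sq h1 huu, h2, h.loc (h.fus.memS h1 hu) (h.fus.sq h1 huu)
    fun h3 => hu1 (h.fus.one (h3 ▸ h1))⟩

theorem St.tt2 (h : St S t r k s F) {u : T} (hu : u ∈ S) (huu : u * u = 1) (hu1 : u ≠ 1) :
    F u (r * r) ∨ ∃ κ ∈ zpowers k, F u (κ * s) ∧ κ * s * (κ * s) = 1 := by
  obtain ⟨χ, h1, -, h2, h3, -⟩ := h.chi h.ss
  obtain ⟨v, h4, h5, h6, rfl | ⟨κ, hκ, rfl | rfl | rfl⟩⟩ :=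
    h.tt ((MonoidHom.fst _ _).comp ((MonoidHom.snd _ _).comp χ)) hu huu hu1
  · exact Or.inl h4
  · simp [(h1 κ).mpr hκ, h2] at h6
  · exact Or.inr ⟨κ, hκ, h4, h5⟩
  · simp [(h1 κ).mpr hκ, h2, h3] at h6

theorem St.tt3 (h : St S t r k s F) {u : T} (hu : u ∈ S) (huu : u * u = 1) (hu1 : u ≠ 1) :
    F u (r * r) ∨ ∃ κ ∈ zpowers k, κ * r * (κ * r) = 1 := by
  obtain ⟨χ, h1, -, h2, h3, -⟩ := h.chi h.ss
  obtain ⟨v, h4, h5, h6, rfl | ⟨κ, hκ, rfl | rfl | rfl⟩⟩ :=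
    h.tt ((MonoidHom.snd _ _).comp ((MonoidHom.snd _ _).comp χ)) hu huu hu1
  · exact Or.inl h4
  · exact Or.inr ⟨κ, hκ, h5⟩
  · simp [(h1 κ).mpr hκ, h3] at h6
  · simp [(h1 κ).mpr hκ, h2, h3] at h6

omit [Finite T] in
theorem zp_comm {x y : T} (hx : x ∈ zpowers k) (hy : y ∈ zpowers k) : x * y = y * x := by
  obtain ⟨i, rfl⟩ := hx
  obtain ⟨j, rfl⟩ := hy
  exact zpow_mul_comm k i j

omit [Finite T] in
theorem St.trtr (h : St S t r k s F) : t * r * (t * r) = r * r := by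
  rw [mul_assoc, ← mul_assoc r, h.H.rt, ← mul_assoc, ← mul_assoc, h.H.tt, one_mul]

/-- The case `|K| = 2`. -/
theorem St.case_small (h : St S t r k s F) (hk : k * k = 1) {a : T} (ha : a ∈ S)
    (haa : a * a = 1) (ha1 : a ≠ 1) (haz : a ≠ r * r) : False := by
  have hK : ∀ κ ∈ zpowers k, κ = 1 ∨ κ = r * r := fun κ hκ => h.I.invol h.H hκ (by
    obtain ⟨i, rfl⟩ := hκ
    simp only
    rw [← (Commute.refl k).mul_zpow, hk, one_zpow])
  rcases h.tt3 ha haa ha1 with hF | ⟨κ, hκ, h1⟩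
  · have h1 : a * t * a⁻¹ = t * (r * r) := by
      rcases hK _ (h.comm a t) with h1 | h1
      · rw [inv_mul_eq_one, eq_mul_inv_iff_mul_eq] at h1
        exact absurd (h.H.invol ha h1.symm haa) (not_or.mpr ⟨ha1, haz⟩)
      · rw [← h1]; group
    rcases hK _ (h.comm a r) with h2 | h2
    · rw [inv_mul_eq_one, eq_mul_inv_iff_mul_eq] at h2
      exact h.sqlem haz h2 rfl hF
    · refine h.sqlem haz (f := t * r) ?_ h.trtr hF
      rw [inv_mul_eq_iff_eq_mul] at h2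
      rw [← mul_inv_eq_iff_eq_mul.mp (?_ : a * (t * r) * a⁻¹ = t * r)]
      calc a * (t * r) * a⁻¹ = a * t * a⁻¹ * (a * r * a⁻¹) := by group
        _ = t * r * (r * r * (r * r)) := by rw [h1, h2]; group
        _ = _ := by rw [h.H.r_pow, mul_one]
  · refine h.H.z_ne ?_
    rcases hK κ hκ with rfl | rfl
    · simpa using h1
    · calc r * r = r * r * (r * r * (r * r)) := by rw [h.H.r_pow, mul_one]
        _ = 1 := by rw [← h1]; group

theorem St.exists_y (h : St S t r k s F) (hk : k * k ≠ 1) :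
    ∃ y ∈ zpowers k, y * y = r * r := by
  obtain ⟨i, hi⟩ := h.zK
  simp only at hi
  rcases Int.even_or_odd' i with ⟨m, rfl | rfl⟩
  · exact ⟨k ^ m, zpow_mem (mem_zpowers k) m, by rw [← hi]; group⟩
  · obtain ⟨j, hj⟩ := h.H.odd_gen k m
    simp only at hj
    refine absurd ?_ hk
    rw [← hj, hi, ← (Commute.refl _).mul_zpow, h.H.r_pow, one_zpow]

theorem St.no_inv (h : St S t r k s F) {y : T} (hy : y ∈ zpowers k) (hyy : y * y = r * r)
    (hc : ∀ κ ∈ zpowers k, s * κ = κ * s) (hs : s * s * k = 1 ∨ s * s * k = r * r) {κ : T}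
    (hκ : κ ∈ zpowers k) : κ * s * (κ * s) ≠ 1 := fun h1 => by
  have h2 : s * s = (κ * κ)⁻¹ := by
    rw [eq_inv_iff_mul_eq_one, ← h1]
    calc s * s * (κ * κ) = s * (s * κ) * κ := by group
      _ = s * κ * (s * κ) := by rw [hc κ hκ, ← mul_assoc, mul_assoc (s * κ), hc κ hκ]
      _ = _ := by rw [hc κ hκ]
  rw [h2] at hs
  rcases hs with h3 | h3
  · exact h.not_sq hκ (inv_mul_eq_one.mp h3)
  · refine h.not_sq (mul_mem hκ hy) ?_
    rw [inv_mul_eq_iff_eq_mul] at h3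
    rw [h3, ← hyy, mul_assoc, ← mul_assoc y, ← zp_comm hκ hy]; group

omit [Finite T] in
theorem sq_of_inv {c κ : T} (h : c * κ * c⁻¹ = κ⁻¹) : κ * c * (κ * c) = c * c := by
  calc κ * c * (κ * c) = κ * (c * κ * c⁻¹) * (c * c) := by group
    _ = _ := by rw [h]; group

omit [Finite T] in
theorem St.conjS (h : St S t r k s F) (hc : ∀ κ ∈ zpowers k, s * κ * s⁻¹ = κ⁻¹) {κ : T}
    (hκ : κ ∈ zpowers k) : F s (κ * s) := by
  have h1 : ∀ μ ∈ zpowers k, μ * s * μ⁻¹ = μ * μ * s := fun μ hμ => by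
    have := hc _ (inv_mem hμ)
    rw [inv_inv] at this
    calc μ * s * μ⁻¹ = μ * (s * μ⁻¹ * s⁻¹) * s := by group
      _ = _ := by rw [this]
  obtain ⟨i, rfl⟩ := hκ
  have hm : ∀ m : ℤ, k ^ m ∈ zpowers k := fun m => zpow_mem (mem_zpowers k) m
  rcases Int.even_or_odd' i with ⟨m, rfl | rfl⟩
  · convert h.fus.conj (k ^ m) s using 1
    rw [h1 _ (hm m)]; group
  · convert h.fus.conj (k ^ m * t) s using 1
    calc k ^ (2 * m + 1) * s = k * (k ^ m * k ^ m * s) := by group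
      _ = k ^ m * (k * s) * (k ^ m)⁻¹ := by rw [← h1 _ (hm m)]; group
      _ = _ := by rw [← h.tst]; group

theorem St.caseA1 (h : St S t r k s F) {y : T} (hy : y ∈ zpowers k) (hyy : y * y = r * r)
    (hc : ∀ κ ∈ zpowers k, s * κ = κ * s) (hs : s * s * k = 1 ∨ s * s * k = r * r)
    (hc' : ∀ κ ∈ zpowers k, s * r * κ = κ * (s * r))
    (hs' : s * r * (s * r) * k = 1 ∨ s * r * (s * r) * k = r * r) {a : T} (ha : a ∈ S)
    (haa : a * a = 1) (ha1 : a ≠ 1) (haz : a ≠ r * r) : False := by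
  rcases h.tt2 ha haa ha1 with hF | ⟨κ, hκ, -, h1⟩
  · rcases h.loc ha haa ha1 with h1 | ⟨κ, hκ, rfl | rfl | rfl⟩
    · exact haz h1
    · refine h.sqlem haz (f := r) ?_ rfl hF
      have := hc' κ hκ
      rw [← mul_assoc, ← hc κ hκ, mul_assoc, mul_assoc, mul_right_inj] at this
      rw [← mul_assoc, this]
    · exact h.no_inv hy hyy hc hs hκ haa
    · exact h.swap'.no_inv hy hyy hc' hs' hκ haa
  · exact h.no_inv hy hyy hc hs hκ h1

theorem St.caseA2 (h : St S t r k s F) {y : T} (hy : y ∈ zpowers k) (hyy : y * y = r * r)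
    (hc : ∀ κ ∈ zpowers k, s * κ * s⁻¹ = κ⁻¹)
    (hc' : ∀ κ ∈ zpowers k, s * r * κ * (s * r)⁻¹ = κ⁻¹) : False := by
  have hK : zpowers k ≤ S := zpowers_le.mpr h.I.kS
  have hr : ∀ κ ∈ zpowers k, r * κ = κ * r := fun κ hκ => by
    have h1 := (hc' κ hκ).trans (hc κ hκ).symm
    calc r * κ = s⁻¹ * (s * r * κ * (s * r)⁻¹) * s * r := by group
      _ = _ := by rw [h1]; group
  have hne : ∀ κ ∈ zpowers k, κ * r ≠ r * r ∧ κ * r ≠ 1 := fun κ hκ =>
    ⟨fun h1 => h.rK ((mul_mem_cancel_left hκ).mp (h1 ▸ h.zK)),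
      fun h1 => h.rK ((mul_mem_cancel_left hκ).mp (h1 ▸ one_mem _))⟩
  have hnF : ∀ κ ∈ zpowers k, ¬ F (κ * r) (r * r) := fun κ hκ =>
    h.sqlem (hne κ hκ).1 (f := r) (by rw [← mul_assoc, hr κ hκ]) rfl
  have huS : y * r ∈ S := mul_mem (hK hy) h.H.rS
  have huu : y * r * (y * r) = 1 := by
    rw [mul_assoc, ← mul_assoc r, hr y hy, mul_assoc, ← mul_assoc, hyy, h.H.r_pow]
  obtain ⟨κ, hκ, h1, h2⟩ := (h.tt2 huS huu (hne y hy).2).resolve_left (hnF y hy)
  obtain ⟨κ', hκ', h1', h2'⟩ := (h.swap'.tt2 huS huu (hne y hy).2).resolve_left (hnF y hy)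
  rw [sq_of_inv (hc κ hκ)] at h2
  rw [sq_of_inv (hc' κ' hκ')] at h2'
  have hsu : s * (y * r) = y * r * s := by
    have h3 : s * r * s⁻¹ = r⁻¹ := by
      rw [inv_eq_of_mul_eq_one_right h2, eq_inv_iff_mul_eq_one, ← h2']; group
    rw [← mul_inv_eq_iff_eq_mul]
    calc s * (y * r) * s⁻¹ = s * y * s⁻¹ * (s * r * s⁻¹) := by group
      _ = (y * r)⁻¹ := by rw [hc y hy, h3, ← hr y hy]; group
      _ = _ := inv_eq_of_mul_eq_one_right huu
  refine h.H.z_ne (h.fus.extA (κ * s) (y * r) (r * r) y huS (fun x hx => ?_)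
    (mul_mem h.H.rS h.H.rS) h.zc (hK hy) ?_ (h.fus.symm h1) fun z' hz' => ?_)
  · have h3 : ∀ μ ∈ zpowers k, Commute μ (y * r) := fun μ hμ =>
      (show Commute μ y from zp_comm hμ hy).mul_right (hr μ hμ).symm
    have h4 : Commute r (y * r) := (show Commute r y from hr y hy).mul_right rfl
    obtain ⟨μ, hμ, rfl | rfl | rfl | rfl⟩ := h.cos hx
    · exact h3 _ hμ
    · exact (h3 _ hμ).mul_left h4
    · exact (h3 _ hμ).mul_left hsu
    · exact (h3 _ hμ).mul_left ((show Commute s _ from hsu).mul_left h4)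
  · have h3 := hc _ (inv_mem hy)
    rw [inv_inv] at h3
    calc y * (κ * s) * y⁻¹ = y * κ * (s * y⁻¹ * s⁻¹) * s := by group
      _ = κ * (y * y * s) := by rw [h3, zp_comm hy hκ]; group
      _ = _ := by rw [hyy, ← h.zc, mul_assoc]
  · rcases h.loc (h.fus.memS hz' (mul_mem h.H.rS h.H.rS)) (h.fus.sq hz' h.H.r_pow)
      (fun h3 => h.H.z_ne (h.fus.one (h3 ▸ hz'))) with h3 | ⟨μ, hμ, rfl | rfl | rfl⟩
    · exact h3
    · exact absurd (h.fus.symm hz') (hnF μ hμ)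
    · exact absurd (h.fus.trans (h.fus.trans h1 (h.fus.symm (h.conjS hc hκ)))
        (h.fus.trans (h.conjS hc hμ) (h.fus.symm hz'))) (hnF y hy)
    · exact absurd (h.fus.trans (h.fus.trans h1' (h.fus.symm (h.swap'.conjS hc' hκ')))
        (h.fus.trans (h.swap'.conjS hc' hμ) (h.fus.symm hz'))) (hnF y hy)

theorem St.caseB (h : St S t r k s F) {y : T} (hy : y ∈ zpowers k) (hyy : y * y = r * r)
    (hc : ∀ κ ∈ zpowers k, s * κ = κ * s) (hs : s * s * k = 1 ∨ s * s * k = r * r)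
    (hc' : ∀ κ ∈ zpowers k, s * r * κ * (s * r)⁻¹ = κ⁻¹) {a : T} (ha : a ∈ S)
    (haa : a * a = 1) (ha1 : a ≠ 1) (haz : a ≠ r * r) : False := by
  have hK : zpowers k ≤ S := zpowers_le.mpr h.I.kS
  have hr : ∀ κ ∈ zpowers k, r * κ * r⁻¹ = κ⁻¹ := fun κ hκ => by
    calc r * κ * r⁻¹ = s⁻¹ * (s * r * κ * (s * r)⁻¹) * s := by group
      _ = _ := by rw [hc' κ hκ, mul_assoc, ← hc _ (inv_mem hκ)]; group
  have hnr : ∀ κ ∈ zpowers k, κ * r * (κ * r) ≠ 1 := fun κ hκ => by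
    rw [sq_of_inv (hr κ hκ)]; exact h.H.z_ne
  have huu : s * r * (s * r) = 1 := by
    rcases h.loc ha haa ha1 with h1 | ⟨κ, hκ, rfl | rfl | rfl⟩
    · exact absurd h1 haz
    · exact absurd haa (hnr κ hκ)
    · exact absurd haa (h.no_inv hy hyy hc hs hκ)
    · rwa [sq_of_inv (hc' κ hκ)] at haa
  have huS : s * r ∈ S := mul_mem h.sS h.H.rS
  have huK : s * r ∉ zpowers k := fun h1 =>
    h.sK h1 (show Commute r t from h.H.rt).inv_left.eq (by simp)
  have hzi : (r * r)⁻¹ = r * r := inv_eq_of_mul_eq_one_right h.H.r_pow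
  have hf : ∀ κ ∈ zpowers k, Commute (t * r) κ := fun κ hκ => by
    refine mul_inv_eq_iff_eq_mul.mp ?_
    calc t * r * κ * (t * r)⁻¹ = (t * (r * κ * r⁻¹)⁻¹ * t⁻¹)⁻¹ := by group
      _ = _ := by rw [hr κ hκ, inv_inv, h.I.tinv hκ, inv_inv]
  have hfr : Commute (t * r) r := (show Commute t r from h.H.rt.symm).mul_left rfl
  have hfs : t * r * s * (t * r)⁻¹ = s * (s * s * k)⁻¹ * (r * r) := by
    calc t * r * s * (t * r)⁻¹ = t * (s⁻¹ * (s * r * (s * r)) * (r * r)⁻¹) * t⁻¹ := by group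
      _ = (t * s * t⁻¹)⁻¹ * (t * (r * r) * t⁻¹) := by rw [huu, hzi]; group
      _ = (s * k)⁻¹ * (r * r) := by rw [h.tst, h.zc t, hc k (mem_zpowers k)]; group
      _ = s * (s * k * s)⁻¹ * (r * r) := by group
      _ = _ := by rw [mul_assoc s k s, ← hc k (mem_zpowers k), ← mul_assoc s s k]
  rcases hs with hs | hs
  swap
  · have hF := (h.tt3 huS huu fun h1 => huK (h1 ▸ one_mem _)).resolve_right
      fun ⟨κ, hκ, h1⟩ => hnr κ hκ h1
    refine h.sqlem (fun h1 => huK (by rw [h1]; exact h.zK)) (f := t * r) ?_ h.trtr hF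
    rw [hs, inv_mul_cancel_right] at hfs
    exact (show Commute (t * r) s from mul_inv_eq_iff_eq_mul.mp hfs).mul_right hfr
  rw [hs, inv_one, mul_one] at hfs
  obtain ⟨χ, hχ, ht, hχr, hχs, hχS⟩ := h.chi h.ss
  have hcos : ∀ x c, χ x = χ c → ∃ κ ∈ zpowers k, x = c * κ := fun x c h1 =>
    ⟨c⁻¹ * x, (hχ _).mp (by rw [map_mul, map_inv, h1, inv_mul_cancel]), by group⟩
  have hfu : t * r * (s * r) * (t * r)⁻¹ = s * r * (r * r) := by
    calc t * r * (s * r) * (t * r)⁻¹ = t * r * s * (t * r)⁻¹ * (t * r * r * (t * r)⁻¹) := by group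
      _ = _ := by rw [hfs, hfr.eq]; group
  have hχf : χ (t * r) = (-1, -1, 1) := by simp [ht, hχr]
  have hχu : χ (s * r) = (1, -1, -1) := by simp [hχs, hχr]
  have hff := h.trtr
  have hzc := h.zc
  have hzz := h.H.r_pow
  have hz1 := h.H.z_ne
  have hzK := h.zK
  generalize t * r = f at hf hfr hfs hfu hχf hff
  generalize s * r = u at hc' huu huS huK hfu hχu
  generalize r * r = z at hyy hfs hfu hff hzc hzz hz1 hzK
  have he : ∀ κ ∈ zpowers k, κ * κ = z → Commute (f * κ) u := fun κ hκ h1 => by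
    refine mul_inv_eq_iff_eq_mul.mp ?_
    have h2 := hc' _ (inv_mem hκ)
    rw [inv_inv] at h2
    calc f * κ * u * (f * κ)⁻¹ = f * (κ * (u * κ⁻¹ * u⁻¹)) * u * f⁻¹ := by group
      _ = z * (f * u * f⁻¹) := by rw [h2, h1, hzc]; group
      _ = _ := by rw [hfu, ← mul_assoc, ← hzc, mul_assoc, hzz, mul_one]
  let φ : T →* ℤˣ := (MonoidHom.fst _ _).comp χ * ((MonoidHom.fst _ _).comp
    ((MonoidHom.snd _ _).comp χ) * (MonoidHom.snd _ _).comp ((MonoidHom.snd _ _).comp χ))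
  have hφ : ∀ x, φ x = (χ x).1 * ((χ x).2.1 * (χ x).2.2) := fun _ => rfl
  have hcases : ∀ x, x ∉ S → χ x = (-1, 1, 1) ∨ χ x = (-1, -1, 1) ∨ χ x = (-1, 1, -1) ∨
      χ x = (-1, -1, -1) := fun x hx => by
    rw [hχS] at hx
    generalize χ x = e at hx
    obtain ⟨e1, e2, e3⟩ := e
    rcases Int.units_eq_one_or e1 with rfl | rfl <;> rcases Int.units_eq_one_or e2 with rfl | rfl <;>
      rcases Int.units_eq_one_or e3 with rfl | rfl <;> simp at hx ⊢
  have key : ∀ t', F t t' → φ t' ≠ 1 := fun t' h1 h2 => by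
    have h3 := h.fus.sq h1 h.H.tt
    rw [hφ] at h2
    rcases hcases t' (fun h4 => h.H.tS (h.fus.memS (h.fus.symm h1) h4)) with h4 | h4 | h4 | h4
    · simp [h4] at h2
    · obtain ⟨κ, hκ, rfl⟩ := hcos t' f (h4.trans hχf.symm)
      have h5 : κ * κ = z := by
        rw [mul_assoc, ← mul_assoc κ, ← (hf κ hκ).eq, mul_assoc, ← mul_assoc, hff] at h3
        rw [← inv_eq_of_mul_eq_one_right h3, inv_eq_of_mul_eq_one_right hzz]
      refine huK ?_
      rw [h.fus.cent _ h1 u huS z (hK hzK) huu hzz (fun h6 => huK (h6 ▸ one_mem _)) hz1 (hzc u)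
        (he κ hκ h5).symm (hzc _).symm]
      exact hzK
    · obtain ⟨κ, hκ, rfl⟩ := hcos t' (f * y * u) (by simp [h4, hχf, hχu, (hχ y).mpr hy])
      have h5 : u * κ ∉ zpowers k := fun h5 => huK ((mul_mem_cancel_right hκ).mp h5)
      have h6 : u * κ * (u * κ) = 1 := by
        calc u * κ * (u * κ) = u * κ * u⁻¹ * (u * u) * κ := by group
          _ = 1 := by rw [hc' κ hκ, huu]; group
      refine h5 ?_
      rw [h.fus.cent _ h1 (u * κ) (mul_mem huS (hK hκ)) z (hK hzK) h6 hzz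
        (fun h6 => h5 (h6 ▸ one_mem _)) hz1 (hzc _) ?_ (hzc _).symm]
      · exact hzK
      · rw [mul_assoc (f * y)]
        exact (((he y hy hyy).mul_right ((hf κ hκ).mul_left (zp_comm hy hκ))).symm.mul_right
          (Commute.refl _)).eq
    · simp [h4] at h2
  have hφe : φ (f * y) = 1 := by simp [hφ, hχf, (hχ y).mpr hy]
  have hee : f * y * (f * y) = 1 := by
    rw [mul_assoc, ← mul_assoc y, ← (hf y hy).eq, mul_assoc, ← mul_assoc, hff, hyy, hzz]
  have heS : f * y ∉ S := by simp [hχS, hχf, (hχ y).mpr hy]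
  obtain ⟨t', h1, h2⟩ := h.fus.transfer φ (f * y) t hee h.H.tt
    (by simp [hχS, hχf, (hχ y).mpr hy, ht]) (fun e' h1 => by
      rcases hcases e' (fun h4 => heS (h.fus.memS (h.fus.symm h1) h4)) with h4 | h4 | h4 | h4
      · obtain ⟨κ, hκ, rfl⟩ := hcos e' t (h4.trans ht.symm)
        obtain ⟨x, -, hx⟩ := h.I.trans hκ
        exact absurd hφe (key _ (h.fus.trans (hx ▸ h.fus.conj x t) (h.fus.symm h1)))
      · simp [hφ, h4]
      · simp [hφ, h4]
      · obtain ⟨κ, hκ, rfl⟩ := hcos e' (f * s) (by simp [h4, hχf, hχs])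
        refine absurd ?_ (h.not_sq hκ)
        have h5 := h.fus.sq h1 hee
        have h6 : f * s * κ * (f * s * κ) = s * s * (κ * κ) := by
          calc f * s * κ * (f * s * κ) = f * s * (κ * f) * s * κ := by group
            _ = f * s * f⁻¹ * (f * (f * κ)) * s * κ := by rw [← (hf κ hκ).eq]; group
            _ = s * (z * z) * (κ * s) * κ := by rw [hfs, ← mul_assoc f, hff]; group
            _ = _ := by rw [hzz, ← hc κ hκ]; group
        rw [h6, ← hs, mul_right_inj] at h5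
        exact h5)
  exact key t' h1 h2

/-- The `2`-group theorem. -/
theorem core (H : Hyp S t r) (fus : Fus S t F)
    (hmeta : ∀ k ∈ S, ∀ s ∈ S, (zpowers k).Normal → (∀ x ∈ S, ∃ i : ℕ, x * (s ^ i)⁻¹ ∈ zpowers k) →
      s * s ∈ zpowers k) {a : T} (ha : a ∈ S) (haa : a * a = 1) : a = 1 ∨ a = r * r := by
  by_contra hcon
  obtain ⟨ha1, haz⟩ := not_or.mp hcon
  obtain ⟨k, s, hI, hs, htop⟩ := H.exists_inv
  have hk : k ≠ 1 := by
    rintro rfl
    have := (htop ▸ mem_top a : a ∈ Zm (zpowers 1) t).2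
    rw [zpowers_one_eq_bot, mem_bot, inv_mul_eq_one, eq_mul_inv_iff_mul_eq] at this
    exact hcon (H.invol ha this.symm haa)
  have h0 : St0 S t r k s := ⟨H, hI, hs, htop, hk⟩
  have hss : s * s ∈ zpowers k := by
    by_contra h1
    exact h1 (hmeta k hI.kS s hs h0.normal fun x hx => h0.cyc h1 hx)
  have h : St S t r k s F := ⟨h0, hss, fus⟩
  by_cases hkk : k * k = 1
  · exact h.case_small hkk ha haa ha1 haz
  obtain ⟨y, hy, hyy⟩ := h.exists_y hkk
  rcases h.act h.ss with ⟨h1, h2⟩ | h1 <;> rcases h.swap.act h.swap'.ss with ⟨h3, h4⟩ | h3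
  · exact h.caseA1 hy hyy h1 h2 h3 h4 ha haa ha1 haz
  · exact h.caseB hy hyy h1 h2 h3 ha haa ha1 haz
  · refine h.swap'.caseB hy hyy h3 h4 (fun κ hκ => ?_) ha haa ha1 haz
    rw [← h1 κ hκ]
    calc s * r * r * κ * (s * r * r)⁻¹ = s * (r * r * κ) * (s * r * r)⁻¹ := by group
      _ = _ := by rw [← h.zc]; group
  · exact h.caseA2 hy hyy h1 h3

end Cfsg.Agent.H3.C4
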