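import Cfsg.Agent.H8.QP7
import Cfsg.Agent.H2.Coprime

/-! Quadratic elements: tori, unipotent radicals, transitivity on opposite root elements. -/

set_option autoImplicit false

namespace Cfsg.Agent.H3.Fl

open Cfsg.Agent.H8 Cfsg.Agent.H8.QP Module

/-- linear combination in a non-commutative algebra, with scalars -/
macro "nl " e:term : tactic => `(tactic| linear_combination (norm := h8ncr) $e:term)

section Ring

variable {k E : Type*} [Field k] [Ring E] [Algebra k E] {Γ : Subgroup Eˣ}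

/-- a pair of opposite square-zero elements -/
structure Tr (s d : E) : Prop where
  ss : s * s = 0
  dd : d * d = 0
  sds : s * d * s = s
  dsd : d * s * d = d

theorem Tr.symm {s d : E} (h : Tr s d) : Tr d s := ⟨h.dd, h.ss, h.dsd, h.sds⟩

/-- `H` acts on the three layers of the flag of `c` by the scalars `t`, `1`, `t'⁻¹` -/
def Fg (c : E) (t t' : k) (H : E) : Prop :=
  H * c = t • c ∧ c * H = t' • c ∧ ∀ x y, c * x = 0 → y * c = 0 → y * H * x = y * x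

theorem Fg.mul {c H H' : E} {a a' b b' : k} (h : Fg c a a' H) (h' : Fg c b b' H') :
    Fg c (a * b) (a' * b') (H * H') := by
  refine ⟨?_, ?_, fun x y hx hy => ?_⟩
  · rw [mul_assoc, h'.1, mul_smul_comm, h.1, smul_smul, mul_comm]
  · rw [← mul_assoc, h.2.1, smul_mul_assoc, h'.2.1, smul_smul]
  · rw [← mul_assoc, h'.2.2 x (y * H) hx (by rw [mul_assoc, h.1, mul_smul_comm, hy, smul_zero]),
      h.2.2 x y hx hy]

theorem fg_iff {c H : E} : Fg c (1 : k) 1 H ↔ H - 1 ∈ coreJ k c := by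
  change _ ↔ (_ ∧ _ ∧ _)
  simp only [Fg, one_smul, mul_sub, sub_mul, mul_one, one_mul, sub_eq_zero]
  tauto

variable (Γ) in
/-- the elements normalizing the flag of `c` -/
def Nm (c : E) : Subgroup Eˣ where
  carrier := {g | g ∈ Γ ∧ Le (g * c * (g⁻¹ : Eˣ)) c ∧ Le ((g⁻¹ : Eˣ) * c * g) c}
  one_mem' := ⟨Γ.one_mem, by simpa using Le.refl c, by simpa using Le.refl c⟩
  inv_mem' := fun h => ⟨Γ.inv_mem h.1, by simpa using h.2.2, by simpa using h.2.1⟩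
  mul_mem' := by
    rintro g h ⟨a1, a2, a3⟩ ⟨b1, b2, b3⟩
    refine ⟨Γ.mul_mem a1 b1, ?_, ?_⟩
    · have := (b2.conj g).trans a2
      simpa [mul_assoc] using this
    · have := (a3.conj h⁻¹).trans (by simpa using b3)
      simpa [mul_assoc] using this

theorem Nm_le {c : E} : Nm Γ c ≤ Γ := fun _ h => h.1

theorem mem_Nm_of_comm {c : E} {g : Eˣ} (hg : g ∈ Γ) (h : g * c = c * g) : g ∈ Nm Γ c := by
  refine ⟨hg, ?_, ?_⟩
  · rw [h, mul_assoc, Units.mul_inv, mul_one]; exact Le.refl c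
  · rw [mul_assoc, ← h, ← mul_assoc, Units.inv_mul, one_mul]; exact Le.refl c

theorem Nm_congr {c c' : E} (h : Le c c') (h' : Le c' c) : Nm Γ c = Nm Γ c' := by
  have : ∀ c c' : E, Le c c' → Le c' c → Nm Γ c ≤ Nm Γ c' := fun c c' h h' g hg =>
    ⟨hg.1, ((h'.conj g).trans hg.2.1).trans h,
      (((by simpa using h'.conj g⁻¹ : Le ((g⁻¹ : Eˣ) * c' * g) ((g⁻¹ : Eˣ) * c * g))).trans
        hg.2.2).trans h⟩
  exact le_antisymm (this c c' h h') (this c' c h' h)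

theorem Nm.l1 {c y : E} {g : Eˣ} (hg : g ∈ Nm Γ c) (hy : y * c = 0) : y * g * c = 0 := by
  have := hg.2.1.1 y hy
  rwa [← mul_assoc, Units.mul_left_eq_zero, ← mul_assoc] at this

theorem Nm.l2 {c x : E} {g : Eˣ} (hg : g ∈ Nm Γ c) (hx : c * x = 0) : c * (g * x) = 0 := by
  have := hg.2.2.2 x hx
  rwa [mul_assoc, mul_assoc, Units.mul_right_eq_zero] at this

theorem Fg.conj {c H : E} {a a' : k} (h : Fg c a a' H) {g : Eˣ} (hg : g ∈ Nm Γ c) :
    Fg c a a' (g * H * (g⁻¹ : Eˣ)) := by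
  have hg' := (Nm Γ c).inv_mem hg
  refine ⟨?_, ?_, fun x y hx hy => ?_⟩
  · have := Nm.l1 hg' (y := H - a • 1) (by rw [sub_mul, h.1]; simp)
    have e := g.mul_inv
    nl g * this + a • e * c
  · have := Nm.l2 hg (x := H - a' • 1) (by rw [mul_sub, h.2.1]; simp)
    have e := g.mul_inv
    nl this * (g⁻¹ : Eˣ) + c * (a' • e)
  · have := h.2.2 _ _ (Nm.l2 hg' hx) (Nm.l1 hg hy)
    have e := g.mul_inv
    nl this + y * e * x

theorem coreJ_cube {c u v w : E} (hu : u ∈ coreJ k c) (hv : v ∈ coreJ k c) (hw : w ∈ coreJ k c) :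
    u * v * w = 0 := hv.2.2 w u hw.1 hu.2.1

theorem inv_of_cube {g : Eˣ} {n : E} (e : (g : E) - 1 = n) (h : n * n * n = 0) :
    ((g⁻¹ : Eˣ) : E) = 1 - n + n * n := by
  rw [Units.inv_eq_of_mul_eq_one_right]
  rw [eq_add_of_sub_eq e]
  nl h

variable (k Γ) in
/-- the unipotent radical attached to `c` -/
def Ug (c : E) : Subgroup Eˣ where
  carrier := {g | g ∈ Γ ∧ Fg c (1 : k) 1 (g : E)}
  one_mem' := ⟨Γ.one_mem, by simp [Fg]⟩
  mul_mem' := fun {a b} ha hb => ⟨Γ.mul_mem ha.1 hb.1, by simpa using ha.2.mul hb.2⟩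
  inv_mem' := fun {g} hg => ⟨Γ.inv_mem hg.1, by
    have h := fg_iff.1 hg.2
    rw [fg_iff, inv_of_cube rfl (coreJ_cube h h h), sub_add_eq_add_sub, sub_sub, add_comm _ 1,
      ← sub_sub, add_sub_cancel_left]
    exact Submodule.sub_mem _ (coreJ_mul c (Submodule.mul_mem_mul h h)) h⟩

theorem mem_Ug {c : E} {g : Eˣ} : g ∈ Ug k Γ c ↔ g ∈ Γ ∧ (g : E) - 1 ∈ coreJ k c := by
  rw [← fg_iff]; rfl

theorem Ug.comm {c s : E} {g : Eˣ} (hg : g ∈ Ug k Γ c) (h : Le s c) : g * s = s * g := by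
  have h1 := h.1 _ (mem_Ug.1 hg).2.2.1
  have h2 := h.2 _ (mem_Ug.1 hg).2.1
  nl h1 - h2

theorem Ug_le_Nm {c : E} : Ug k Γ c ≤ Nm Γ c := fun _ hg =>
  mem_Nm_of_comm hg.1 (Ug.comm hg (Le.refl c))

theorem Nm_le_normalizer {c : E} : Nm Γ c ≤ Subgroup.normalizer (Ug k Γ c : Set Eˣ) :=
  H2.le_normalizer_of_conj_mem fun g hg u hu =>
    ⟨Γ.mul_mem (Γ.mul_mem hg.1 hu.1) (Γ.inv_mem hg.1), hu.2.conj hg⟩

theorem Ug_congr {c c' : E} (h : Le c c') (h' : Le c' c) : Ug k Γ c = Ug k Γ c' := by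
  have : ∀ c c' : E, Le c c' → Le c' c → Ug k Γ c ≤ Ug k Γ c' := fun c c' h h' g hg => by
    rw [mem_Ug] at hg ⊢
    exact ⟨hg.1, h'.2 _ hg.2.1, h'.1 _ hg.2.2.1, fun x y hx hy =>
      hg.2.2.2 x y (h.2 x hx) (h.1 y hy)⟩
  exact le_antisymm (this c c' h h') (this c' c h' h)

theorem mem_coreJ_of_le {c s : E} (hc : c * c = 0) (h : Le s c) : s ∈ coreJ k c :=
  ⟨h.1 _ hc, h.2 _ hc, fun x y hx _ => by rw [mul_assoc, h.2 x hx, mul_zero]⟩

/-- the torus element -/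
def hh (s d : E) (t t' : k) : E := 1 + (t - 1) • (s * d) + (t' - 1) • (d * s)

theorem Tr.hh_mul {s d : E} (h : Tr s d) (a a' b b' : k) :
    hh s d a a' * hh s d b b' = hh s d (a * b) (a' * b') := by
  simp only [hh]
  nl ((a - 1) * (b - 1)) • (h.sds * d) + ((a - 1) * (b' - 1)) • (s * h.dd * s)
    + ((a' - 1) * (b - 1)) • (d * h.ss * d) + ((a' - 1) * (b' - 1)) • (h.dsd * s)

theorem hh_one (s d : E) : hh s d (1 : k) 1 = 1 := by simp [hh]

/-- the torus -/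
def tor {s d : E} (h : Tr s d) : kˣ →* Eˣ where
  toFun t := ⟨hh s d (t : k) (t⁻¹ : kˣ), hh s d ((t⁻¹ : kˣ) : k) t,
    by rw [h.hh_mul, Units.mul_inv, Units.inv_mul, hh_one],
    by rw [h.hh_mul, Units.mul_inv, Units.inv_mul, hh_one]⟩
  map_one' := by ext; simp [hh_one]
  map_mul' a b := by ext; simp [h.hh_mul, mul_comm]

theorem tor_val {s d : E} (h : Tr s d) (t : kˣ) :
    (tor h t : E) = hh s d (t : k) (t⁻¹ : kˣ) := rfl

theorem Tr.fg {s d : E} (h : Tr s d) (t t' : k) : Fg s t t' (hh s d t t') := by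
  simp only [hh]
  refine ⟨?_, ?_, fun x y hx hy => ?_⟩
  · nl (t - 1) • h.sds + (t' - 1) • (d * h.ss)
  · nl (t - 1) • (h.ss * d) + (t' - 1) • h.sds
  · nl (t - 1) • (hy * d * x) + (t' - 1) • (y * d * hx)

theorem tor_fg {s d : E} (h : Tr s d) (t : kˣ) : Fg s (t : k) (t⁻¹ : kˣ) (tor h t : E) := h.fg _ _

theorem tor_mem {s d : E} (h : Tr s d) (hs : Nil k Γ s) (hd : Nil k Γ d) (t : kˣ) :
    tor h t ∈ Γ := by
  have key : ∀ a a' : k, a * a' = 1 → ∃ w ∈ Γ, (w : E) = 1 - s * d - d * s + a • s - a' • d := by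
    intro a a' e
    obtain ⟨x, hx, ex⟩ := hs.2 a
    obtain ⟨y, hy, ey⟩ := hd.2 (-a')
    refine ⟨x * y * x, Γ.mul_mem (Γ.mul_mem hx hy) hx, ?_⟩
    rw [Units.val_mul, Units.val_mul, ex, ey]
    have e1 := congrArg (· • (s * d)) e
    have e2 := congrArg (· • (d * s)) e
    have e3 := congrArg (· • (a • s)) e
    nl (a * a) • h.ss - e1 - e2 - e3 - (a * a * a') • h.sds
  obtain ⟨w, hw, ew⟩ := key t (t⁻¹ : kˣ) t.mul_inv
  obtain ⟨v, hv, ev⟩ := key (-1) (-1) (by simp)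
  have : tor h t = w * v := by
    ext1
    rw [Units.val_mul, ew, ev, tor_val, hh]
    have ss := h.ss
    have dd := h.dd
    have sds := h.sds
    have dsd := h.dsd
    generalize (t : k) = a
    generalize ((t⁻¹ : kˣ) : k) = b
    nl -sds * d - s * dd * s - sds + s * dd - d * ss * d - dsd * s - d * ss + dsd
      + a • (ss * d) + a • sds + a • ss - b • dsd - b • (dd * s) + b • dd
  rw [this]
  exact Γ.mul_mem hw hv

variable (h2 : (2 : k) ≠ 0) (h3 : (3 : k) ≠ 0)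

/-- the unit two -/
def two (h2 : (2 : k) ≠ 0) : kˣ := Units.mk0 2 h2

theorem two_tor {s d : E} (h : Tr s d) :
    (2 : k) • (tor h (two h2) : E) = (2 : k) • 1 + (2 : k) • (s * d) - d * s := by
  have e : (2 : k) * ((two h2)⁻¹ : kˣ) = 1 := (two h2).mul_inv
  have e1 := congrArg (· • (d * s)) e
  rw [tor_val, hh, show ((two h2 : kˣ) : k) = 2 from rfl]
  nl e1

include h3 in
theorem conj_of_tor {s d s' d' x : E} (h : Tr s d) (h' : Tr s' d')
    (e : x * tor h (two h2) = tor h' (two h2) * x) :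
    x * (s * d) = s' * d' * x ∧ x * (d * s) = d' * s' * x := by
  have e1 : x * ((2 : k) • (s * d) - d * s) = ((2 : k) • (s' * d') - d' * s') * x := by
    nl (2 : k) • e - x * two_tor h2 h + two_tor h2 h' * x
  have sq : ∀ s d : E, Tr s d → ((2 : k) • (s * d) - d * s) * ((2 : k) • (s * d) - d * s) =
      (4 : k) • (s * d) + d * s := fun s d h => by
    nl (4 : k) • (h.sds * d) - (2 : k) • (s * h.dd * s) - (2 : k) • (d * h.ss * d) + h.dsd * s
  have e2 : x * ((4 : k) • (s * d) + d * s) = ((4 : k) • (s' * d') + d' * s') * x := by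
    rw [← sq s d h, ← sq s' d' h', ← mul_assoc, e1, mul_assoc, e1, ← mul_assoc]
  have h6 : (6 : k) ≠ 0 := by
    rw [show (6 : k) = 2 * 3 by norm_num]; exact mul_ne_zero h2 h3
  constructor
  · refine smul_right_injective E h6 ?_
    nl e1 + e2
  · refine smul_right_injective E h3 ?_
    nl e2 - (2 : k) • e1

theorem mem_Nm_of_idem {s d : E} (h : Tr s d) {g : Eˣ} (hg : g ∈ Γ)
    (h1 : g * (s * d) = s * d * g) (h2 : g * (d * s) = d * s * g) : g ∈ Nm Γ s := by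
  have key : ∀ g : Eˣ, Commute (g : E) (s * d) → Commute (g : E) (d * s) →
      Le (g * s * (g⁻¹ : Eˣ)) s := fun g h1 h2 => by
    refine ⟨fun y hy => ?_, fun x hx => ?_⟩
    · nl -y * g * h.sds * (g⁻¹ : Eˣ) + y * h1.eq * s * (g⁻¹ : Eˣ) + hy * d * g * s * (g⁻¹ : Eˣ)
    · nl -g * h.sds * (g⁻¹ : Eˣ) * x - g * s * h2.units_inv_left.eq * x
        + g * s * (g⁻¹ : Eˣ) * d * hx
  refine ⟨hg, key g h1 h2, ?_⟩
  simpa using key g⁻¹ (Commute.units_inv_left h1) (Commute.units_inv_left h2)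

include h3 in
theorem mem_Nm_of_tor {s d : E} (h : Tr s d) {g : Eˣ} (hg : g ∈ Γ)
    (e : g * tor h (two h2) = tor h (two h2) * g) : g ∈ Nm Γ s ∧ g ∈ Nm Γ d := by
  obtain ⟨h4, h5⟩ := conj_of_tor h2 h3 h h (x := (g : E)) (congrArg Units.val e)
  exact ⟨mem_Nm_of_idem h hg h4 h5, mem_Nm_of_idem h.symm hg h5 h4⟩

theorem Tr.idem {s d s' d' : E} (h : Tr s d) (h' : Tr s' d') (l1 : Le s s') (l2 : Le d' d) :
    s * d = s' * d' := by
  have e1 := l1.1 (1 - s' * d') (by nl -h'.sds)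
  have e2 := l2.2 (1 - s * d) (by nl -h.dsd)
  nl e1 * d - s' * e2

theorem Tr.unique {s d d' : E} (h : Tr s d) (h' : Tr s d') (l1 : Le d d') (l2 : Le d' d) :
    d = d' := by
  have e1 := h.idem h' (Le.refl s) l2
  have e2 := h.symm.idem h'.symm l1 (Le.refl s)
  nl -h.dsd + e2 * d + d' * e1 + h'.dsd

theorem Tr.conj {s d : E} (h : Tr s d) (g : Eˣ) :
    Tr (g * s * (g⁻¹ : Eˣ)) (g * d * (g⁻¹ : Eˣ)) := by
  have e := g.inv_mul
  refine ⟨?_, ?_, ?_, ?_⟩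
  · nl g * s * e * s * (g⁻¹ : Eˣ) + g * h.ss * (g⁻¹ : Eˣ)
  · nl g * d * e * d * (g⁻¹ : Eˣ) + g * h.dd * (g⁻¹ : Eˣ)
  · nl g * s * e * d * (g⁻¹ : Eˣ) * g * s * (g⁻¹ : Eˣ) + g * s * d * e * s * (g⁻¹ : Eˣ)
      + g * h.sds * (g⁻¹ : Eˣ)
  · nl g * d * e * s * (g⁻¹ : Eˣ) * g * d * (g⁻¹ : Eˣ) + g * d * s * e * d * (g⁻¹ : Eˣ)
      + g * h.dsd * (g⁻¹ : Eˣ)

theorem conj_tor {s d : E} (h : Tr s d) (g : Eˣ) (t : kˣ) :
    g * tor h t * g⁻¹ = tor (h.conj g) t := by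
  ext1
  simp only [Units.val_mul, tor_val, hh]
  have e := g.inv_mul
  have e' := g.mul_inv
  nl e' - ((t : k) - 1) • ((g : E) * s * e * d * (g⁻¹ : Eˣ))
    - (((t⁻¹ : kˣ) : k) - 1) • ((g : E) * d * e * s * (g⁻¹ : Eˣ))

theorem tor_congr {s d s' d' : E} (h : Tr s d) (h' : Tr s' d') (e1 : s * d = s' * d')
    (e2 : d * s = d' * s') (t : kˣ) : tor h t = tor h' t := by
  ext1
  rw [tor_val, tor_val, hh, hh, e1, e2]

theorem tor_mem_Nm {s d : E} (h : Tr s d) {t : kˣ} (ht : tor h t ∈ Γ) : tor h t ∈ Nm Γ s := by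
  have e : ∀ a b : k, Commute (hh s d a b) (s * d) ∧ Commute (hh s d a b) (d * s) := fun a b => by
    simp only [hh]
    constructor
    · change _ = _
      nl (b - 1) • (d * h.ss * d) - (b - 1) • (s * h.dd * s)
    · change _ = _
      nl (a - 1) • (s * h.dd * s) - (a - 1) • (d * h.ss * d)
  exact mem_Nm_of_idem h ht (e _ _).1 (e _ _).2

include h3 in
theorem Ug.eq_one {s d : E} (h : Tr s d) {u : Eˣ} (hu : u ∈ Ug k Γ s)
    (e : u * tor h (two h2) = tor h (two h2) * u) : u = 1 := by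
  obtain ⟨h4, h5⟩ := conj_of_tor h2 h3 h h (x := (u : E)) (congrArg Units.val e)
  obtain ⟨-, a1, a2, a3⟩ := mem_Ug.1 hu
  have a4 := a3 (1 - d * s) (1 - s * d) (by nl -h.sds) (by nl -h.sds)
  ext1
  rw [Units.val_one]
  nl a4 - h4 * (1 - d * s) + a2 * d * (1 - d * s) + h5 + d * a1

variable [Finite E]

include h3 in
theorem exists_conj_tor {s d : E} (h : Tr s d) (ht : tor h (two h2) ∈ Γ) {H : Eˣ} (hH : H ∈ Γ)
    (hf : Fg s (2 : k) ((two h2)⁻¹ : kˣ) (H : E)) :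
    ∃ u ∈ Ug k Γ s, u * tor h (two h2) * u⁻¹ = H := by
  set θ := tor h (two h2) with hθ
  have f1 : Fg s (2 : k) ((two h2)⁻¹ : kˣ) (θ : E) := tor_fg h (two h2)
  have f2 : Fg s (((two h2)⁻¹ : kˣ) : k) (2 : k) ((θ⁻¹ : Eˣ) : E) := by
    rw [hθ, ← map_inv]; exact tor_fg h (two h2)⁻¹
  have e : (2 : k) * ((two h2)⁻¹ : kˣ) = 1 := (two h2).mul_inv
  have key : ∀ H : Eˣ, H ∈ Γ → Fg s (2 : k) ((two h2)⁻¹ : kˣ) (H : E) → H * θ⁻¹ ∈ Ug k Γ s :=
    fun H hH hf => ⟨Γ.mul_mem hH (Γ.inv_mem ht), by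
      have := hf.mul f2
      rwa [e, mul_comm _ (2 : k), e] at this⟩
  let f : Ug k Γ s → Ug k Γ s := fun u => ⟨u * θ * (u : Eˣ)⁻¹ * θ⁻¹, key _
    (Γ.mul_mem (Γ.mul_mem u.2.1 ht) (Γ.inv_mem u.2.1)) (f1.conj (Ug_le_Nm u.2))⟩
  have hi : Function.Injective f := fun u v e => by
    have e1 : (u : Eˣ) * θ * (u : Eˣ)⁻¹ = v * θ * (v : Eˣ)⁻¹ :=
      mul_right_cancel (congrArg Subtype.val e)
    have := Ug.eq_one h2 h3 h ((Ug k Γ s).mul_mem ((Ug k Γ s).inv_mem v.2) u.2) (by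
      calc (v : Eˣ)⁻¹ * u * θ = (v : Eˣ)⁻¹ * (u * θ * (u : Eˣ)⁻¹) * u := by group
        _ = θ * ((v : Eˣ)⁻¹ * u) := by rw [e1]; group)
    exact Subtype.ext (inv_mul_eq_one.1 this).symm
  obtain ⟨u, hu⟩ := Finite.surjective_of_injective hi ⟨_, key H hH hf⟩
  exact ⟨u, u.2, mul_right_cancel (congrArg Subtype.val hu)⟩

include h2 h3 in
/-- the unipotent radical is transitive on the opposite elements -/
theorem exists_conj_opp {s d d' : E} (h : Tr s d) (h' : Tr s d') (hs : Nil k Γ s) (hd : Nil k Γ d)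
    (hd' : Nil k Γ d') : ∃ u ∈ Ug k Γ s, u * d * (u⁻¹ : Eˣ) = d' := by
  obtain ⟨u, hu, e⟩ := exists_conj_tor h2 h3 h (tor_mem h hs hd _) (tor_mem h' hs hd' _)
    (tor_fg h' (two h2))
  refine ⟨u, hu, ?_⟩
  obtain ⟨h4, h5⟩ := conj_of_tor h2 h3 h h' (x := (u : E))
    (congrArg Units.val (mul_inv_eq_iff_eq_mul.1 e))
  have c := Ug.comm hu (Le.refl s)
  have i := u.mul_inv
  nl -u * h.dsd * (u⁻¹ : Eˣ) + h5 * d * (u⁻¹ : Eˣ) - d' * c * d * (u⁻¹ : Eˣ)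
    + d' * h4 * (u⁻¹ : Eˣ) + d' * s * d' * i + h'.dsd

include h3 in
/-- an opposite element whose torus is centralized by a given semisimple element -/
theorem exists_inv_opp {c c' : E} (h : Tr c c') (hc : Nil k Γ c) (hc' : Nil k Γ c') {θ : Eˣ}
    (hθ : θ ∈ Nm Γ c) (hcop : (orderOf θ).Coprime (Nat.card (Ug k Γ c))) :
    ∃ u ∈ Ug k Γ c, ∃ h' : Tr c (u * c' * (u⁻¹ : Eˣ)),
      θ * tor h' (two h2) = tor h' (two h2) * θ := by
  set H := tor h (two h2) with hH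
  have hHΓ : H ∈ Γ := tor_mem h hc hc' _
  have f1 : Fg c (2 : k) ((two h2)⁻¹ : kˣ) (H : E) := tor_fg h (two h2)
  have f2 : Fg c (((two h2)⁻¹ : kˣ) : k) (2 : k) ((H⁻¹ : Eˣ) : E) := by
    rw [hH, ← map_inv]; exact tor_fg h (two h2)⁻¹
  have e : (2 : k) * ((two h2)⁻¹ : kˣ) = 1 := (two h2).mul_inv
  have hA : Subgroup.zpowers θ ≤ Nm Γ c := Subgroup.zpowers_le.2 hθ
  obtain ⟨x, hx, n, hn, e1⟩ := H2.exists_centralizer_mul (A := Subgroup.zpowers θ) (N := Ug k Γ c)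
    (hA.trans Nm_le_normalizer) (by rwa [Nat.card_zpowers]) (Or.inl inferInstance) (x := H)
    (fun a ha => ⟨Γ.mul_mem (Γ.mul_mem (Γ.mul_mem (Γ.inv_mem hHΓ) (hA ha).1) hHΓ)
      (Γ.inv_mem (hA ha).1), by
      have := f2.mul (f1.conj (hA ha))
      rw [e, mul_comm _ (2 : k), e] at this
      simpa only [Units.val_mul, mul_assoc] using this⟩)
  have e2 : x = H * n⁻¹ := eq_mul_inv_of_mul_eq e1.symm
  obtain ⟨u, hu, e3⟩ := exists_conj_tor h2 h3 h hHΓ (H := x)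
    (e2 ▸ Γ.mul_mem hHΓ (Γ.inv_mem hn.1)) (by
      have := f1.mul ((Ug k Γ c).inv_mem hn).2
      rwa [mul_one, mul_one, ← Units.val_mul, ← e2] at this)
  have c1 : (u : E) * c * (u⁻¹ : Eˣ) = c := by
    rw [Ug.comm hu (Le.refl c), mul_assoc, Units.mul_inv, mul_one]
  have h' : Tr c (u * c' * (u⁻¹ : Eˣ)) := by have := h.conj u; rwa [c1] at this
  refine ⟨u, hu, h', ?_⟩
  rw [← tor_congr (h.conj u) h' (by rw [c1]) (by rw [c1]), ← conj_tor h, e3]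
  exact hx θ (Subgroup.mem_zpowers θ)

end Ring

end Cfsg.Agent.H3.Fl
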