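import Cfsg.Agent.H3.Fl1

/-! Quadratic elements: common opposites and the radical. -/

set_option autoImplicit false

namespace Cfsg.Agent.H3.Fl

open Cfsg.Agent.H8 Cfsg.Agent.H8.QP Module

theorem two_roots {k E : Type*} [Field k] [AddCommGroup E] [Module k E] {u v : E} {t t' : k}
    (h : u + t • v = 0) (h' : u + t' • v = 0) (hne : t - t' ≠ 0) : u = 0 ∧ v = 0 := by
  have hv : v = 0 := (smul_eq_zero.1 (show (t - t') • v = 0 by
    linear_combination (norm := module) h - h')).resolve_left hne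
  exact ⟨by simpa [hv] using h, hv⟩

theorem three_pts {k : Type*} [Field k] (h2 : (2 : k) ≠ 0) (h3 : (3 : k) ≠ 0) {A B : k → Prop}
    (h : ∀ t, t ≠ 0 → A t ∨ B t) : (∃ t t', t - t' ≠ 0 ∧ A t ∧ A t') ∨
      ∃ t t', t - t' ≠ 0 ∧ B t ∧ B t' := by
  have e1 : (1 : k) - -1 ≠ 0 := by rwa [show (1 : k) - -1 = 2 by ring]
  have e2 : (2 : k) - 1 ≠ 0 := by rw [show (2 : k) - 1 = 1 by ring]; exact one_ne_zero
  have e3 : (2 : k) - -1 ≠ 0 := by rwa [show (2 : k) - -1 = 3 by ring]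
  rcases h 1 one_ne_zero with a | a <;> rcases h (-1) (by simp) with b | b <;>
    rcases h 2 h2 with c | c
  all_goals first
    | exact Or.inl ⟨_, _, e1, a, b⟩ | exact Or.inl ⟨_, _, e2, c, a⟩ | exact Or.inl ⟨_, _, e3, c, b⟩
    | exact Or.inr ⟨_, _, e1, a, b⟩ | exact Or.inr ⟨_, _, e2, c, a⟩ | exact Or.inr ⟨_, _, e3, c, b⟩

variable {k M : Type*} [Field k] [AddCommGroup M] [Module k M] [FiniteDimensional k M]
  {Γ : Subgroup (End k M)ˣ}

variable (Γ) in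
/-- having a common opposite -/
def Co (a c : End k M) : Prop := ∃ b, Mn Γ b ∧ b * a * b ≠ 0 ∧ b * c * b ≠ 0

variable (Γ) in
/-- the radical -/
def Rad (x : End k M) : Prop := ∀ a, Mn Γ a → a * x * a = 0

omit [FiniteDimensional k M] in
theorem Co.symm {a c : End k M} (h : Co Γ a c) : Co Γ c a := by
  obtain ⟨b, h1, h2, h3⟩ := h; exact ⟨b, h1, h3, h2⟩

theorem Co.conj {a c : End k M} (h : Co Γ a c) {g : (End k M)ˣ} (hg : g • Γ = Γ) :
    Co Γ ((g : End k M) * a * ((g⁻¹ : (End k M)ˣ) : End k M))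
      ((g : End k M) * c * ((g⁻¹ : (End k M)ˣ) : End k M)) := by
  obtain ⟨b, h1, h2, h3⟩ := h
  have key : ∀ a : End k M, b * a * b ≠ 0 → (g : End k M) * b * ((g⁻¹ : (End k M)ˣ) : End k M) *
      ((g : End k M) * a * ((g⁻¹ : (End k M)ˣ) : End k M)) *
      ((g : End k M) * b * ((g⁻¹ : (End k M)ˣ) : End k M)) ≠ 0 := fun a h e => h (by
    have : (g : End k M) * (b * a * b) * ((g⁻¹ : (End k M)ˣ) : End k M) = 0 := by
      simpa only [mul_assoc, Units.inv_mul_cancel_left] using e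
    rwa [Units.mul_left_eq_zero, Units.mul_right_eq_zero] at this)
  exact ⟨_, h1.conj' (fun x hx => hg ▸ conj_mem_smul hx g), key a h2, key c h3⟩

theorem le_symm_of_mn {a b : End k M} (ha : Mn Γ a) (hb : Mn Γ b) (h : Le a b) : Le b a :=
  (hb.of_le ha.1 ha.2.1 h).2

theorem mem_Nm_of_le {c : End k M} (hc : Mn Γ c) {g : (End k M)ˣ} (hg : g ∈ Γ)
    (h : Le ((g : End k M) * c * ((g⁻¹ : (End k M)ˣ) : End k M)) c) : g ∈ Nm Γ c :=
  ⟨hg, h, by simpa [mul_assoc] using (le_symm_of_mn (hc.conj hg) hc h).conj g⁻¹⟩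

/-- the standing assumptions -/
structure Std (Γ : Subgroup (End k M)ˣ) : Prop where
  h2 : (2 : k) ≠ 0
  h3 : (3 : k) ≠ 0
  c3 : Nat.card k ≠ 3
  opp : ∀ s, Mn Γ s → ∃ d, Mn Γ d ∧ s * d * s ≠ 0

namespace Std

variable (H : Std Γ)
include H

theorem op_symm {a b : End k M} (ha : Mn Γ a) (hb : Mn Γ b) (h : a * b * a ≠ 0) : b * a * b ≠ 0 :=
  fun e => h (hb.sandwich_symm H.h2 H.c3 ha e)

theorem op_le {a b b' : End k M} (ha : Mn Γ a) (hb : Nil k Γ b) (hb' : Mn Γ b') (l : Le b b')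
    (h : a * b * a ≠ 0) : a * b' * a ≠ 0 :=
  fun e => h (ha.sandwich_le H.h2 H.c3 hb' e hb (Le.refl a) (Le.refl a) l)

theorem nil_sw {a x : End k M} (ha : Mn Γ a) (hx : Nil k Γ x) : Nil k Γ (a * x * a) := by
  have := (ha.poly_mem H.h2 H.c3 hx).1 Polynomial.X
  rwa [Polynomial.aeval_X, show (a * x + x * a) * a = a * x * a by nl x * ha.1.1] at this

theorem mn_sw {a x : End k M} (ha : Mn Γ a) (hx : Nil k Γ x) (h : a * x * a ≠ 0) :
    Mn Γ (a * x * a) ∧ Le a (a * x * a) := ha.of_le (H.nil_sw ha hx) h (Le.sandwich a x)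

theorem partner {a x : End k M} (ha : Mn Γ a) (hx : Mn Γ x) (h : a * x * a ≠ 0) :
    ∃ d, Mn Γ d ∧ Le d x ∧ Le x d ∧ Tr a d := by
  obtain ⟨d, hd, l1, l2, e1, e2⟩ := ha.exists_partner' H.h2 H.c3 hx h
  exact ⟨d, hd, l1, l2, ha.1.1, hd.1.1, e1, e2⟩

theorem exists_tr {a : End k M} (ha : Mn Γ a) : ∃ d, Mn Γ d ∧ Tr a d := by
  obtain ⟨x, hx, h⟩ := H.opp a ha
  obtain ⟨d, hd, -, -, h⟩ := H.partner ha hx h
  exact ⟨d, hd, h⟩

theorem co_of_path {a x y c : End k M} (ha : Mn Γ a) (hx : Mn Γ x) (hy : Mn Γ y) (hc : Mn Γ c)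
    (h1 : a * x * a ≠ 0) (h2 : y * x * y ≠ 0) (h3 : c * y * c ≠ 0) : Co Γ a c := by
  by_cases e1 : a * y * a = 0
  swap
  · exact ⟨y, hy, H.op_symm ha hy e1, H.op_symm hc hy h3⟩
  by_cases e2 : c * x * c = 0
  swap
  · exact ⟨x, hx, H.op_symm ha hx h1, H.op_symm hc hx e2⟩
  by_contra hn
  obtain ⟨m1, m2⟩ := H.mn_sw hy hx.1 h2
  have e3 : a * (y * x * y) * a = 0 :=
    ha.sandwich_le H.h2 H.c3 hy e1 m1.1 (Le.refl a) (Le.refl a) (Le.sandwich y x)
  have e4 : c * (y * x * y) * c ≠ 0 := H.op_le hc hy.1 m1 m2 h3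
  rcases three_pts H.h2 H.h3 (A := fun t => a * x * a + t • (a * (y * x - x * y) * a) = 0)
    (B := fun t => c * (y * x - x * y) * c + t • (-(c * (y * x * y) * c)) = 0) (fun t ht => by
      by_contra h
      rw [not_or] at h
      have hb := hx.conj_nil (hy.1.smul t)
      refine hn ⟨_, hb, H.op_symm ha hb fun e => h.1 ?_, H.op_symm hc hb fun e => h.2 ?_⟩
      · nl e + (t * t) • e3
      · refine smul_right_injective _ ht ?_
        nl e - e2) with ⟨t, t', h, a1, a2⟩ | ⟨t, t', h, a1, a2⟩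
  · exact h1 (two_roots a1 a2 h).1
  · exact e4 (neg_eq_zero.1 (two_roots a1 a2 h).2)

theorem co_refl {a : End k M} (ha : Mn Γ a) : Co Γ a a := by
  obtain ⟨d, hd, h⟩ := H.opp a ha
  exact ⟨d, hd, H.op_symm ha hd h, H.op_symm ha hd h⟩

theorem co_of_op {a b : End k M} (ha : Mn Γ a) (hb : Mn Γ b) (h : a * b * a ≠ 0) : Co Γ a b :=
  H.co_of_path ha hb ha hb h h (H.op_symm ha hb h)

theorem co_of_tr {a b : End k M} (ha : Mn Γ a) (hb : Mn Γ b) (h : Tr a b) : Co Γ a b :=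
  H.co_of_op ha hb (by rw [h.sds]; exact ha.2.1)

theorem co_trans {a b c : End k M} (ha : Mn Γ a) (hb : Mn Γ b) (hc : Mn Γ c) (h1 : Co Γ a b)
    (h2 : Co Γ b c) : Co Γ a c := by
  obtain ⟨x, hx, x1, x2⟩ := h1
  obtain ⟨y, hy, y1, y2⟩ := h2
  obtain ⟨z, hz, z1, z2⟩ := H.co_of_path ha hx hb hy (H.op_symm hx ha x1) (H.op_symm hx hb x2) y1
  exact H.co_of_path ha hz hy hc (H.op_symm hz ha z1) (H.op_symm hz hy z2) (H.op_symm hy hc y2)

theorem co_of_le {a b : End k M} (ha : Mn Γ a) (hb : Mn Γ b) (l : Le a b) : Co Γ a b := by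
  obtain ⟨d, hd, h, -⟩ := H.co_refl ha
  exact ⟨d, hd, h, H.op_le hd ha.1 hb l h⟩

theorem co_comm {a b : End k M} (ha : Mn Γ a) (hb : Mn Γ b) (h : a * b * a = 0)
    (hne : a * b - b * a ≠ 0) : Co Γ a (a * b - b * a) := by
  have hc := (ha.cc H.h2 H.c3 hb h hne).1
  obtain ⟨d, hd, d1, -⟩ := H.co_refl ha
  obtain ⟨e, he, e1, -⟩ := H.co_refl hc
  by_cases d2 : d * (a * b - b * a) * d = 0
  swap
  · exact ⟨d, hd, d1, d2⟩
  by_cases e2 : e * a * e = 0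
  swap
  · exact ⟨e, he, e2, e1⟩
  have h' := ha.sandwich_symm H.h2 H.c3 hb h
  have hs := ha.conj_nil hb.1.neg
  exact H.co_trans ha hs hc ⟨d, hd, d1, fun e => d1 (by nl e - d2 + d * h' * d)⟩
    ⟨e, he, fun f => e1 (by nl f - e2 + e * h' * e), e1⟩

theorem comm_of_not_co {a b : End k M} (ha : Mn Γ a) (hb : Mn Γ b) (h : ¬ Co Γ a b) :
    a * b = b * a := by
  by_contra hne
  rw [← sub_eq_zero] at hne
  by_cases e : a * b * a = 0
  swap
  · exact h (H.co_of_op ha hb e)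
  have e' := ha.sandwich_symm H.h2 H.c3 hb e
  have hne' : b * a - a * b ≠ 0 := by rwa [← neg_sub, neg_ne_zero]
  have hc := (ha.cc H.h2 H.c3 hb e hne).1
  have hc' := (hb.cc H.h2 H.c3 ha e' hne').1
  refine h (H.co_trans ha hc hb (H.co_comm ha hb e hne) (H.co_trans hc hc' hb
    (H.co_of_le hc hc' ?_) (H.co_comm hb ha e' hne').symm))
  rw [← neg_sub (a * b)]
  exact (Le.refl _).neg_right

theorem co_conj_nil {a n : End k M} (ha : Mn Γ a) (hn : Nil k Γ n) :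
    Co Γ a ((1 + n) * a * (1 - n)) := by
  obtain ⟨d, hd, d1, -⟩ := H.co_refl ha
  have nn := hn.1
  have h1 := ha.conj_nil hn
  by_cases e1 : d * ((1 + n) * a * (1 - n)) * d = 0
  swap
  · exact ⟨d, hd, d1, e1⟩
  have he := hd.conj_nil hn
  have key : ∀ x : End k M, (1 + n) * d * (1 - n) * x * ((1 + n) * d * (1 - n)) = 0 →
      d * ((1 - n) * x * (1 + n)) * d = 0 := fun x h => by
    nl (1 - n) * h * (1 + n) + nn * d * (1 - n) * x * (1 + n) * d * (1 - n) * (1 + n)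
      + d * (1 - n) * x * (1 + n) * d * nn
  have e2 : (1 + n) * d * (1 - n) * ((1 + n) * a * (1 - n)) * ((1 + n) * d * (1 - n)) ≠ 0 :=
    fun e => d1 (by nl key _ e + d * nn * a * (1 - n) * (1 + n) * d + d * a * nn * d)
  by_cases e3 : (1 + n) * d * (1 - n) * a * ((1 + n) * d * (1 - n)) = 0
  swap
  · exact ⟨_, he, e3, e2⟩
  have e4 := key _ e3
  have h2 := ha.conj_nil (hn.smul (-2))
  have h8 : (16 : k) ≠ 0 := by
    rw [show (16 : k) = 2 ^ 4 by norm_num]; exact pow_ne_zero _ H.h2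
  have h6 : (6 : k) ≠ 0 := by
    rw [show (6 : k) = 2 * 3 by norm_num]; exact mul_ne_zero H.h2 H.h3
  refine H.co_trans ha h2 h1 ⟨d, hd, d1, fun e => d1 (smul_right_injective _ h6 ?_)⟩
    ⟨_, he, fun e => d1 (smul_right_injective _ h8 ?_), e2⟩
  · nl -(2 : k) • e + (2 : k) • e1 + (6 : k) • e4
  · nl -(2 : k) • key _ e + (6 : k) • e1 + (12 : k) • e4
      + (4 : k) • (d * nn * a * (1 + (2 : k) • n) * (1 + n) * d)
      + (4 : k) • (d * (1 - (3 : k) • n) * a * nn * d)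

theorem rad_of_opp {s x : End k M} (hs : Mn Γ s)
    (h : ∀ b, Mn Γ b → b * s * b ≠ 0 → b * x * b = 0) {a : End k M} (ha : Mn Γ a)
    (hc : Co Γ a s) : a * x * a = 0 := by
  obtain ⟨b, hb, b1, b2⟩ := hc
  by_cases e1 : a * s * a = 0
  swap
  · exact h a ha e1
  have e2 := ha.sandwich_symm H.h2 H.c3 hs e1
  obtain ⟨m1, m2⟩ := H.mn_sw hb ha.1 b1
  have e4 : s * (b * a * b) * s ≠ 0 := H.op_le hs hb.1 m1 m2 (H.op_symm hb hs b2)
  have e5 := h b hb b2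
  have bb := hb.1.1
  rcases three_pts H.h2 H.h3 (A := fun t => a * x * a + t • (a * (x * b - b * x) * a) = 0)
    (B := fun t => s * (b * a - a * b) * s + t • (-(s * (b * a * b) * s)) = 0) (fun t ht => by
      have hb := ha.conj_nil (hb.1.smul t)
      refine or_iff_not_imp_right.2 fun e => ?_
      have := h _ hb (H.op_symm hs hb fun f => e (smul_right_injective _ ht (by nl f - e2)))
      nl (1 - t • b) * this * (1 + t • b) + (t * t) • (a * e5 * a)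
        + (t * t) • (bb * a * (1 - t • b) * x * (1 + t • b) * a * (1 - t • b) * (1 + t • b))
        + (t * t) • (a * (1 - t • b) * x * (1 + t • b) * a * bb))
    with ⟨t, t', h, a1, a2⟩ | ⟨t, t', h, a1, a2⟩
  · exact (two_roots a1 a2 h).1
  · exact absurd (neg_eq_zero.1 (two_roots a1 a2 h).2) e4

omit H in
theorem _root_.Cfsg.Agent.H3.Fl.Rad.comm {x a b : End k M} (hx : Rad Γ x) (ha : Mn Γ a)
    (hb : Mn Γ b) : b * (a * x - x * a) * b = 0 := by
  have := hx _ (hb.conj_nil ha.1.neg)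
  have aa := ha.1.1
  nl (1 + a) * this * (1 - a) - hx b hb + b * hx a ha * b
    + aa * b * (1 + a) * x * (1 - a) * b * (1 + a) * (1 - a) + b * (1 + a) * x * (1 - a) * b * aa

end Std

variable (Γ) in
/-- the elements acting trivially modulo the radical -/
def Nr : Subgroup (End k M)ˣ where
  carrier := {z | z ∈ Γ ∧ ∀ a b, Mn Γ a → Mn Γ b →
    b * ((z : End k M) * a * ((z⁻¹ : (End k M)ˣ) : End k M)) * b = b * a * b}
  one_mem' := ⟨Γ.one_mem, by simp⟩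
  mul_mem' := fun {x y} hx hy => ⟨Γ.mul_mem hx.1 hy.1, fun a b ha hb => by
    rw [← hy.2 a b ha hb, ← hx.2 _ b (ha.conj hy.1) hb]
    simp [mul_assoc]⟩
  inv_mem' := fun {x} hx => ⟨Γ.inv_mem hx.1, fun a b ha hb => by
    rw [← hx.2 _ b (ha.conj (Γ.inv_mem hx.1)) hb]
    simp [mul_assoc]⟩

theorem smul_Nr {g : (End k M)ˣ} (hg : g • Γ = Γ) : g • Nr Γ = Nr Γ := by
  have key : ∀ g : (End k M)ˣ, g • Γ = Γ → g • Nr Γ ≤ Nr Γ := fun g hg x hx => by
    obtain ⟨z, hz, rfl⟩ := mem_smul_iff'.1 hx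
    have hg' : ∀ x ∈ Γ, g⁻¹ * x * g⁻¹⁻¹ ∈ Γ := fun x hx => by
      rw [inv_inv, ← mem_smul_iff, hg]; exact hx
    refine ⟨hg ▸ conj_mem_smul hz.1 g, fun a b ha hb => ?_⟩
    have := congrArg (fun x => (g : End k M) * x * ((g⁻¹ : (End k M)ˣ) : End k M))
      (hz.2 _ _ (ha.conj' hg') (hb.conj' hg'))
    simpa [mul_assoc] using this
  refine le_antisymm (key g hg) ?_
  rw [← smul_le_smul_iff' (g := g⁻¹), inv_smul_smul]
  exact key _ (by rw [inv_smul_eq_iff, hg])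

theorem Std.Nr_comm_conj (H : Std Γ) {z : (End k M)ˣ} (hz : z ∈ Nr Γ) {a : End k M} (ha : Mn Γ a) :
    a * ((z : End k M) * a * ((z⁻¹ : (End k M)ˣ) : End k M)) -
      (z : End k M) * a * ((z⁻¹ : (End k M)ˣ) : End k M) * a = 0 := by
  have ha' := ha.conj hz.1
  have h1 := hz.2 a
  generalize (z : End k M) * a * ((z⁻¹ : (End k M)ˣ) : End k M) = a' at ha' h1
  by_contra hne
  have hc := (ha.cc H.h2 H.c3 ha' (by rw [h1 a ha ha, ha.1.1, zero_mul]) hne).1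
  obtain ⟨b, hb, e⟩ := H.opp _ hc
  have hr : Rad Γ (a' - a) := fun b hb => by nl h1 b ha hb
  exact H.op_symm hc hb e (by nl hr.comm ha hb)

theorem Std.Nr_comm (H : Std Γ) {G : Subgroup (End k M)ˣ} (hG : IsIrreducibleFor G)
    (hn : ∀ g ∈ G, g • Γ = Γ) {z : (End k M)ˣ} (hz : z ∈ Nr Γ) {a : End k M} (ha : Mn Γ a) :
    (z : End k M) * a = a * z := by
  let W : Set (Subgroup (End k M)ˣ) := {A | ∃ z ∈ Nr Γ,
    A = Eg k Γ ((z : End k M) * a * ((z⁻¹ : (End k M)ˣ) : End k M))}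
  have cm : ∀ x ∈ Nr Γ, ∀ y ∈ Nr Γ, (x : End k M) * a * ((x⁻¹ : (End k M)ˣ) : End k M) *
      ((y : End k M) * a * ((y⁻¹ : (End k M)ˣ) : End k M)) -
      (y : End k M) * a * ((y⁻¹ : (End k M)ˣ) : End k M) *
      ((x : End k M) * a * ((x⁻¹ : (End k M)ˣ) : End k M)) = 0 := fun x hx y hy => by
    have := H.Nr_comm_conj ((Nr Γ).mul_mem hy ((Nr Γ).inv_mem hx)) (ha.conj hx.1)
    simpa [mul_assoc] using this
  have hU : Unip k (⨆ A ∈ W, A) := unip_biSup (by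
      rintro _ ⟨x, hx, rfl⟩ _ ⟨y, hy, rfl⟩ u hu
      rw [((ha.conj hx.1).cm_of_commute H.h2 H.c3 (ha.conj hy.1) (cm x hx y hy)).smul_eq hu]
      exact ⟨y, hy, rfl⟩) (by
      rintro _ ⟨x, hx, rfl⟩ _ ⟨y, hy, rfl⟩
      refine (ha.conj hx.1).unip H.h2 H.c3 (ha.conj hy.1) ?_
      have := (ha.conj hx.1).1.1
      nl cm x hx y hy * ((x : End k M) * a * ((x⁻¹ : (End k M)ˣ) : End k M))
        + (y : End k M) * a * ((y⁻¹ : (End k M)ˣ) : End k M) * this)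
  have hW : ∀ g ∈ Nr Γ, g • (⨆ A ∈ W, A) = ⨆ A ∈ W, A := smul_eq_of_forall_le fun g hg =>
    smul_biSup_le (by
      rintro _ ⟨x, hx, rfl⟩
      refine ⟨g * x, (Nr Γ).mul_mem hg hx, ?_⟩
      rw [smul_Eg _ hg.1]
      simp [mul_assoc])
  have hb := eq_bot_of_unip' (G₀ := Nr Γ) (U := (⨆ A ∈ W, A) ⊓ Nr Γ) hG
    (fun g hg => smul_Nr (hn g hg)) inf_le_right
    (fun g hg => by rw [smul_inf', hW g hg, smul_eq_of_mem hg]) (hU.mono inf_le_left)
  obtain ⟨x, hx, -, ex⟩ := ha.exists_mem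
  have hxW : x ∈ ⨆ A ∈ W, A := le_gen_of_mem (S := W) ⟨1, one_mem _, rfl⟩ (by simpa using hx)
  have : z * x * z⁻¹ * x⁻¹ ∈ (⨆ A ∈ W, A) ⊓ Nr Γ := by
    refine Subgroup.mem_inf.2 ⟨mul_mem (hW z hz ▸ conj_mem_smul hxW z) (inv_mem hxW), ?_⟩
    have := (Nr Γ).mul_mem hz (smul_Nr (smul_eq_of_mem (Eg_le a hx)) ▸
      conj_mem_smul ((Nr Γ).inv_mem hz) x)
    simpa only [mul_assoc] using this
  rw [hb, Subgroup.mem_bot, mul_inv_eq_one, mul_inv_eq_iff_eq_mul] at this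
  have := congrArg Units.val this
  rw [Units.val_mul, Units.val_mul] at this
  rw [← ex]
  nl this

theorem Std.sq_mem_Nr (H : Std Γ) {g : (End k M)ˣ} (hg : g ∈ Γ) {x y : End k M}
    (e : (g : End k M) = 1 + x + y) (xx : x * x = (2 : k) • y) (xy : x * y = 0) (yx : y * x = 0)
    (yy : y * y = 0) (hx : Rad Γ x) : g * g ∈ Nr Γ := by
  have e1 : ((g⁻¹ : (End k M)ˣ) : End k M) = 1 - x + y := by
    rw [Units.inv_eq_of_mul_eq_one_right]
    rw [e]
    nl -xx + xy - yx + yy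
  have e2 : ((g * g : (End k M)ˣ) : End k M) = 1 + (2 : k) • x + (4 : k) • y := by
    rw [Units.val_mul, e]
    nl xx + xy + yx + yy
  have e3 : (((g * g)⁻¹ : (End k M)ˣ) : End k M) = 1 - (2 : k) • x + (4 : k) • y := by
    rw [mul_inv_rev, Units.val_mul, e1]
    nl xx - xy - yx + yy
  refine ⟨Γ.mul_mem hg hg, fun a b ha hb => smul_right_injective _ H.h3 ?_⟩
  have a0 := hx.comm ha hb
  have a1 := hx.comm (ha.conj hg) hb
  have a2 := hx.comm (ha.conj (Γ.mul_mem hg hg)) hb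
  rw [e, e1] at a1
  rw [e2, e3] at a2 ⊢
  nl -a0 - (4 : k) • a1 - a2 - (6 : k) • (b * xx * a * b + b * a * xx * b)
    - (8 : k) • (b * xy * a * b - b * a * yx * b - b * xx * a * x * b + b * x * a * xx * b)
    - (12 : k) • (b * xx * a * y * b + b * y * a * xx * b - b * xy * a * x * b - b * x * a * yx * b)
    - (20 : k) • (b * xy * a * y * b - b * y * a * yx * b)

end Cfsg.Agent.H3.Fl
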