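import Cfsg.Agent.H3.Fl2

/-! Quadratic elements over the prime field: the unipotent radicals. -/

set_option autoImplicit false

namespace Cfsg.Agent.H3.Fl

open Cfsg.Agent.H8 Cfsg.Agent.H8.QP Module

section Ring

variable {k E : Type*} [Field k] [Ring E] [Algebra k E] {Γ : Subgroup Eˣ}

theorem unip_zpowers [Finite E] {x : Eˣ} (h : IsNilpotent ((x : E) - 1)) :
    Unip k (Subgroup.zpowers x) := by
  obtain ⟨m, hm⟩ := h
  have key : ∀ l : List Eˣ, (∀ g ∈ l, g ∈ Subgroup.zpowers x) →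
      ∃ c, (l.map fun g : Eˣ => (g : E) - 1).prod = ((x : E) - 1) ^ l.length * c := by
    intro l
    induction l with
    | nil => exact fun _ => ⟨1, by simp⟩
    | cons g l ih =>
      intro hl
      obtain ⟨c, hc⟩ := ih fun g hg => hl g (List.mem_cons_of_mem _ hg)
      obtain ⟨j, rfl⟩ := (mem_powers_iff_mem_zpowers.2 (hl g List.mem_cons_self))
      refine ⟨(∑ i ∈ Finset.range j, (x : E) ^ i) * c, ?_⟩
      have c1 : Commute (∑ i ∈ Finset.range j, (x : E) ^ i) (((x : E) - 1) ^ l.length) :=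
        Commute.sum_left _ _ _ fun i _ =>
          (((Commute.refl (x : E)).sub_right (Commute.one_right _)).pow_pow _ _)
      rw [List.map_cons, List.prod_cons, hc, Units.val_pow_eq_pow_val, ← mul_geom_sum,
        List.length_cons, pow_succ', mul_assoc, ← mul_assoc _ _ c, c1.eq]
      simp only [mul_assoc]
  refine unip_iff.2 ⟨m, fun l hl e => ?_⟩
  obtain ⟨c, hc⟩ := key l hl
  rw [hc, e, hm, zero_mul]

theorem tor_comm {s d b : E} (h : Tr s d) (h1 : s * b = b * s) (h2 : d * b = b * d) (t : kˣ) :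
    tor h t * b = b * tor h t := by
  rw [tor_val, hh]
  nl ((t : k) - 1) • (s * h2 + h1 * d) + (((t⁻¹ : kˣ) : k) - 1) • (d * h1 + h2 * s)

theorem coreJ_conj {c y : E} (hy : y ∈ coreJ k c) {g : Eˣ} (hg : g ∈ Nm Γ c) :
    g * y * (g⁻¹ : Eˣ) ∈ coreJ k c := by
  have := fg_iff.1 ((fg_iff.2 (show 1 + y - 1 ∈ coreJ k c by simpa using hy)).conj hg)
  simpa [mul_add, add_mul] using this

variable (k Γ) in
/-- the degree one parts of the elements of the unipotent radical -/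
def L1 (c c' y : E) : Prop :=
  y ∈ coreJ k c ∧ c' * y * c' = 0 ∧ ∃ u ∈ Γ, Le ((u : E) - 1 - y) c

theorem L1.dec {c c' y : E} (h : Tr c c') (hy : L1 k Γ c c' y) :
    y = c * c' * y + y * (c' * c) := by
  have := hy.1.2.2 (1 - c' * c) (1 - c * c') (by nl -h.sds) (by nl -h.sds)
  nl this - c * hy.2.1 * c

theorem L1.mul_le {c c' y y' : E} (h : Tr c c') (hy : L1 k Γ c c' y) (hy' : L1 k Γ c c' y') :
    Le (y * y') c := by
  have : y * y' = c * (c' * y * y' * c') * c := by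
    nl hy.dec h * y' + y * c' * hy'.1.1 + c * c' * y * hy'.dec h + c * c' * hy.1.2.1 * c' * y'
  rw [this]
  exact Le.sandwich _ _

theorem L1.zero {c c' : E} : L1 k Γ c c' 0 :=
  ⟨Submodule.zero_mem _, by simp, 1, Γ.one_mem, by simpa using Le.zero c⟩

theorem L1.add {c c' y y' : E} (h : Tr c c') (hy : L1 k Γ c c' y) (hy' : L1 k Γ c c' y') :
    L1 k Γ c c' (y + y') := by
  obtain ⟨u, hu, l⟩ := hy.2.2
  obtain ⟨u', hu', l'⟩ := hy'.2.2
  refine ⟨Submodule.add_mem _ hy.1 hy'.1, by nl hy.2.1 + hy'.2.1, u * u', Γ.mul_mem hu hu', ?_⟩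
  have : ((u * u' : Eˣ) : E) - 1 - (y + y') = (u - 1 - y) + (u' - 1 - y') + y * y' := by
    rw [Units.val_mul]
    nl l.2 _ hy'.1.1 + l'.1 _ hy.1.2.1 + l.mul_eq_zero l' h.ss
  rw [this]
  exact (l.add l').add (hy.mul_le h hy')

theorem L1.conj {c c' y : E} (hy : L1 k Γ c c' y) {g : Eˣ} (h1 : g ∈ Nm Γ c) (h2 : g ∈ Nm Γ c') :
    L1 k Γ c c' (g * y * (g⁻¹ : Eˣ)) := by
  obtain ⟨u, hu, l⟩ := hy.2.2
  refine ⟨coreJ_conj hy.1 h1, ?_, g * u * g⁻¹, Γ.mul_mem (Γ.mul_mem h1.1 hu) (Γ.inv_mem h1.1), ?_⟩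
  · have e1 := Nm.l2 h2 (x := y * c') (by nl hy.2.1)
    have e2 := Nm.l1 ((Nm Γ c').inv_mem h2) (y := c' * g * y) (by nl e1)
    nl e2
  · have := (l.conj g).trans h1.2.1
    rwa [mul_sub, sub_mul, ← conj_sub_one] at this

theorem L1.of_mem {c c' : E} (h : Tr c c') {u : Eˣ} (hu : u ∈ Ug k Γ c) :
    L1 k Γ c c' (u - 1 - c * (c' * (u - 1) * c') * c) :=
  ⟨Submodule.sub_mem _ (mem_Ug.1 hu).2 (mem_coreJ_of_le h.ss (Le.sandwich _ _)),
    by nl -h.dsd * (u - 1) * c' * c * c' - c' * (u - 1) * h.dsd, u, hu.1,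
    by rw [sub_sub_cancel]; exact Le.sandwich _ _⟩

theorem L1.cube {c c' y : E} (hy : L1 k Γ c c' y) : y * y * y = 0 := coreJ_cube hy.1 hy.1 hy.1

theorem exp_val {c c' y : E} (h : Tr c c') (hy : L1 k Γ c c' y) {u : Eˣ}
    (l : Le ((u : E) - 1 - y) c) :
    ((u * (tor h (-1 : kˣ) * u⁻¹ * (tor h (-1 : kˣ))⁻¹) : Eˣ) : E) =
      1 + (2 : k) • y + (2 : k) • (y * y) := by
  have e1 : (tor h (-1 : kˣ) : E) = 1 - (2 : k) • (c * c') - (2 : k) • (c' * c) := by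
    rw [tor_val, hh, inv_neg_one, Units.val_neg, Units.val_one]; module
  have e0 := (tor h (-1 : kˣ)).mul_inv
  generalize hw : (u : E) - 1 - y = w at l
  have wy := l.2 _ hy.1.1
  have yw := l.1 _ hy.1.2.1
  have ww := l.mul_eq_zero l h.ss
  have yyy := hy.cube
  have e2 : ((u⁻¹ : Eˣ) : E) = 1 - y - w + y * y := by
    rw [Units.inv_eq_of_mul_eq_one_right]
    nl hw * (1 - y - w + y * y) - yw + yyy - wy - ww + wy * y
  have e3 : tor h (-1 : kˣ) * y = -(y * tor h (-1 : kˣ)) := by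
    rw [e1]
    nl (2 : k) • hy.dec h - (2 : k) • (c' * hy.1.1) - (2 : k) • (hy.1.2.1 * c')
  have e4 : tor h (-1 : kˣ) * w = w * tor h (-1 : kˣ) := by
    have a1 := l.1 (1 - c * c') (by nl -h.sds)
    have a2 := l.2 (1 - c' * c) (by nl -h.sds)
    rw [e1]
    nl (2 : k) • a1 - (2 : k) • a2 - (2 : k) • (c' * l.1 _ h.ss) + (2 : k) • (l.2 _ h.ss * c')
  have e5 : ((tor h (-1 : kˣ) * u⁻¹ * (tor h (-1 : kˣ))⁻¹ : Eˣ) : E) = 1 + y - w + y * y := by
    rw [Units.val_mul, Units.val_mul, e2]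
    generalize (((tor h (-1 : kˣ))⁻¹ : Eˣ) : E) = J at e0 ⊢
    nl (1 + y - w + y * y) * e0 - e3 * J - e4 * J + e3 * y * J - y * e3 * J
  rw [Units.val_mul, e5]
  nl hw * (1 + y - w + y * y) - yw + yyy + wy - ww + wy * y

theorem exp_mem_Ug {c c' y : E} (hy : L1 k Γ c c' y) {x : Eˣ} (hx : x ∈ Γ)
    (e : (x : E) = 1 + (2 : k) • y + (2 : k) • (y * y)) : x ∈ Ug k Γ c := by
  refine mem_Ug.2 ⟨hx, ?_⟩
  rw [e, add_assoc, add_sub_cancel_left]
  exact Submodule.add_mem _ (Submodule.smul_mem _ _ hy.1)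
    (Submodule.smul_mem _ _ (coreJ_mul c (Submodule.mul_mem_mul hy.1 hy.1)))

theorem L1.exists_exp {c c' y : E} (h : Tr c c') (hc : Nil k Γ c) (hc' : Nil k Γ c')
    (hy : L1 k Γ c c' y) : ∃ x ∈ Ug k Γ c, (x : E) = 1 + (2 : k) • y + (2 : k) • (y * y) := by
  obtain ⟨u, hu, l⟩ := hy.2.2
  have hi := tor_mem h hc hc' (-1)
  exact ⟨_, exp_mem_Ug hy (Γ.mul_mem hu (Γ.mul_mem (Γ.mul_mem hi (Γ.inv_mem hu)) (Γ.inv_mem hi)))
    (exp_val h hy l), exp_val h hy l⟩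

theorem exp_inv {y : E} (hy : y * y * y = 0) {x : Eˣ}
    (e : (x : E) = 1 + (2 : k) • y + (2 : k) • (y * y)) :
    ((x⁻¹ : Eˣ) : E) = 1 - (2 : k) • y + (2 : k) • (y * y) := by
  rw [Units.inv_eq_of_mul_eq_one_right]
  rw [e]
  nl (4 : k) • (hy * y)

theorem eq_zero_of_fix {J : Submodule k E} (hJ : IsNilpotent J) {a b ξ : E} (ha : a ∈ J)
    (hb : b ∈ J) (e : ξ = a * ξ + ξ * b) : ξ = 0 := by
  obtain ⟨n, hn⟩ := hJ
  have k1 : ∀ a ∈ J, IsNilpotent a := fun a ha => ⟨n, by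
    have := Submodule.pow_mem_pow J ha n
    rwa [hn] at this⟩
  obtain ⟨m, hm⟩ := Commute.isNilpotent_add (LinearMap.commute_mulLeft_right (R := k) a b)
    ((LinearMap.isNilpotent_mulLeft_iff k a).2 (k1 a ha))
    ((LinearMap.isNilpotent_mulRight_iff k b).2 (k1 b hb))
  have : ∀ m : ℕ, ((LinearMap.mulLeft k a + LinearMap.mulRight k b) ^ m) ξ = ξ := fun m => by
    induction m with
    | zero => rfl
    | succ m ih => rw [pow_succ, End.mul_apply, LinearMap.add_apply, LinearMap.mulLeft_apply,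
        LinearMap.mulRight_apply, ← e, ih]
  rw [← this m, hm, LinearMap.zero_apply]

end Ring

section Prime

variable {p : ℕ} [Fact p.Prime] {E : Type*} [Ring E] [Algebra (ZMod p) E] {Γ : Subgroup Eˣ}

theorem sub_one_pow (x : E) (n : ℕ) : (x - 1) ^ p ^ n = x ^ p ^ n - 1 := by
  rcases subsingleton_or_nontrivial E with _ | _
  · exact Subsingleton.elim _ _
  have : CharP E p := charP_of_injective_algebraMap' (ZMod p) p
  rw [sub_pow_char_pow_of_commute p n (Commute.one_right x), one_pow]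

theorem pow_eq_one_of_cube (hp : 3 ≤ p) {x : Eˣ}
    (h : ((x : E) - 1) * ((x : E) - 1) * ((x : E) - 1) = 0) : x ^ p = 1 := by
  ext1
  have := sub_one_pow (p := p) (x : E) 1
  rw [pow_one, pow_eq_zero_of_le hp (by rw [pow_three']; exact h)] at this
  rw [Units.val_pow_eq_pow_val, Units.val_one]
  exact (sub_eq_zero.1 this.symm)

theorem isPGroup_of_cube (hp : 3 ≤ p) {H : Subgroup Eˣ}
    (h : ∀ x ∈ H, ((x : E) - 1) * ((x : E) - 1) * ((x : E) - 1) = 0) : IsPGroup p H :=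
  fun x => ⟨1, Subtype.ext (by rw [pow_one]; exact pow_eq_one_of_cube hp (h x x.2))⟩

theorem Ug_isPGroup (hp : 3 ≤ p) (c : E) : IsPGroup p (Ug (ZMod p) Γ c) :=
  isPGroup_of_cube hp fun _ hx => by
    have := (mem_Ug.1 hx).2
    exact coreJ_cube this this this

theorem Eg_isPGroup (hp : 3 ≤ p) {c : E} (hc : c * c = 0) : IsPGroup p (Eg (ZMod p) Γ c) :=
  isPGroup_of_cube hp fun _ hx => by rw [((mem_Eg hc).1 hx).1.1, zero_mul]

theorem nil_of_mem {g : Eˣ} {n : E} (hg : g ∈ Γ) (e : (g : E) = 1 + n) (h : n * n = 0) :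
    Nil (ZMod p) Γ n := by
  refine ⟨h, fun c => ?_⟩
  obtain ⟨j, rfl⟩ := ZMod.natCast_zmod_surjective c
  refine ⟨g ^ j, Γ.pow_mem hg j, ?_⟩
  induction j with
  | zero => simp
  | succ j ih =>
    rw [pow_succ, Units.val_mul, ih, e, Nat.cast_succ]
    nl (j : ZMod p) • h

theorem unip_of_isPGroup [Finite E] {D : Subgroup Eˣ} (hD : IsPGroup p D) : Unip (ZMod p) D := by
  obtain ⟨U, -, hU⟩ := Finite.exists_le_maximal
    (p := fun U : Subgroup Eˣ => U ≤ D ∧ Unip (ZMod p) U) (a := ⊥) ⟨bot_le, unip_bot⟩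
  by_contra hn
  have hlt : U < D := lt_of_le_of_ne hU.1.1 fun e => hn (e ▸ hU.1.2)
  have := hD.isNilpotent
  obtain ⟨x, hx, hxU⟩ := SetLike.exists_of_lt (H2.lt_inf_normalizer_of_nilpotent hlt)
  obtain ⟨n, hn⟩ := hD ⟨x, hx.1⟩
  have h1 : Unip (ZMod p) (Subgroup.zpowers x) := unip_zpowers ⟨p ^ n, by
    rw [sub_one_pow, ← Units.val_pow_eq_pow_val, show x ^ p ^ n = 1 from congrArg Subtype.val hn]
    simp⟩
  exact hxU (hU.2 ⟨sup_le hU.1.1 (Subgroup.zpowers_le.2 hx.1), unip_sup hU.1.2 h1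
    fun v hv u hu => H2.conj_mem_of_le_normalizer (Subgroup.zpowers_le.2 hx.2) hv hu⟩ le_sup_left
    (Subgroup.mem_sup_right (Subgroup.mem_zpowers x)))

variable (Γ) in
/-- the degree one part of the unipotent radical -/
def lie1 {c c' : E} (h : Tr c c') : Submodule (ZMod p) E where
  carrier := {y | L1 (ZMod p) Γ c c' y}
  zero_mem' := L1.zero
  add_mem' := L1.add h
  smul_mem' := fun a y hy => by
    obtain ⟨j, rfl⟩ := ZMod.natCast_zmod_surjective a
    induction j with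
    | zero => simpa using L1.zero
    | succ j ih => rw [Nat.cast_succ, add_smul, one_smul]; exact L1.add h ih hy

theorem coprime_tor [Finite E] {s d : E} (h : Tr s d) (t : (ZMod p)ˣ) {U : Subgroup Eˣ}
    (hU : IsPGroup p U) : (orderOf (tor h t)).Coprime (Nat.card U) := by
  obtain ⟨n, hn⟩ := hU.exists_card_eq
  rw [hn]
  refine Nat.Coprime.pow_right _ (Nat.Coprime.coprime_dvd_left (orderOf_dvd_of_pow_eq_one
    (n := p - 1) (by rw [← map_pow, ZMod.units_pow_card_sub_one_eq_one, map_one])) ?_)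
  have := (Fact.out : p.Prime).one_le
  exact (Nat.coprime_self_sub_left this).2 (Nat.coprime_one_left _)

end Prime

theorem tor_diag {k E : Type*} [Field k] [Ring E] [Algebra k E] {s d : E} (h : Tr s d) (t : kˣ) :
    ⨆ μ, End.genEigenspace (LinearMap.mulLeftRight k
      ((tor h t : E), (((tor h t)⁻¹ : Eˣ) : E))) μ 1 = ⊤ := by
  set S := ⨆ μ, End.genEigenspace (LinearMap.mulLeftRight k
      ((tor h t : E), (((tor h t)⁻¹ : Eˣ) : E))) μ 1 with hS
  have key : ∀ (a b x : E) (α β : k), tor h t * a = α • a → b * (((tor h t)⁻¹ : Eˣ) : E) = β • b →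
      a * x * b ∈ S := fun a b x α β h1 h2 =>
    Submodule.mem_iSup_of_mem (α * β) (End.mem_genEigenspace_one.2 (by
      rw [LinearMap.mulLeftRight_apply]
      nl h1 * x * b * (((tor h t)⁻¹ : Eˣ) : E) + α • (a * x * h2)))
  have k1 : ∀ (b x : E) (β : k), b * (((tor h t)⁻¹ : Eˣ) : E) = β • b → x * b ∈ S := fun b x β e => by
    rw [show x * b = s * d * x * b + d * s * x * b + (1 - s * d - d * s) * x * b by noncomm_ring]
    refine add_mem (add_mem (key _ _ _ t _ ?_ e) (key _ _ _ (t⁻¹ : kˣ) _ ?_ e)) (key _ _ _ 1 _ ?_ e)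
    all_goals rw [tor_val, hh]
    · nl ((t : k) - 1) • (h.sds * d) + (((t⁻¹ : kˣ) : k) - 1) • (d * h.ss * d)
    · nl ((t : k) - 1) • (s * h.dd * s) + (((t⁻¹ : kˣ) : k) - 1) • (h.dsd * s)
    · nl -((t : k) - 1) • (h.sds * d) - (((t⁻¹ : kˣ) : k) - 1) • (d * h.ss * d)
        - ((t : k) - 1) • (s * h.dd * s) - (((t⁻¹ : kˣ) : k) - 1) • (h.dsd * s)
  rw [eq_top_iff]
  intro x _
  rw [show x = x * (s * d) + x * (d * s) + x * (1 - s * d - d * s) by noncomm_ring]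
  refine add_mem (add_mem (k1 _ _ (t⁻¹ : kˣ) ?_) (k1 _ _ t ?_)) (k1 _ _ 1 ?_)
  all_goals rw [← map_inv, tor_val, hh, inv_inv]
  · nl (((t⁻¹ : kˣ) : k) - 1) • (h.sds * d) + ((t : k) - 1) • (s * h.dd * s)
  · nl (((t⁻¹ : kˣ) : k) - 1) • (d * h.ss * d) + ((t : k) - 1) • (h.dsd * s)
  · nl -(((t⁻¹ : kˣ) : k) - 1) • (h.sds * d) - ((t : k) - 1) • (s * h.dd * s)
      - (((t⁻¹ : kˣ) : k) - 1) • (d * h.ss * d) - ((t : k) - 1) • (h.dsd * s)

section Mod

variable {k M : Type*} [Field k] [AddCommGroup M] [Module k M] [FiniteDimensional k M]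
  [Finite (End k M)] {Γ G : Subgroup (End k M)ˣ}

theorem Std.tor_comm (H : Std Γ) {c c' b : End k M} (hc : Mn Γ c) (hc' : Mn Γ c') (h : Tr c c')
    (hb : Mn Γ b) (hn : ¬ Co Γ c b) (t : kˣ) : (tor h t : End k M) * b = b * tor h t :=
  Fl.tor_comm h (H.comm_of_not_co hc hb hn) (H.comm_of_not_co hc' hb fun e =>
    hn (H.co_trans hc hc' hb (H.co_of_tr hc hc' h) e)) t

theorem Ug.conj_eq {c : End k M} {u : (End k M)ˣ} (hu : u ∈ Ug k Γ c) :
    (u : End k M) * c * ((u⁻¹ : (End k M)ˣ) : End k M) = c := by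
  rw [Ug.comm hu (Le.refl c), mul_assoc, Units.mul_inv, mul_one]

theorem Std.Ug_comm (H : Std Γ) {c b : End k M} (hc : Mn Γ c) (hb : Mn Γ b) (hn : ¬ Co Γ c b)
    {u : (End k M)ˣ} (hu : u ∈ Ug k Γ c) : (u : End k M) * b = b * u := by
  obtain ⟨d, hd, h⟩ := H.exists_tr hc
  have ht := tor_mem h hc.1 hd.1 (two H.h2)
  obtain ⟨v, hv, e⟩ := exists_conj_tor H.h2 H.h3 h ht (Γ.mul_mem hu.1 ht) (by
    have := hu.2.mul (tor_fg h (two H.h2))
    rwa [one_mul, one_mul] at this)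
  have h' := h.conj v
  rw [conj_tor] at e
  have e1 := H.tor_comm (hc.conj hv.1) (hd.conj hv.1) h' hb (by rwa [Ug.conj_eq hv]) (two H.h2)
  have e2 := H.tor_comm hc hd h hb hn (two H.h2)
  rw [e, Units.val_mul] at e1
  refine (Units.mul_left_inj (tor h (two H.h2))).1 ?_
  nl e1 - (u : End k M) * e2

theorem Std.rad_of (H : Std Γ) {c c' y : End k M} (hc : Mn Γ c) (hc' : Mn Γ c') (h : Tr c c')
    (e : c' * y * c' = 0) (h1 : ∀ u ∈ Ug k Γ c, (u : End k M) * y = y * u)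
    (h2 : ∀ b, Mn Γ b → ¬ Co Γ c b → y * b = b * y) : Rad Γ y := by
  intro a ha
  by_cases hn : Co Γ c a
  swap
  · nl a * h2 a ha hn + ha.1.1 * y
  refine H.rad_of_opp hc (fun b hb hne => ?_) ha hn.symm
  obtain ⟨d, hd, -, l, h'⟩ := H.partner hc hb (H.op_symm hb hc hne)
  obtain ⟨u, hu, rfl⟩ := exists_conj_opp H.h2 H.h3 h h' hc.1 hc'.1 hd.1
  refine l.mul3 l ?_
  have i := u.inv_mul
  nl (u : End k M) * e * ((u⁻¹ : (End k M)ˣ) : End k M)
    - (u : End k M) * c' * ((u⁻¹ : (End k M)ˣ) : End k M) * h1 u hu * c' * (u⁻¹ : (End k M)ˣ)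
    + (u : End k M) * c' * i * y * c' * ((u⁻¹ : (End k M)ˣ) : End k M)

/-- central elements of the unipotent radical have no part of degree one -/
theorem Std.deg_one (H : Std Γ) (hG : IsIrreducibleFor G) (hn : ∀ g ∈ G, g • Γ = Γ)
    {c c' y : End k M} (hc : Mn Γ c) (hc' : Mn Γ c') (h : Tr c c') (hy : L1 k Γ c c' y)
    (hz : ∀ y', L1 k Γ c c' y' → y * y' = y' * y) : y = 0 := by
  obtain ⟨x, hx, e⟩ := hy.exists_exp h hc.1 hc'.1
  have yyy := hy.cube
  have e' := exp_inv yyy e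
  have h4 : (4 : k) ≠ 0 := by
    rw [show (4 : k) = 2 * 2 by norm_num]; exact mul_ne_zero H.h2 H.h2
  have hr : Rad Γ y := H.rad_of hc hc' h hy.2.1 (fun u hu => by
      have := hz _ (L1.of_mem h hu)
      nl -this + c * c' * (u - 1) * c' * hy.1.1 - hy.1.2.1 * c' * (u - 1) * c' * c)
    (fun b hb hn => smul_right_injective _ h4 (by
      have a1 := H.Ug_comm hc hb hn hx
      have a2 := H.Ug_comm hc hb hn ((Ug k Γ c).inv_mem hx)
      rw [e'] at a2
      rw [e] at a1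
      nl a1 - a2))
  have hN := H.sq_mem_Nr hx.1 e (by h8ncr) (by nl (4 : k) • yyy)
    (by nl (4 : k) • yyy) (by nl (4 : k) • (yyy * y)) (fun a ha => by nl (2 : k) • hr a ha)
  have h1 := Ug.eq_one H.h2 H.h3 h ((Ug k Γ c).mul_mem hx hx) (Units.ext (Fl.tor_comm h
    (H.Nr_comm hG hn hN hc).symm (H.Nr_comm hG hn hN hc').symm _).symm)
  have h2 := congrArg Units.val (eq_inv_of_mul_eq_one_left h1)
  rw [e', e] at h2
  exact smul_right_injective _ h4 (by nl h2)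

theorem eq_one_of_central (hG : IsIrreducibleFor G) (hn : ∀ g ∈ G, g • Γ = Γ) {z : (End k M)ˣ}
    (hz : z ∈ ⨆ A ∈ Sig Γ, A) (hc : ∀ a, Mn Γ a → (z : End k M) * a = a * z)
    (hu : IsNilpotent ((z : End k M) - 1)) : z = 1 := by
  have h1 : (⨆ A ∈ Sig Γ, A) ≤ Subgroup.centralizer (Subgroup.zpowers z : Set (End k M)ˣ) := by
    refine iSup₂_le ?_
    rintro _ ⟨s, hs, rfl⟩ a ha
    rw [Subgroup.zpowers_eq_closure, Subgroup.centralizer_closure,
      Subgroup.mem_centralizer_singleton_iff]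
    by_cases h1 : a = 1
    · simp [h1]
    · ext1
      rw [Units.val_mul, Units.val_mul]
      nl -hc _ (hs.mem_Eg ha h1).1
  have := eq_bot_of_unip' (G₀ := ⨆ A ∈ Sig Γ, A) hG (smul_eq_of_forall_le fun g hg =>
    smul_biSup_le fun A hA => Sig.smul' hA (hn g hg)) (Subgroup.zpowers_le.2 hz)
    (fun g hg => smul_eq_of_commute fun a ha => (h1 hg a ha).symm) (unip_zpowers hu)
  exact Subgroup.zpowers_eq_bot.1 this

end Mod

section ModP

variable {p : ℕ} [Fact p.Prime] {M : Type*} [AddCommGroup M] [Module (ZMod p) M]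
  [FiniteDimensional (ZMod p) M] [Finite (End (ZMod p) M)] {Γ G : Subgroup (End (ZMod p) M)ˣ}

/-- the radical of a root element fixes only one class in its component -/
theorem Std.le_of_Ug_le (H : Std Γ) (hp : 3 ≤ p) (hG : IsIrreducibleFor G)
    (hn : ∀ g ∈ G, g • Γ = Γ) {a c : End (ZMod p) M} (ha : Mn Γ a) (hc : Mn Γ c) (h : Co Γ a c)
    (hle : Ug (ZMod p) Γ a ≤ Nm Γ c) : Le c a := by
  obtain ⟨b, hb, b1, b2⟩ := h
  obtain ⟨d, hd, l1, l2, h⟩ := H.partner ha hb (H.op_symm hb ha b1)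
  have hN : Ug (ZMod p) Γ a ≤ Subgroup.normalizer (Eg (ZMod p) Γ c : Set (End (ZMod p) M)ˣ) :=
    fun u hu => by
      rw [← smul_eq_iff_mem_normalizer, smul_Eg _ hu.1]
      exact Eg_congr (hle hu).2.1 (le_symm_of_mn (hc.conj hu.1) hc (hle hu).2.1)
  have := (IsPGroup.to_sup_of_normal_right' (Ug_isPGroup hp a) (Eg_isPGroup hp hc.1.1)
    hN).isNilpotent
  obtain ⟨x, hx, hx1⟩ := exists_ne_one_of_ne_bot (H2.inf_centralizer_ne_bot_of_nilpotent
    (P := Ug (ZMod p) Γ a ⊔ Eg (ZMod p) Γ c) le_sup_right (sup_le hN Subgroup.le_normalizer)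
    hc.Eg_ne_bot)
  obtain ⟨hc', l3, l4⟩ := hc.mem_Eg hx.1 hx1
  have hcm : ∀ u ∈ Ug (ZMod p) Γ a, (u : End (ZMod p) M) * (x - 1) = (x - 1) * u := fun u hu => by
    have := congrArg Units.val (hx.2 u (Subgroup.mem_sup_left hu))
    rw [Units.val_mul, Units.val_mul] at this
    nl this
  generalize hxc : (x : End (ZMod p) M) - 1 = c' at hc' l3 l4 hcm
  have e1 : d * c' * d ≠ 0 := fun e => H.op_le hb hc.1 hc' l4 b2 (l2.mul3 l2 e)
  obtain ⟨m1, m2⟩ := H.mn_sw hd hc'.1 e1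
  obtain ⟨m3, m4⟩ := H.mn_sw ha m1.1 (H.op_le ha hd.1 m1 m2 (by rw [h.sds]; exact ha.2.1))
  have m5 := Le.sandwich a (d * c' * d)
  generalize hs : a * (d * c' * d) * a = s at m3 m4 m5
  obtain ⟨w, hw, -, ew⟩ := m3.neg.exists_mem
  have hwU : w ∈ Ug (ZMod p) Γ a :=
    mem_Ug.2 ⟨Eg_le _ hw, ew ▸ mem_coreJ_of_le ha.1.1 m5.neg⟩
  have cs := hcm w hwU
  have cc := hc'.1.1
  have ss := m3.1.1
  have hr : Rad Γ (c' - s) := H.rad_of ha hd h
    (by nl d * hs * d - h.dsd * c' * d * a * d - d * c' * h.dsd)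
    (fun u hu => by nl hcm u hu - Ug.comm hu m5)
    (fun e he hne => by
      nl H.comm_of_not_co hc' he (fun f => hne (H.co_trans ha hc' he (H.co_trans ha hc hc'
        ⟨b, hb, b1, b2⟩ (H.co_of_le hc hc' l4)) f)) - H.comm_of_not_co m3 he
        (fun f => hne (H.co_trans ha m3 he (H.co_of_le ha m3 m4) f)))
  have ex := eq_add_of_sub_eq' hxc
  have ew' := eq_add_of_sub_eq' ew
  rw [ew'] at cs
  have sc : s * c' = c' * s := by nl -cs
  have hN := H.sq_mem_Nr (g := x * w) (x := c' - s) (y := -(c' * s))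
    (Γ.mul_mem (Eg_le _ hx.1) hwU.1) (by rw [Units.val_mul, ex, ew']; h8ncr)
    (by nl cc - sc + ss) (by nl -cc * s + sc * s + c' * ss) (by nl -c' * sc - cc * s + c' * ss)
    (by nl c' * sc * s + cc * s * s) hr
  have hm : x * w ∈ ⨆ A ∈ Sig Γ, A := mul_mem (le_gen_of_mem (S := Sig Γ) ⟨c, hc, rfl⟩ hx.1)
    (le_gen_of_mem (S := Sig Γ) ⟨_, m3.neg, rfl⟩ hw)
  have ev : ((x * w * (x * w) : (End (ZMod p) M)ˣ) : End (ZMod p) M) - 1 =
      (2 : ZMod p) • (c' - s) - (4 : ZMod p) • (c' * s) := by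
    simp only [Units.val_mul, ex, ew']
    nl cc - sc + ss - cc * s + sc * s + c' * ss - c' * sc - cc * s + c' * ss + c' * sc * s
      + cc * s * s
  have h1 := eq_one_of_central hG hn (mul_mem hm hm) (fun a => H.Nr_comm hG hn hN) (by
    have c1 : Commute s c' := sc
    rw [ev]
    refine Commute.isNilpotent_sub ?_ (IsNilpotent.smul (Commute.isNilpotent_sub c1.symm
      ⟨2, by rw [pow_two, cc]⟩ ⟨2, by rw [pow_two, ss]⟩) _)
      (IsNilpotent.smul ⟨2, by rw [pow_two]; nl c' * sc * s + cc * s * s⟩ _)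
    change _ = _
    nl -(8 : ZMod p) • (c' * sc) - (8 : ZMod p) • (sc * s))
  rw [h1, Units.val_one, sub_self] at ev
  have e2 : c' * s = 0 := smul_right_injective _ H.h2 (by nl -ev * s + (2 : ZMod p) • ss
    + (4 : ZMod p) • (c' * ss))
  have e3 : c' = s := smul_right_injective _ H.h2 (by nl -ev + (4 : ZMod p) • e2)
  exact l4.trans (e3 ▸ m5)

end ModP

end Cfsg.Agent.H3.Fl
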