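import Cfsg.Agent.H3.Fl3

/-! Quadratic elements in a normal `p`-subgroup of a Levi subgroup. -/

set_option autoImplicit false

namespace Cfsg.Agent.H3.Fl

open Cfsg.Agent.H8 Cfsg.Agent.H8.QP Module

theorem le_smul {k E : Type*} [Field k] [Ring E] [Algebra k E] (μ : k) (c : E) : Le (μ • c) c :=
  ⟨fun x hx => by rw [mul_smul_comm, hx, smul_zero], fun x hx => by rw [smul_mul_assoc, hx, smul_zero]⟩

theorem tor_symm {k E : Type*} [Field k] [Ring E] [Algebra k E] {s d : E} (h : Tr s d) (t : kˣ) :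
    tor h.symm t = (tor h t)⁻¹ := by
  ext1
  rw [← map_inv, tor_val, tor_val, hh, hh, inv_inv, add_right_comm]

section Mod

variable {k M : Type*} [Field k] [AddCommGroup M] [Module k M] [FiniteDimensional k M]
  {Γ G : Subgroup (End k M)ˣ}

theorem Std.eigen_partner (H : Std Γ) {c c' ξ : End k M} (hc : Mn Γ c) (hc' : Mn Γ c')
    (h : Tr c c') (hξ : Nil k Γ ξ) (h0 : ξ ≠ 0) (l : Le ξ c) {θ : (End k M)ˣ} (hθ : θ ∈ Nm Γ c')
    {μ : k} (e : (θ : End k M) * ξ * ((θ⁻¹ : (End k M)ˣ) : End k M) = μ • ξ) :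
    ∃ ξ', Mn Γ ξ' ∧ Le ξ' c' ∧ Le c' ξ' ∧ Tr ξ ξ' ∧
      μ • ((θ : End k M) * ξ' * ((θ⁻¹ : (End k M)ˣ) : End k M)) = ξ' := by
  obtain ⟨m1, m2⟩ := hc.of_le hξ h0 l
  obtain ⟨d, hd, l1, l2, h'⟩ := H.partner m1 hc' fun f => hc.2.1 (h.sds ▸ m2.mul3 m2 f)
  refine ⟨d, hd, l1, l2, h', ?_⟩
  have hμ : μ ≠ 0 := by
    rintro rfl
    rw [zero_smul, Units.mul_left_eq_zero, Units.mul_right_eq_zero] at e
    exact h0 e
  have h1 := h'.conj θ
  have h2 := hd.conj hθ.1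
  have h3 := (l1.conj θ).trans hθ.2.1
  rw [e] at h1
  generalize (θ : End k M) * d * ((θ⁻¹ : (End k M)ˣ) : End k M) = η at h1 h2 h3
  have l3 := (le_smul μ η).trans (h3.trans l2)
  exact Tr.unique ⟨h'.ss, by nl (μ * μ) • h1.dd, smul_right_injective _ hμ (by nl h1.sds),
    by nl μ • h1.dsd⟩ h' l3 (hd.of_le (h2.1.smul μ) (smul_ne_zero hμ h2.2.1) l3).2

theorem Std.eq_zero_or (H : Std Γ) {s γ x : End k M} (hs : Mn Γ s) (hx : Nil k Γ x) (l : Le x s)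
    (h1 : γ * x = 0) (h2 : x * γ = 0) : x = 0 ∨ (γ * s = 0 ∧ s * γ = 0) :=
  or_iff_not_imp_left.2 fun h => ⟨(hs.of_le hx h l).2.1 _ h1, (hs.of_le hx h l).2.2 _ h2⟩

theorem Std.comm_of_idem (H : Std Γ) {s d γ α : End k M} (hs : Mn Γ s) (h : Tr s d)
    (hγ : Nil k Γ γ) (e1 : γ * (s * d) = s * d * γ) (e2 : γ * (d * s) = d * s * γ)
    (hα : Nil k Γ α) (l : Le α s) : γ * α = α * γ := by
  have a1 := l.1 (1 - s * d) (by nl -h.sds)
  have a2 := l.2 (1 - d * s) (by nl -h.sds)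
  have gg := hγ.1
  have l1 : Le (γ * α) s := by
    rw [show γ * α = s * (d * γ * α * d) * s by nl γ * a1 + e1 * α + s * d * γ * a2]
    exact Le.sandwich _ _
  have l2 : Le (α * γ) s := by
    rw [show α * γ = s * (d * α * γ * d) * s by nl a1 * γ + s * d * a2 * γ - s * d * α * e2]
    exact Le.sandwich _ _
  have l3 : Le (γ * α * γ) s := by
    rw [show γ * α * γ = s * (d * γ * α * γ * d) * s by
      nl γ * a1 * γ + e1 * α * γ + s * d * γ * a2 * γ - s * d * γ * α * e2]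
    exact Le.sandwich _ _
  have b1 := hα.conj_nil hγ
  have b2 := hα.conj_nil hγ.neg
  rw [show (1 + γ) * α * (1 - γ) = α + (γ * α - α * γ) - γ * α * γ by noncomm_ring] at b1
  rw [show (1 + -γ) * α * (1 - -γ) = α - (γ * α - α * γ) - γ * α * γ by noncomm_ring] at b2
  have l4 := (l.add (l1.sub l2)).sub l3
  have l5 := (l.sub (l1.sub l2)).sub l3
  have b3 := (b1.sub b2 (l4.mul_eq_zero l5 h.ss) (l5.mul_eq_zero l4 h.ss)).smul (2⁻¹ : k)
  have i : (2⁻¹ : k) * 2 = 1 := inv_mul_cancel₀ H.h2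
  have i1 := congrArg (· • (γ * α - α * γ)) i
  rw [show (2⁻¹ : k) • (α + (γ * α - α * γ) - γ * α * γ - (α - (γ * α - α * γ) - γ * α * γ)) =
    γ * α - α * γ by nl i1] at b3
  have b4 := (hα.add b3 (l.mul_eq_zero (l1.sub l2) h.ss) ((l1.sub l2).mul_eq_zero l h.ss)).sub b1
    ((l.add (l1.sub l2)).mul_eq_zero l4 h.ss) (l4.mul_eq_zero (l.add (l1.sub l2)) h.ss)
  rw [sub_sub_cancel] at b4
  have c1 : γ * α * γ = 0 := by
    rcases H.eq_zero_or (γ := γ) hs b4 l3 (by nl gg * α * γ) (by nl γ * α * gg) with f | f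
    · exact f
    · rw [l.1 _ f.1, zero_mul]
  rcases H.eq_zero_or (γ := γ) hs b3 (l1.sub l2) (by nl gg * α - c1) (by nl c1 - α * gg) with f | f
  · exact sub_eq_zero.1 f
  · rw [l.1 _ f.1, l.2 _ f.2]

theorem Std.sw_zero (H : Std Γ) {s d γ a : End k M} (hs : Mn Γ s) (h : Tr s d)
    (hγ : Nil k Γ γ) (e1 : γ * (s * d) = s * d * γ) (e2 : γ * (d * s) = d * s * γ)
    (ha : Nil k Γ a) : s * (γ * a * γ) * s = 0 := by
  have c1 := H.comm_of_idem hs h hγ e1 e2 hs.1 (Le.refl s)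
  have c2 := H.comm_of_idem hs h hγ e1 e2 (H.nil_sw hs ha) (Le.sandwich s a)
  nl -c1 * a * γ * s + γ * s * a * c1 + c2 * γ + s * a * s * hγ.1

theorem Std.step (H : Std Γ) {s d γ a : End k M} (hs : Mn Γ s) (hd : Mn Γ d) (h : Tr s d)
    (hγ : Nil k Γ γ) (e1 : γ * (s * d) = s * d * γ) (e2 : γ * (d * s) = d * s * γ)
    (ha : Nil k Γ a) (hu : Mn Γ (γ * a * γ)) (hne : s * (γ * a * γ) - γ * a * γ * s ≠ 0) :
    ∃ y, Mn Γ (γ * y * γ) ∧ Co Γ s (γ * y * γ) ∧ tor h (two H.h2) ∈ Nm Γ (γ * y * γ) := by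
  have c1 := H.comm_of_idem hs h hγ e1 e2 hs.1 (Le.refl s)
  have c2 := H.comm_of_idem hd h.symm hγ e2 e1 hd.1 (Le.refl d)
  have sus := H.sw_zero hs h hγ e1 e2 ha
  have hc := (hs.cc H.h2 H.c3 hu sus hne).1
  have hco := H.co_comm hs hu sus hne
  have e : s * (γ * a * γ) - γ * a * γ * s = γ * (s * a - a * s) * γ := by
    nl -c1 * a * γ - γ * a * c1
  have gg := hγ.1
  have dcd : d * (s * (γ * a * γ) - γ * a * γ * s) * d = 0 := by
    rcases H.eq_zero_or (γ := γ) hd (H.nil_sw hd hc.1) (Le.sandwich _ _)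
      (by rw [e]; nl c2 * γ * (s * a - a * s) * γ * d + d * gg * (s * a - a * s) * γ * d)
      (by rw [e]; nl -d * γ * (s * a - a * s) * γ * c2 + d * γ * (s * a - a * s) * gg * d)
      with f | f
    · exact f
    · have f1 : γ * s = 0 := by nl -γ * h.sds + e1 * s + s * f.2 * s
      exact absurd (by nl -c1 * a * γ + f1 * a * γ - γ * a * f1) hne
  refine ⟨s * a - a * s, e ▸ hc, e ▸ hco, e ▸ mem_Nm_of_le hc (tor_mem h hs.1 hd.1 _) ?_⟩
  generalize γ * a * γ = u at sus dcd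
  have e3 := two_tor H.h2 h
  have i := (tor h (two H.h2)).mul_inv
  have e4 : (tor h (two H.h2) : End k M) * (s * u - u * s) =
      (2 : k) • ((s * u - u * s) * tor h (two H.h2)) := smul_right_injective _ H.h2 (by
    have ss := h.ss
    nl e3 * (s * u - u * s) - (2 : k) • ((s * u - u * s) * e3) - d * ss * u + d * sus
      - (4 : k) • (sus * d) + (4 : k) • (u * ss * d) + (2 : k) • (s * dcd * s)
      + (2 : k) • (h.sds * u * (1 - d * s)) - (2 : k) • ((1 - s * d) * u * h.sds))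
  rw [e4, smul_mul_assoc, mul_assoc, i, mul_one]
  exact le_smul _ _

end Mod

section ModP

variable {p : ℕ} [Fact p.Prime] {M : Type*} [AddCommGroup M] [Module (ZMod p) M]
  [FiniteDimensional (ZMod p) M] [Finite (End (ZMod p) M)] {Γ G : Subgroup (End (ZMod p) M)ˣ}

theorem Std.lemU (H : Std Γ) (hG : IsIrreducibleFor G) (hn : ∀ g ∈ G, g • Γ = Γ)
    {θ g : (End (ZMod p) M)ˣ} {c γ y₀ : End (ZMod p) M} (hc : Mn Γ c) (hθ : θ ∈ Nm Γ c)
    (hcop : (orderOf θ).Coprime (Nat.card (Ug (ZMod p) Γ c)))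
    (hdiag : ⨆ μ, End.genEigenspace (LinearMap.mulLeftRight (ZMod p)
      ((θ : End (ZMod p) M), ((θ⁻¹ : (End (ZMod p) M)ˣ) : End (ZMod p) M))) μ 1 = ⊤)
    {D : Subgroup (End (ZMod p) M)ˣ} (hDΓ : D ≤ Γ) (hD : Unip (ZMod p) D)
    (hDθ : ∀ x ∈ D, θ * x = x * θ)
    (hN : ∀ x ∈ Γ, θ * x = x * θ → (∀ b, Mn Γ b → ¬ Co Γ c b → (x : End (ZMod p) M) * b = b * x) →
      ∀ u ∈ D, x * u * x⁻¹ ∈ D)
    (hg : g ∈ D) (eg : (g : End (ZMod p) M) = 1 + γ) (gg : γ * γ = 0) (ec : c = γ * y₀ * γ) :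
    False := by
  obtain ⟨c₀, hc₀, h₀⟩ := H.exists_tr hc
  obtain ⟨u₀, hu₀, h, e⟩ := exists_inv_opp H.h2 H.h3 h₀ hc.1 hc₀.1 hθ hcop
  have hc' := hc₀.conj hu₀.1
  generalize (u₀ : End (ZMod p) M) * c₀ * ((u₀⁻¹ : (End (ZMod p) M)ˣ) : End (ZMod p) M) = c'
    at h e hc'
  clear h₀ hc₀ hu₀ c₀ u₀
  have hθ' := (mem_Nm_of_tor H.h2 H.h3 h hθ.1 e).2
  have hτ := tor_mem h hc.1 hc'.1 (two H.h2)
  have gc : γ * c = 0 := by nl γ * ec + gg * y₀ * γ
  have cg : c * γ = 0 := by nl ec * γ + γ * y₀ * gg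
  have hgN : g ∈ Nm Γ c := mem_Nm_of_comm (hDΓ hg) (by rw [eg]; nl gc - cg)
  have hxD : tor h (two H.h2) * g * (tor h (two H.h2))⁻¹ * g⁻¹ ∈ D :=
    D.mul_mem (hN _ hτ e (fun b hb hn => H.tor_comm hc hc' h hb hn _) g hg) (D.inv_mem hg)
  have hxU : tor h (two H.h2) * g * (tor h (two H.h2))⁻¹ * g⁻¹ ∈ Ug (ZMod p) Γ c := ⟨hDΓ hxD, by
    have := (tor_fg h (two H.h2)).mul ((tor_fg h (two H.h2)⁻¹).conj hgN)
    rw [Units.mul_inv, inv_inv, Units.inv_mul, map_inv] at this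
    simpa only [Units.val_mul, mul_assoc] using this⟩
  have hx1 : tor h (two H.h2) * g * (tor h (two H.h2))⁻¹ * g⁻¹ ≠ 1 := fun f => by
    rw [mul_inv_eq_one, mul_inv_eq_iff_eq_mul] at f
    have := (conj_of_tor H.h2 H.h3 h h (x := (g : End (ZMod p) M))
      (congrArg Units.val f.symm)).1
    rw [eg] at this
    exact hc.2.1 (by nl -h.sds + c * c' * ec - this * y₀ * γ + gc * c' * y₀ * γ)
  generalize tor h (two H.h2) * g * (tor h (two H.h2))⁻¹ * g⁻¹ = x at hxD hxU hx1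
  have hy₁ := L1.of_mem h hxU
  have ex := congrArg Units.val (hDθ x hxD)
  rw [Units.val_mul, Units.val_mul] at ex
  have i := θ.mul_inv
  have i' := θ.inv_mul
  have hxJ : ∀ U, (x : End (ZMod p) M) - 1 ∈ aug (ZMod p) (D ⊔ U) := fun U =>
    mem_aug (Subgroup.mem_sup_left hxD)
  have hU : ∀ w ∈ Γ, θ * w = w * θ →
      (∀ b, Mn Γ b → ¬ Co Γ c b → (w : End (ZMod p) M) * b = b * w) →
      IsNilpotent ((w : End (ZMod p) M) - 1) → Unip (ZMod p) (D ⊔ Subgroup.zpowers w) :=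
    fun w h1 h2 h3 h4 => unip_sup hD (unip_zpowers h4) fun v hv =>
      hN v (Subgroup.zpowers_le.2 h1 hv) (by
        obtain ⟨j, rfl⟩ := hv
        exact (Commute.zpow_right h2 j).eq) fun b hb hn => by
        obtain ⟨j, rfl⟩ := hv
        exact (Commute.units_zpow_left (h3 b hb hn) j).eq
  have co' : ∀ ξ b, Mn Γ ξ → Le c' ξ → Mn Γ b → ¬ Co Γ c b → ξ * b = b * ξ :=
    fun ξ b h1 h2 h3 h4 => H.comm_of_not_co h1 h3 fun f => h4 (H.co_trans hc h1 h3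
      (H.co_trans hc hc' h1 (H.co_of_tr hc hc' h) (H.co_of_le hc' h1 h2)) f)
  rw [ne_one_iff] at hx1
  have cn := (mem_Ug.1 hxU).2.1
  have nc := (mem_Ug.1 hxU).2.2.1
  have ex1 := eq_add_of_sub_eq' (rfl : (x : End (ZMod p) M) - 1 = x - 1)
  generalize (x : End (ZMod p) M) - 1 = n at hy₁ hx1 cn nc hxJ ex1
  have θn : (θ : End (ZMod p) M) * n = n * θ := by rw [ex1] at ex; nl ex
  by_cases h1 : n - c * (c' * n * c') * c = 0
  · have l : Le n c := by rw [sub_eq_zero.1 h1]; exact Le.sandwich _ _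
    obtain ⟨δ, hδ, -, l2, h', e'⟩ := H.eigen_partner hc hc' h (nil_of_mem hxU.1 ex1
      (l.mul_eq_zero l h.ss)) hx1 l hθ' (μ := 1) (by nl θn * (θ⁻¹ : (End (ZMod p) M)ˣ) + n * i)
    obtain ⟨w, hw, ew⟩ := hδ.1.exists_unit
    refine not_unip (hxJ (Subgroup.zpowers w)) (ew ▸ mem_aug (Subgroup.mem_sup_right
      (Subgroup.mem_zpowers w))) hx1 h'.sds (hU w hw (Units.ext ?_) (fun b hb hn => ?_)
      ⟨2, by rw [ew, pow_two, h'.dd]⟩)
    · rw [Units.val_mul, Units.val_mul, eq_add_of_sub_eq' ew]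
      nl e' * θ - θ * δ * i'
    · rw [eq_add_of_sub_eq' ew]
      nl co' δ b hδ l2 hb hn
  obtain ⟨μ, y, hy, ey, hne⟩ : ∃ (μ : ZMod p) (y : End (ZMod p) M), L1 (ZMod p) Γ c c' y ∧
      (θ : End (ZMod p) M) * y * ((θ⁻¹ : (End (ZMod p) M)ˣ) : End (ZMod p) M) = μ • y ∧
      n * y - y * n ≠ 0 := by
    by_contra hcon
    push Not at hcon
    refine h1 (H.deg_one hG hn hc hc' h hy₁ fun y hy => ?_)
    have h2 : lie1 Γ h ≤ LinearMap.ker (LinearMap.mulLeft (ZMod p) n -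
        LinearMap.mulRight (ZMod p) n) := by
      rw [Submodule.eq_iSup_inf_genEigenspace (p := lie1 Γ h) 1
        (fun y hy => L1.conj hy hθ hθ') hdiag]
      exact iSup_le fun μ y hy => hcon μ y hy.1 (End.mem_genEigenspace_one.1 hy.2)
    have h3 : n * y - y * n = 0 := h2 hy
    nl h3 - c * c' * n * c' * hy.1.1 + hy.1.2.1 * c' * n * c' * c
  have cy := hy.1.1
  have yc := hy.1.2.1
  have l : Le (n * y - y * n) c := by
    have := (hy₁.mul_le h hy).sub (hy.mul_le h hy₁)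
    rwa [show (n - c * (c' * n * c') * c) * y - y * (n - c * (c' * n * c') * c) = n * y - y * n by
      nl -c * c' * n * c' * cy + yc * c' * n * c' * c] at this
  have hξ : Nil (ZMod p) Γ (n * y - y * n) := by
    obtain ⟨u, hu, lu⟩ := hy.2.2
    refine nil_of_mem (g := x * u * (u * x)⁻¹) (Γ.mul_mem (Γ.mul_mem hxU.1 hu)
      (Γ.inv_mem (Γ.mul_mem hu hxU.1))) ?_ (l.mul_eq_zero l h.ss)
    rw [Units.val_mul, Units.mul_inv_eq_iff_eq_mul, Units.val_mul, Units.val_mul, ex1]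
    have a1 := lu.1 _ nc
    have a2 := lu.2 _ cn
    have a3 := l.mul_eq_zero lu h.ss
    have a4 := l.2 _ cy
    have a5 := l.2 _ cn
    nl a1 - a2 - a3 * (1 + n) - a4 * (1 + n) - a5
  obtain ⟨ξ', hξ', l1, l2, h', e'⟩ := H.eigen_partner hc hc' h hξ hne l hθ' (μ := μ) (by
    nl θn * y * (θ⁻¹ : (End (ZMod p) M)ˣ) + n * ey - ey * n
      + θ * y * (Commute.units_inv_left θn).eq)
  obtain ⟨m1, m2⟩ := hc.of_le hξ hne l
  have nx := l.1 _ nc
  have xn := l.2 _ cn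
  generalize hξe : n * y - y * n = ξ at l hξ hne h' m1 m2 nx xn
  have xy := l.2 _ cy
  have yx := l.1 _ yc
  have z := l1.mul3 l1 hy.2.1
  have dec : y = ξ * ξ' * y + y * (ξ' * ξ) := by
    rw [h'.idem h l l2, h'.symm.idem h.symm l1 m2]; exact hy.dec h
  obtain ⟨v, hv, ev⟩ := hy.exists_exp h hc.1 hc'.1
  obtain ⟨a, ha, ea⟩ := hξ.2 1
  obtain ⟨a', ha', ea'⟩ := hξ'.1.neg.2 1
  rw [one_smul] at ea ea'
  have ia := inv_eq_of_val h'.ss ea
  have ia' := inv_eq_of_val (s := -ξ') (by nl h'.dd) ea'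
  have ew : ((a * a' * a : (End (ZMod p) M)ˣ) : End (ZMod p) M) * y *
      (((a * a' * a)⁻¹ : (End (ZMod p) M)ˣ) : End (ZMod p) M) = y * ξ' - ξ' * y := by
    simp only [mul_inv_rev, Units.val_mul, ea, ea', ia, ia']
    nl (1 + ξ) * (1 - ξ') * (xy * (1 - ξ) - yx) * (1 + ξ') * (1 - ξ) - (1 + ξ) * z * (1 - ξ)
      + xy * (1 + ξ') * (1 - ξ) - yx + (1 + ξ) * ξ' * yx + dec
  have cw : ∀ b, Mn Γ b → ¬ Co Γ c b →
      Commute ((a * a' * a : (End (ZMod p) M)ˣ) : End (ZMod p) M) b := fun b hb hn => by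
    have c1 : Commute (a : End (ZMod p) M) b := by
      change _ = _
      rw [ea]
      nl H.comm_of_not_co m1 hb fun f => hn (H.co_trans hc m1 hb (H.co_of_le hc m1 m2) f)
    have c2 : Commute (a' : End (ZMod p) M) b := by
      change _ = _
      rw [ea']
      nl -co' ξ' b hξ' l2 hb hn
    exact (c1.mul_left c2).mul_left c1
  have hw := Γ.mul_mem (Γ.mul_mem ha ha') ha
  generalize a * a' * a = w at ew cw hw
  have θz : (θ : End (ZMod p) M) * (y * ξ' - ξ' * y) = (y * ξ' - ξ' * y) * θ := by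
    nl ey * θ * ξ' - θ * y * i' * ξ' + y * e' * θ - μ • (y * θ * ξ' * i')
      + θ * ξ' * i' * y - θ * ξ' * (θ⁻¹ : (End (ZMod p) M)ˣ) * ey * θ
      + θ * ξ' * (θ⁻¹ : (End (ZMod p) M)ˣ) * θ * y * i' - e' * y * θ
      - (θ * ξ' * i' * y + θ * ξ' * (θ⁻¹ : (End (ZMod p) M)ˣ) * θ * y * i')
      + (θ * ξ' * i' * y * (θ⁻¹ : (End (ZMod p) M)ˣ) * θ + θ * ξ' * y * i')
  have e1 : y = (y * ξ' - ξ' * y) * ξ - ξ * (y * ξ' - ξ' * y) := by
    nl dec + ξ' * yx + xy * ξ'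
  generalize y * ξ' - ξ' * y = z' at ew θz e1
  have j := w.mul_inv
  have j' := w.inv_mul
  have zz : (w : End (ZMod p) M) * (y * y) * ((w⁻¹ : (End (ZMod p) M)ˣ) : End (ZMod p) M) =
      z' * z' := by
    rw [← ew]
    nl -(w : End (ZMod p) M) * y * j' * y * (w⁻¹ : (End (ZMod p) M)ˣ)
  have zzz : z' * z' * z' = 0 := by
    rw [← zz, ← ew]
    nl (w : End (ZMod p) M) * y * y * j' * y * (w⁻¹ : (End (ZMod p) M)ˣ)
      + (w : End (ZMod p) M) * hy.cube * (w⁻¹ : (End (ZMod p) M)ˣ)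
  have ev' : ((w * v * w⁻¹ : (End (ZMod p) M)ˣ) : End (ZMod p) M) =
      1 + (2 : ZMod p) • z' + (2 : ZMod p) • (z' * z') := by
    rw [Units.val_mul, Units.val_mul, ev]
    nl j + (2 : ZMod p) • ew + (2 : ZMod p) • zz
  have hU' := hU (w * v * w⁻¹) (Γ.mul_mem (Γ.mul_mem hw hv.1) (Γ.inv_mem hw)) (Units.ext (by
      rw [Units.val_mul θ, Units.val_mul _ θ, ev']
      nl (2 : ZMod p) • θz + (2 : ZMod p) • (θz * z' + z' * θz)))
    (fun b hb hn => (((cw b hb hn).mul_left (H.Ug_comm hc hb hn hv)).mul_left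
      (cw b hb hn).units_inv_left).eq) ⟨3, by
      rw [ev', pow_three']
      nl (8 : ZMod p) • (zzz + (3 : ZMod p) • (zzz * z') + (3 : ZMod p) • (zzz * z' * z')
        + zzz * z' * z' * z')⟩
  have h4 : (4 : ZMod p) ≠ 0 := by
    rw [show (4 : ZMod p) = 2 * 2 by norm_num]; exact mul_ne_zero H.h2 H.h2
  have hz : z' ∈ aug (ZMod p) (D ⊔ Subgroup.zpowers (w * v * w⁻¹)) := by
    have hm := Subgroup.mem_sup_right (S := D) (Subgroup.mem_zpowers (w * v * w⁻¹))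
    have := Submodule.sub_mem _ (mem_aug (k := ZMod p) hm) (mem_aug (inv_mem hm))
    rw [exp_inv zzz ev', ev'] at this
    rw [← Submodule.smul_mem_iff _ h4]
    convert this using 1
    module
  exact hne (eq_zero_of_fix hU' (aug_mul_le (Submodule.mul_mem_mul (hxJ _) hz))
    (aug_mul_le (Submodule.mul_mem_mul hz (hxJ _)))
    (by nl -hξe + n * e1 - e1 * n - nx * z' - z' * xn))

theorem Std.L2 (H : Std Γ) (hp : 3 ≤ p) (hG : IsIrreducibleFor G) (hn : ∀ g ∈ G, g • Γ = Γ)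
    {s d γ a : End (ZMod p) M} (hs : Mn Γ s) (hd : Mn Γ d) (h : Tr s d)
    {D : Subgroup (End (ZMod p) M)ˣ} (hDΓ : D ≤ Γ) (hD : Unip (ZMod p) D)
    (hDθ : ∀ x ∈ D, tor h (two H.h2) * x = x * tor h (two H.h2))
    (hN : ∀ x ∈ Γ, tor h (two H.h2) * x = x * tor h (two H.h2) →
      (∀ b, Mn Γ b → ¬ Co Γ s b → (x : End (ZMod p) M) * b = b * x) → ∀ u ∈ D, x * u * x⁻¹ ∈ D)
    {g : (End (ZMod p) M)ˣ} (hg : g ∈ D) (eg : (g : End (ZMod p) M) = 1 + γ) (gg : γ * γ = 0)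
    (ha : Mn Γ a) (hco : Co Γ s a) : a * γ * a = 0 := by
  by_contra hne
  have hγ := nil_of_mem (p := p) (hDΓ hg) eg gg
  obtain ⟨v, -, -, ha', l, e⟩ := ha.exists_partner H.h2 H.c3 hγ hne
  generalize v * a = a' at ha' l e
  have e0 : a' * (γ * a' * γ) * a' ≠ 0 := fun f => ha'.2.1 (by nl f - e - e * γ * a')
  have hu : Mn Γ (γ * a' * γ) := ha'.of_rk (ha'.1.sandwich hγ e) (fun f => e0 (by simp [f]))
    ((rk_mul_le_left _ _).trans (rk_mul_le_right _ _))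
  obtain ⟨e1, e2⟩ := conj_of_tor H.h2 H.h3 h h (x := (g : End (ZMod p) M))
    (congrArg Units.val (hDθ g hg).symm)
  rw [eg] at e1 e2
  replace e1 : γ * (s * d) = s * d * γ := by nl e1
  replace e2 : γ * (d * s) = d * s * γ := by nl e2
  have fin : ∀ y, Mn Γ (γ * y * γ) → Co Γ s (γ * y * γ) → tor h (two H.h2) ∈ Nm Γ (γ * y * γ) →
      False := fun y h1 h2 h3 => H.lemU hG hn h1 h3 (coprime_tor h _ (Ug_isPGroup hp _))
    (tor_diag h _) hDΓ hD hDθ (fun x hx f1 f2 => hN x hx f1 fun b hb f =>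
      f2 b hb fun f' => f (H.co_trans hs h1 hb h2 f')) hg eg gg rfl
  by_cases c1 : s * (γ * a' * γ) - γ * a' * γ * s = 0
  swap
  · obtain ⟨y, h1, h2, h3⟩ := H.step hs hd h hγ e1 e2 ha'.1 hu c1
    exact fin y h1 h2 h3
  by_cases c2 : d * (γ * a' * γ) - γ * a' * γ * d = 0
  swap
  · obtain ⟨y, h1, h2, h3⟩ := H.step hd hs h.symm hγ e2 e1 ha'.1 hu c2
    rw [tor_symm h, inv_mem_iff] at h3
    exact fin y h1 (H.co_trans hs hd h1 (H.co_of_tr hs hd h) h2) h3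
  exact fin a' hu (H.co_trans hs ha' hu (H.co_trans hs ha ha' hco (H.co_of_le ha ha' l))
    (H.co_of_op ha' hu e0)) (mem_Nm_of_comm (tor_mem h hs.1 hd.1 _)
    (Fl.tor_comm h (sub_eq_zero.1 c1) (sub_eq_zero.1 c2) _))

end ModP

end Cfsg.Agent.H3.Fl
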