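import Cfsg.Agent.H3.Fl4
import Cfsg.Agent.H9.Basic

/-! Quadratic elements lying in all invariant Sylow subgroups: the irreducible case. -/

set_option autoImplicit false

namespace Cfsg.Agent.H3.Fl

open Cfsg.Agent.H8 Cfsg.Agent.H8.QP Module

section Grp

variable {X : Type*} [Group X]

/-- `g` lies in all `R`-invariant subgroups of `Γ` of index prime to `p` -/
structure Hyp (p : ℕ) (Γ R : Subgroup X) (g : X) : Prop where
  nm : R ≤ Subgroup.normalizer (Γ : Set X)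
  cop : (Nat.card R).Coprime (Nat.card Γ)
  sol : Group.IsSolvable R
  good : ∀ H ≤ Γ, R ≤ Subgroup.normalizer (H : Set X) → ¬ p ∣ H.relIndex Γ → g ∈ H

variable {p : ℕ} [Fact p.Prime] {Γ R : Subgroup X} {g : X}

theorem Hyp.mem (h : Hyp p Γ R g) : g ∈ Γ :=
  h.good Γ le_rfl h.nm (by rw [Subgroup.relIndex_self]; exact (Fact.out : p.Prime).not_dvd_one)

theorem Hyp.sub [Finite X] (h : Hyp p Γ R g) {L : Subgroup X} (hL : L ≤ Γ)
    (hR : R ≤ Subgroup.normalizer (L : Set X)) (hg : g ∈ L) : Hyp p L R g := by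
  refine ⟨hR, h.cop.coprime_dvd_right (Subgroup.card_dvd_of_le hL), h.sol, fun H hH h1 h2 => ?_⟩
  obtain ⟨S₀, -, a1, a2, a3, a4⟩ := H2.exists_invariant_sylow_ge (p := p) h1
    (h.cop.coprime_dvd_right (Subgroup.card_dvd_of_le (hH.trans hL))) (Or.inl h.sol) bot_le
    IsPGroup.of_bot Subgroup.le_normalizer_of_normal
  obtain ⟨S, b0, b1, b2, b3, b4⟩ := H2.exists_invariant_sylow_ge (p := p) h.nm h.cop
    (Or.inl h.sol) (a1.trans (hH.trans hL)) a2 a4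
  have := H2.eq_of_le_of_not_dvd_relIndex (b2.to_inf_left (K := L)) inf_le_right
    (le_inf b0 (a1.trans hH)) (by
      rw [← Subgroup.relIndex_mul_relIndex S₀ H L a1 hH]
      exact fun e => ((Fact.out : p.Prime).dvd_mul.1 e).elim a3 h2)
  exact a1 (this ▸ (⟨h.good S b1 b4 b3, hg⟩ : g ∈ S ⊓ L))

theorem patch {α β : Type*} [Finite α] (A : Set α) (K : Set β) (hK : K.Nonempty) (P : α → β → Prop)
    (h : ∀ x ∈ K, ∀ a ∈ A, ¬ P a x → ∃ x' ∈ K, P a x' ∧ ∀ b ∈ A, P b x → P b x') :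
    ∃ x ∈ K, ∀ a ∈ A, P a x := by
  obtain ⟨x₀, hx₀⟩ := hK
  obtain ⟨_, -, ⟨x, hx, rfl⟩, hm⟩ := Finite.exists_le_maximal
    (p := fun T : Set α => ∃ x ∈ K, T = {a | a ∈ A ∧ P a x}) (a := _) ⟨x₀, hx₀, rfl⟩
  refine ⟨x, hx, fun a ha => by_contra fun hn => ?_⟩
  obtain ⟨x', hx', h1, h2⟩ := h x hx a ha hn
  exact hn (hm ⟨x', hx', rfl⟩ (fun b hb => ⟨hb.1, h2 b hb.1 hb.2⟩) ⟨ha, h1⟩).2

end Grp

section Ring

variable {E : Type*} [Ring E] {Γ : Subgroup Eˣ}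

/-- conjugation -/
abbrev ad (x : Eˣ) (a : E) : E := x * a * (x⁻¹ : Eˣ)

theorem ad_mul (x y : Eˣ) (a : E) : ad (x * y) a = ad x (ad y a) := by simp [ad, mul_assoc]

theorem ad_of_comm {x : Eˣ} {a : E} (h : x * a = a * x) : ad x a = a := by
  rw [ad, h, mul_assoc, Units.mul_inv, mul_one]

theorem ad_inv (x : Eˣ) (a : E) : ad x⁻¹ (ad x a) = a := by simp [ad, mul_assoc]

theorem ad_inv' (x : Eˣ) (a : E) : ad x (ad x⁻¹ a) = a := by simp [ad, mul_assoc]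

theorem ad_sw {x : Eˣ} {a b : E} : ad x a * ad x b * ad x a = 0 ↔ a * b * a = 0 := by
  rw [show ad x a * ad x b * ad x a = x * (a * b * a) * (x⁻¹ : Eˣ) by simp [ad, mul_assoc],
    Units.mul_left_eq_zero, Units.mul_right_eq_zero]

theorem mem_Nm_ad {x y : Eˣ} (hy : y • Γ = Γ) {a : E} :
    x ∈ Nm Γ (ad y a) ↔ y⁻¹ * x * y ∈ Nm Γ a := by
  have key : ∀ (x y : Eˣ) (a : E), y • Γ = Γ → y⁻¹ * x * y ∈ Nm Γ a → x ∈ Nm Γ (ad y a) :=
    fun x y a hy h => ⟨hy ▸ mem_smul_iff.2 h.1, by simpa [ad, mul_assoc] using h.2.1.conj y,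
      by simpa [ad, mul_assoc] using h.2.2.conj y⟩
  refine ⟨fun h => ?_, key x y a hy⟩
  have := key (y⁻¹ * x * y) y⁻¹ (ad y a) (by rw [inv_smul_eq_iff, hy]) (by simpa [mul_assoc] using h)
  rwa [ad_inv] at this

theorem comm_tor {k : Type*} [Field k] [Algebra k E] {s d : E} (h : Tr s d) {x : Eˣ}
    (h1 : x ∈ Nm Γ s) (h2 : x ∈ Nm Γ d) (t : kˣ) : tor h t * x = x * tor h t := by
  have a1 : Le s (ad x s) := by simpa [ad, mul_assoc] using h1.2.2.conj x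
  have a2 : Le d (ad x d) := by simpa [ad, mul_assoc] using h2.2.2.conj x
  have := conj_tor h x t
  rw [tor_congr (h.conj x) h ((h.conj x).idem h h1.2.1 a2) ((h.conj x).symm.idem h.symm h2.2.1 a1),
    mul_inv_eq_iff_eq_mul] at this
  exact this.symm

end Ring

section Mod

variable {k M : Type*} [Field k] [AddCommGroup M] [Module k M] [FiniteDimensional k M]
  {Γ G : Subgroup (End k M)ˣ}

theorem exists_mn {n : End k M} (hn : Nil k Γ n) (h0 : n ≠ 0) : ∃ a, Mn Γ a := by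
  obtain ⟨a, ha, h⟩ := (measure (rk (k := k) (M := M))).wf.has_min
    {u | Nil k Γ u ∧ u ≠ 0} ⟨n, hn, h0⟩
  exact ⟨a, ha.1, ha.2, fun u h1 h2 => not_lt.1 (h u ⟨h1, h2⟩)⟩

theorem Mn.ad {a : End k M} (ha : Mn Γ a) {x : (End k M)ˣ} (hx : x • Γ = Γ) : Mn Γ (ad x a) :=
  ha.conj' fun _ hy => hx ▸ conj_mem_smul hy x

/-- the subgroup fixing all components -/
def Std.fix (H : Std Γ) : Subgroup (End k M)ˣ where
  carrier := {x | x ∈ Γ ∧ ∀ a, Mn Γ a → Co Γ a (ad x a)}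
  one_mem' := ⟨Γ.one_mem, fun a ha => by simpa [ad] using H.co_refl ha⟩
  mul_mem' := fun {x y} hx hy => ⟨Γ.mul_mem hx.1 hy.1, fun a ha => by
    rw [ad_mul]
    exact H.co_trans ha (ha.conj hy.1) ((ha.conj hy.1).conj hx.1) (hy.2 a ha)
      (hx.2 _ (ha.conj hy.1))⟩
  inv_mem' := fun {x} hx => ⟨Γ.inv_mem hx.1, fun a ha => by
    have := hx.2 _ (ha.conj (Γ.inv_mem hx.1))
    rw [ad_inv'] at this
    exact this.symm⟩

theorem Std.smul_fix (H : Std Γ) (hn : ∀ g ∈ G, g • Γ = Γ) : ∀ g ∈ G, g • H.fix = H.fix :=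
  smul_eq_of_forall_le fun g hg x hx => by
    obtain ⟨y, hy, rfl⟩ := mem_smul_iff'.1 hx
    refine ⟨hn g hg ▸ conj_mem_smul hy.1 g, fun a ha => ?_⟩
    have := (hy.2 _ (Mn.ad ha (hn _ (G.inv_mem hg)))).conj (hn g hg)
    simpa [ad, mul_assoc] using this

omit [FiniteDimensional k M] in
theorem Q0_le : Q0 Γ ≤ Γ := (Subgroup.closure_le _).2 fun _ hg => hg.1.mem

theorem smul_Q0 (hn : ∀ g ∈ G, g • Γ = Γ) : ∀ g ∈ G, g • Q0 Γ = Q0 Γ :=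
  smul_eq_of_forall_le fun g hg => by
    rw [Q0, smul_closure]
    refine Subgroup.closure_mono ?_
    rintro _ ⟨x, hx, rfl⟩
    simp only [Set.mem_ofPred_eq, conj_sub_one]
    refine ⟨hx.1.conj' fun _ hy => hn g hg ▸ conj_mem_smul hy g, fun s hs => ?_⟩
    have := ad_sw (x := g).2 (hx.2 _ (Mn.ad hs (hn _ (G.inv_mem hg))))
    rwa [ad_inv'] at this

theorem Std.Q0_ne (H : Std Γ) {a : End k M} (ha : Mn Γ a) : Q0 Γ ≠ Γ := fun e => by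
  obtain ⟨d, hd, h⟩ := H.exists_tr ha
  obtain ⟨x, hx, ex⟩ := ha.1.exists_unit
  obtain ⟨y, hy, -, ey⟩ := hd.exists_mem
  have := commute_iff.1 (cm_Q0 H.h2 H.c3 H.opp x (e.symm ▸ hx) y
    (le_gen_of_mem (S := Sig Γ) ⟨d, hd, rfl⟩ hy))
  rw [ex, ey] at this
  exact ha.2.1 (by nl -h.sds + this * a + d * h.ss)

theorem Std.op_congr (H : Std Γ) {a b a' b' : End k M} (ha : Mn Γ a) (hb : Mn Γ b) (ha' : Mn Γ a')
    (hb' : Mn Γ b') (l1 : Le a a') (l2 : Le b b') (h : a * b * a ≠ 0) : a' * b' * a' ≠ 0 :=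
  fun e => H.op_le ha hb.1 hb' l2 h (l1.mul3 l1 e)

theorem Std.exists_opp_conj (H : Std Γ) {a a' : End k M} (ha : Mn Γ a) (ha' : Mn Γ a')
    (h : Co Γ a a') : ∃ w ∈ Γ, a * ad w a' * a ≠ 0 ∧ ∀ b, Mn Γ b → ¬ Co Γ a b → ad w b = b := by
  obtain ⟨b, hb, b1, b2⟩ := id h
  obtain ⟨d, hd, l1, l2, h'⟩ := H.partner ha' hb (H.op_symm hb ha' b2)
  obtain ⟨x, hx, ex⟩ := ha'.1.2 1
  obtain ⟨y, hy, ey⟩ := hd.1.neg.2 1
  rw [one_smul] at ex ey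
  have ix := inv_eq_of_val h'.ss ex
  have iy := inv_eq_of_val (s := -d) (by nl h'.dd) ey
  refine ⟨x * y * x, Γ.mul_mem (Γ.mul_mem hx hy) hx, ?_, fun c hc hn => ad_of_comm ?_⟩
  · have : ad (x * y * x) a' = -d := by
      simp only [ad, mul_inv_rev, Units.val_mul, ex, ey, ix, iy]
      have ss := h'.ss
      nl (1 + a') * (1 - d) * (ss * (1 - a') - ss) * (1 + d) * (1 - a') - (1 + a') * h'.dsd * (1 - a')
        + ss * (1 + d) * (1 - a') - h'.sds * (1 - a') + d * ss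
    rw [this]
    exact fun e => H.op_le ha hb.1 hd l2 (H.op_symm hb ha b1) (by nl -e)
  · have c0 : ¬ Co Γ a' c := fun f => hn (H.co_trans ha ha' hc h f)
    have c1 : Commute (x : End k M) c := by
      change _ = _
      rw [ex]
      nl H.comm_of_not_co ha' hc c0
    have c2 : Commute (y : End k M) c := by
      change _ = _
      rw [ey]
      nl -H.comm_of_not_co hd hc fun f => c0 (H.co_trans ha' hd hc (H.co_of_tr ha' hd h') f)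
    exact (c1.mul_left c2).mul_left c1

end Mod

section ModP

variable {p : ℕ} [Fact p.Prime] {M : Type*} [AddCommGroup M] [Module (ZMod p) M]
  [FiniteDimensional (ZMod p) M] [Finite (End (ZMod p) M)] {Γ G : Subgroup (End (ZMod p) M)ˣ}

theorem Std.exists_le_Nm (H : Std Γ) (hp : 3 ≤ p) (hG : IsIrreducibleFor G)
    (hn : ∀ g ∈ G, g • Γ = Γ) (hf : H.fix = Γ) {S : Subgroup (End (ZMod p) M)ˣ}
    (hS : H9.IsSylowIn p S Γ) {a : End (ZMod p) M} (ha : Mn Γ a) :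
    ∃ c, Mn Γ c ∧ S ≤ Nm Γ c ∧ Co Γ a c := by
  have co : ∀ x ∈ Γ, Co Γ a (ad x a) := fun x hx => (hf.ge hx).2 a ha
  obtain ⟨P, hP, h1⟩ := H9.exists_isSylowIn_ge (Ug_isPGroup hp a) (Ug_le_Nm (Γ := Γ))
  have hP' : H9.IsSylowIn p P Γ := H9.isSylowIn_of_maximal hP.2.1 (hP.1.trans Nm_le)
    fun Q hQ h2 h3 => by
      by_contra h4
      obtain ⟨x, hx, hxP⟩ := SetLike.exists_of_lt (H9.lt_inf_normalizer hQ
        (lt_of_le_not_ge h2 h4))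
      have hx' : x ∈ Nm Γ a := mem_Nm_of_le ha (h3 hx.1) (H.le_of_Ug_le hp hG hn ha
        (ha.conj (h3 hx.1)) (co x (h3 hx.1)) fun u hu =>
          (mem_Nm_ad (smul_eq_of_mem (h3 hx.1))).2
            (hP.1 (H9.conj_mem_of_mem_normalizer' hx.2 (h1 hu))))
      exact hxP (hP.eq_of_le (hQ.to_inf_left (K := Nm Γ a)) inf_le_right (le_inf h2 hP.1) ▸
        (⟨hx.1, hx'⟩ : x ∈ Q ⊓ Nm Γ a))
  obtain ⟨x, hx, e⟩ := hP'.exists_cj_eq hS
  exact ⟨_, ha.conj hx, fun u hu => (mem_Nm_ad (smul_eq_of_mem hx)).2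
    (hP.1 (H9.mem_cj.1 (e.symm ▸ hu))), co x hx⟩

theorem Std.le_of_sylow (H : Std Γ) (hp : 3 ≤ p) (hG : IsIrreducibleFor G)
    (hn : ∀ g ∈ G, g • Γ = Γ) {S : Subgroup (End (ZMod p) M)ˣ}
    (hS : H9.IsSylowIn p S Γ) {a c : End (ZMod p) M} (ha : Mn Γ a) (hc : Mn Γ c)
    (h1 : S ≤ Nm Γ a) (h2 : S ≤ Nm Γ c) (h : Co Γ a c) : Le c a :=
  H.le_of_Ug_le hp hG hn ha hc h (((hS.mono h1 Nm_le).le_of_normal (Ug_isPGroup hp a) Ug_le_Nm
    Nm_le_normalizer).trans h2)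

theorem eq_one_of_irr (hp : 3 < p) {R : Subgroup (End (ZMod p) M)ˣ} {g : (End (ZMod p) M)ˣ}
    (hG : IsIrreducibleFor (Γ ⊔ R)) (h : Hyp p Γ R g)
    (gg : ((g : End (ZMod p) M) - 1) * ((g : End (ZMod p) M) - 1) = 0)
    (ih : ∀ L < Γ, Hyp p L R g →
      ∃ D ≤ L, IsPGroup p D ∧ g ∈ D ∧ L ≤ Subgroup.normalizer (D : Set (End (ZMod p) M)ˣ)) :
    g = 1 := by
  have hR : ∀ r ∈ R, r • Γ = Γ := fun r hr => smul_eq_iff_mem_normalizer.2 (h.nm hr)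
  have hn : ∀ x ∈ Γ ⊔ R, x • Γ = Γ := smul_eq_of_sup (fun _ => smul_eq_of_mem) hR
  have ih' : ∀ L ≤ Γ, L ≠ Γ → (∀ x ∈ Γ ⊔ R, x • L = L) → g ∈ L → g = 1 := fun L h1 h2 h3 h4 => by
    obtain ⟨D, d1, d2, d3, d4⟩ := ih L (lt_of_le_of_ne h1 h2) (h.sub h1
      (fun r hr => smul_eq_iff_mem_normalizer.1 (h3 r (Subgroup.mem_sup_right hr))) h4)
    rwa [eq_bot_of_unip' hG h3 d1 (fun x hx => smul_eq_iff_mem_normalizer.2 (d4 hx))
      (unip_of_isPGroup d2)] at d3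
  by_contra hg1
  have eg := eq_add_of_sub_eq' (rfl : (g : End (ZMod p) M) - 1 = g - 1)
  have hγ := nil_of_mem (p := p) h.mem eg gg
  obtain ⟨a₀, ha₀⟩ := exists_mn hγ (ne_one_iff.1 hg1)
  have h2 : (2 : ZMod p) ≠ 0 := fun e => by
    have := Nat.le_of_dvd two_pos ((ZMod.natCast_eq_zero_iff 2 p).1 (by exact_mod_cast e))
    omega
  have h3 : (3 : ZMod p) ≠ 0 := fun e => by
    have := Nat.le_of_dvd three_pos ((ZMod.natCast_eq_zero_iff 3 p).1 (by exact_mod_cast e))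
    omega
  have c3 : Nat.card (ZMod p) ≠ 3 := by rw [Nat.card_zmod]; omega
  have H : Std Γ := ⟨h2, h3, c3, fun s hs => hs.exists_opp h2 c3 hG hn⟩
  have hf : H.fix = Γ := by
    by_contra e
    refine hg1 (ih' H.fix (fun _ hx => hx.1) e (H.smul_fix hn) ⟨h.mem, fun a ha => ?_⟩)
    have := H.co_conj_nil ha hγ
    rwa [← eg, ← inv_val gg] at this
  have co : ∀ x ∈ Γ, ∀ a, Mn Γ a → Co Γ a (ad x a) := fun x hx => (hf.ge hx).2
  obtain ⟨S, -, s1, s2, s3, s4⟩ := H2.exists_invariant_sylow_ge (p := p) h.nm h.cop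
    (Or.inl h.sol) bot_le IsPGroup.of_bot Subgroup.le_normalizer_of_normal
  have hS : H9.IsSylowIn p S Γ := ⟨s1, s2, s3⟩
  let A : Set (End (ZMod p) M) := {a | Mn Γ a ∧ S ≤ Nm Γ a}
  have uA : ∀ a ∈ A, ∀ b ∈ A, Co Γ a b → Le a b ∧ Le b a := fun a ha b hb e =>
    ⟨H.le_of_sylow hp.le hG hn hS hb.1 ha.1 hb.2 ha.2 e.symm,
      H.le_of_sylow hp.le hG hn hS ha.1 hb.1 ha.2 hb.2 e⟩
  have rA : ∀ r ∈ R, ∀ a ∈ A, ad r a ∈ A := fun r hr a ha => ⟨Mn.ad ha.1 (hR r hr),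
    fun y hy => (mem_Nm_ad (hR r hr)).2 (ha.2 (H9.conj_mem_of_mem_normalizer' (s4 hr) hy))⟩
  let N : Subgroup (End (ZMod p) M)ˣ := Γ ⊓ ⨅ a ∈ A, Nm Γ a
  have hN : ∀ {x}, x ∈ N ↔ x ∈ Γ ∧ ∀ a ∈ A, x ∈ Nm Γ a := by
    simp only [N, Subgroup.mem_inf, Subgroup.mem_iInf, implies_true]
  have hRN : R ≤ Subgroup.normalizer (N : Set (End (ZMod p) M)ˣ) :=
    H2.le_normalizer_of_conj_mem fun r hr x hx => hN.2 ⟨hR r hr ▸ conj_mem_smul (hN.1 hx).1 r,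
      fun a ha => by
        simpa using (mem_Nm_ad (hR _ (R.inv_mem hr))).1 ((hN.1 hx).2 _ (rA _ (R.inv_mem hr) a ha))⟩
  have hNi : ¬ p ∣ N.relIndex Γ := fun e => s3 (e.trans (Subgroup.relIndex_dvd_of_le_left Γ
    fun x hx => hN.2 ⟨s1 hx, fun a ha => ha.2 hx⟩))
  obtain ⟨g₀, hg₀, o₀⟩ := patch A Γ ⟨1, Γ.one_mem⟩ (fun a x => a * ad x a * a ≠ 0)
    fun x hx a ha hne => by
      obtain ⟨w, hw, w1, w2⟩ := H.exists_opp_conj ha.1 (ha.1.conj hx) (co x hx a ha.1)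
      refine ⟨w * x, Γ.mul_mem hw hx, by rwa [ad_mul], fun b hb e => ?_⟩
      rwa [ad_mul, w2 _ (hb.1.conj hx) fun f => hne ?_]
      have l := (uA a ha b hb (H.co_trans ha.1 (hb.1.conj hx) hb.1 f (co x hx b hb.1).symm)).2
      exact H.op_congr hb.1 (hb.1.conj hx) ha.1 (ha.1.conj hx) l (l.conj x) e
  have oN : ∀ n ∈ N, ∀ a ∈ A, a * ad (n * g₀) a * a ≠ 0 := fun n hn a ha => by
    have h1 := ((hN.1 hn).2 a ha)
    refine H.op_congr (ha.1.conj h1.1) (ha.1.conj (Γ.mul_mem h1.1 hg₀)) ha.1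
      (ha.1.conj (Γ.mul_mem h1.1 hg₀)) h1.2.1 (Le.refl _) ?_
    change ad n a * ad (n * g₀) a * ad n a ≠ 0
    rw [ad_mul, Ne, ad_sw]
    exact o₀ a ha
  obtain ⟨n, hnN, hfix⟩ := H2.exists_fixed_in_orbit hRN
    (h.cop.coprime_dvd_right (Subgroup.card_dvd_of_le inf_le_left)) (Or.inl h.sol) (g₀ • N)
    fun r hr => by
      have hg₁ : r * g₀ * r⁻¹ ∈ Γ := hR r hr ▸ conj_mem_smul hg₀ r
      have o₁ : ∀ a ∈ A, a * ad (r * g₀ * r⁻¹) a * a ≠ 0 := fun a ha => by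
        have := (ad_sw (x := r)).not.2 (o₀ _ (rA _ (R.inv_mem hr) a ha))
        rwa [ad_inv', ← ad_mul, ← ad_mul] at this
      obtain ⟨n, hn, e⟩ := patch A N ⟨1, N.one_mem⟩
        (fun a n => Le (ad (n * g₀) a) (ad (r * g₀ * r⁻¹) a)) fun n hn a ha _ => by
          have m0 := fun b (hb : b ∈ A) => hb.1.conj (Γ.mul_mem hn.1 hg₀)
          obtain ⟨d₀, hd₀, -, l0, t0⟩ := H.partner ha.1 (m0 a ha) (oN n hn a ha)
          obtain ⟨d₁, hd₁, l1, -, t1⟩ := H.partner ha.1 (ha.1.conj hg₁) (o₁ a ha)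
          obtain ⟨u, hu, e⟩ := exists_conj_opp H.h2 H.h3 t0 t1 ha.1.1 hd₀.1 hd₁.1
          have k1 : Le (ad (u * n * g₀) a) (ad (r * g₀ * r⁻¹) a) := by
            rw [mul_assoc u, ad_mul u]
            exact (l0.conj u).trans (e ▸ l1)
          refine ⟨u * n, N.mul_mem (hN.2 ⟨hu.1, fun b hb => ?_⟩) hn, k1, fun b hb f => ?_⟩
          · by_cases c : Co Γ a b
            · exact Nm_congr (uA a ha b hb c).1 (uA a ha b hb c).2 ▸ Ug_le_Nm hu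
            · exact mem_Nm_of_comm hu.1 (H.Ug_comm ha.1 hb.1 c hu)
          · by_cases c : Co Γ a b
            · exact ((uA a ha b hb c).2.conj _).trans (k1.trans ((uA a ha b hb c).1.conj _))
            · rwa [mul_assoc u, ad_mul u, ad_of_comm (H.Ug_comm ha.1 (m0 b hb) (fun f => c
                (H.co_trans ha.1 (m0 b hb) hb.1 f (co _ (Γ.mul_mem hn.1 hg₀) b hb.1).symm)) hu)]
      refine ⟨n, hn, ?_⟩
      have e1 : (r * g₀ * r⁻¹)⁻¹ * (n * g₀) ∈ N := by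
        have hm := Γ.mul_mem (Γ.inv_mem hg₁) (Γ.mul_mem hn.1 hg₀)
        refine hN.2 ⟨hm, fun a ha => mem_Nm_of_le ha.1 hm ?_⟩
        have := (e a ha).conj (r * g₀ * r⁻¹)⁻¹
        change Le (ad _ _) (ad _ _) at this
        rwa [ad_inv, ← ad_mul] at this
      calc r • g₀ • N = (r * g₀ * r⁻¹) • r • N := by rw [smul_smul, smul_smul]; simp
        _ = (r * g₀ * r⁻¹) • ((r * g₀ * r⁻¹)⁻¹ * (n * g₀)) • N := by
          rw [smul_eq_iff_mem_normalizer.2 (hRN hr), smul_eq_of_mem e1]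
        _ = n • g₀ • N := by rw [smul_smul, smul_smul, mul_inv_cancel_left]
  rw [smul_smul] at hfix
  have o₂ := oN n hnN
  have hg₂ := Γ.mul_mem hnN.1 hg₀
  generalize n * g₀ = g₂ at hfix o₂ hg₂
  have hQ : ∀ {x}, x ∈ g₂ • N ↔ x ∈ Γ ∧ ∀ a ∈ A, x ∈ Nm Γ (ad g₂ a) := by
    intro x
    simp only [mem_smul_iff, hN, mem_Nm_ad (smul_eq_of_mem hg₂)]
    rw [← mem_smul_iff, smul_eq_of_mem hg₂]
  have hRQ : R ≤ Subgroup.normalizer ((g₂ • N : Subgroup (End (ZMod p) M)ˣ) : Set (End (ZMod p) M)ˣ) :=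
    fun r hr => smul_eq_iff_mem_normalizer.1 (hfix r hr)
  have par : ∀ s ∈ A, ∃ d, Mn Γ d ∧ Tr s d ∧ Le d (ad g₂ s) ∧ Le (ad g₂ s) d := fun s hs => by
    obtain ⟨d, hd, l1, l2, t⟩ := H.partner hs.1 (hs.1.conj hg₂) (o₂ s hs)
    exact ⟨d, hd, t, l1, l2⟩
  obtain ⟨D, d1, d2, d3, d4⟩ := ih (N ⊓ g₂ • N) (lt_of_le_of_ne (inf_le_left.trans inf_le_left)
    fun e => by
      obtain ⟨s, hs, s5, -⟩ := H.exists_le_Nm hp.le hG hn hf hS ha₀
      obtain ⟨d, hd, t, l1, l2⟩ := par s ⟨hs, s5⟩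
      obtain ⟨x, hx, ex⟩ := hs.1.exists_unit
      have := (hQ.1 (e.ge hx).2).2 s ⟨hs, s5⟩
      rw [← Nm_congr l1 l2] at this
      have := Nm.l1 this (y := 1 - d * s) (by nl -t.dsd)
      rw [eq_add_of_sub_eq ex] at this
      exact hs.2.1 (by nl this * s + d * t.ss * d * s - t.sds + t.dsd * s))
    (h.sub (inf_le_left.trans inf_le_left) (H2.le_normalizer_inf hRN hRQ)
      ⟨h.good N inf_le_left hRN hNi, h.good _ (fun x hx => (hQ.1 hx).1) hRQ (by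
        have := H9.relIndex_cj g₂ N Γ
        rw [H9.cj_eq_of_mem hg₂] at this
        exact this ▸ hNi)⟩)
  refine hg1 (ih' (Q0 Γ) Q0_le (H.Q0_ne ha₀) (smul_Q0 hn)
    (Subgroup.subset_closure ⟨hγ, fun a ha => ?_⟩))
  obtain ⟨s, hs, s5, hco⟩ := H.exists_le_Nm hp.le hG hn hf hS ha
  obtain ⟨d, hd, t, l1, l2⟩ := par s ⟨hs, s5⟩
  refine H.L2 hp.le hG hn hs hd t (d1.trans (inf_le_left.trans inf_le_left)) (unip_of_isPGroup d2)
    (fun x hx => comm_tor t ((hN.1 (d1 hx).1).2 s ⟨hs, s5⟩)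
      (Nm_congr l1 l2 ▸ (hQ.1 (d1 hx).2).2 s ⟨hs, s5⟩) _)
    (fun x hx e1 e2 u hu => H2.conj_mem_of_le_normalizer d4 ?_ hu) d3 eg gg ha hco.symm
  obtain ⟨n1, n2⟩ := mem_Nm_of_tor H.h2 H.h3 t hx e1.symm
  refine ⟨hN.2 ⟨hx, fun b hb => ?_⟩, hQ.2 ⟨hx, fun b hb => ?_⟩⟩
  · by_cases c : Co Γ s b
    · exact Nm_congr (uA s ⟨hs, s5⟩ b hb c).1 (uA s ⟨hs, s5⟩ b hb c).2 ▸ n1
    · exact mem_Nm_of_comm hx (e2 b hb.1 c)
  · by_cases c : Co Γ s b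
    · exact Nm_congr (l1.trans ((uA s ⟨hs, s5⟩ b hb c).1.conj g₂))
        (((uA s ⟨hs, s5⟩ b hb c).2.conj g₂).trans l2) ▸ n2
    · exact mem_Nm_of_comm hx (e2 _ (hb.1.conj hg₂) fun f => c
        (H.co_trans hs (hb.1.conj hg₂) hb.1 f (co _ hg₂ b hb.1).symm))

end ModP

end Cfsg.Agent.H3.Fl
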