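import Cfsg.Agent.H3.Fl5

/-! A quadratic element lying in all invariant Sylow `p`-subgroups acts like an element
of `O_p` (`p > 3`). -/

set_option autoImplicit false

universe u

namespace Cfsg.Agent.H3.Fl

open Cfsg.Agent.H8 Cfsg.Agent.H8.QP Module

section Grp

variable {X : Type*} [Group X] {p : ℕ} [Fact p.Prime] {Γ R : Subgroup X} {g : X}

theorem Hyp.map [Finite X] {X' : Type*} [Group X'] (h : Hyp p Γ R g) (φ : X →* X') :
    Hyp p (Γ.map φ) (R.map φ) (φ g) := by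
  have := h.sol
  refine ⟨(Subgroup.map_mono h.nm).trans (Subgroup.le_normalizer_map φ),
    (h.cop.coprime_dvd_left (Subgroup.card_map_dvd _ φ)).coprime_dvd_right
      (Subgroup.card_map_dvd _ φ), Group.isSolvable_of_surjective (φ.subgroupMap_surjective R),
    fun H hH h1 h2 => (h.good (H.comap φ ⊓ Γ) inf_le_right (H2.le_normalizer_inf ?_ h.nm) ?_).1⟩
  · exact (Subgroup.map_le_iff_le_comap.1 h1).trans (Subgroup.le_normalizer_comap φ)
  · rwa [Subgroup.inf_relIndex_right, Subgroup.relIndex_comap]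

theorem Hyp.subgroupOf (h : Hyp p Γ R g) {Y : Subgroup X} (h1 : Γ ≤ Y) (h2 : R ≤ Y) :
    Hyp p (Γ.subgroupOf Y) (R.subgroupOf Y) ⟨g, h1 h.mem⟩ := by
  have := h.sol
  refine ⟨(Subgroup.comap_mono h.nm).trans (Subgroup.le_normalizer_comap _), ?_,
    Group.isSolvable_of_surjective (f := (Subgroup.subgroupOfEquivOfLe h2).symm.toMonoidHom)
      (MulEquiv.surjective _), fun H hH h3 h4 => ?_⟩
  · rw [Nat.card_congr (Subgroup.subgroupOfEquivOfLe h1).toEquiv,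
      Nat.card_congr (Subgroup.subgroupOfEquivOfLe h2).toEquiv]
    exact h.cop
  · obtain ⟨x, hx, e⟩ := h.good (H.map Y.subtype) (Subgroup.map_le_iff_le_comap.2 hH) (by
      rw [← Subgroup.map_subgroupOf_eq_of_le h2]
      exact (Subgroup.map_mono h3).trans (Subgroup.le_normalizer_map _)) (by
      rwa [← Subgroup.map_subgroupOf_eq_of_le h1,
        Subgroup.relIndex_map_map_of_injective _ _ Y.subtype_injective])
    exact (Subtype.ext e : x = ⟨g, h1 h.mem⟩) ▸ hx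

end Grp

variable {p : ℕ} [Fact p.Prime]

variable (p) in
/-- the statement for one module -/
def TBst (M : Type u) [AddCommGroup M] [Module (ZMod p) M] : Prop :=
  ∀ (Γ R : Subgroup (End (ZMod p) M)ˣ) (g : (End (ZMod p) M)ˣ), Hyp p Γ R g →
    ((g : End (ZMod p) M) - 1) * ((g : End (ZMod p) M) - 1) = 0 →
    ∃ D ≤ Γ, IsPGroup p D ∧ g ∈ D ∧ Γ ≤ Subgroup.normalizer (D : Set (End (ZMod p) M)ˣ)

theorem TBst.rep {M : Type u} [AddCommGroup M] [Module (ZMod p) M] (hM : TBst p M)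
    {Y : Type*} [Group Y] [Finite Y] (ρ : Y →* End (ZMod p) M) {Γ R : Subgroup Y} {g : Y}
    (h : Hyp p Γ R g) (gg : (ρ g - 1) * (ρ g - 1) = 0) :
    ∃ D ≤ Γ, (∀ x ∈ D, ∃ n, ρ (x ^ p ^ n) = 1) ∧ g ∈ D ∧ Γ ≤ Subgroup.normalizer (D : Set Y) := by
  obtain ⟨D, -, d2, d3, d4⟩ := hM _ _ _ (h.map ρ.toHomUnits) gg
  refine ⟨D.comap ρ.toHomUnits ⊓ Γ, inf_le_right, fun x hx => ?_, ⟨d3, h.mem⟩,
    H2.le_normalizer_inf ((Subgroup.map_le_iff_le_comap.1 d4).trans
      (Subgroup.le_normalizer_comap _)) Subgroup.le_normalizer⟩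
  obtain ⟨n, hn⟩ := d2 ⟨_, hx.1⟩
  exact ⟨n, by simpa using congrArg (fun y : D => ((y : (End (ZMod p) M)ˣ) : End (ZMod p) M)) hn⟩

theorem tbst (hp : 3 < p) (n : ℕ) : ∀ (M : Type u) [AddCommGroup M] [Module (ZMod p) M] [Finite M],
    finrank (ZMod p) M = n → TBst p M := by
  induction n using Nat.strong_induction_on with
  | _ n ihn =>
  intro M _ _ _ hn Γ R g
  have : FiniteDimensional (ZMod p) M := Module.Finite.of_finite
  have : Finite (End (ZMod p) M) := DFunLike.finite _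
  induction Γ using WellFoundedLT.induction with
  | ind Γ ih =>
  intro h gg
  by_cases hG : IsIrreducibleFor (Γ ⊔ R)
  · exact ⟨⊥, bot_le, IsPGroup.of_bot, eq_one_of_irr hp hG h gg fun L hL h' => ih L hL h' gg,
      Subgroup.le_normalizer_of_normal⟩
  rcases subsingleton_or_nontrivial M with hM | hM
  · exact ⟨⊥, bot_le, IsPGroup.of_bot, Units.ext (Subsingleton.elim _ _),
      Subgroup.le_normalizer_of_normal⟩
  obtain ⟨W, hW, w1, w2⟩ : ∃ W : Submodule (ZMod p) M,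
      (∀ x ∈ Γ ⊔ R, ∀ w ∈ W, (x : End (ZMod p) M) w ∈ W) ∧ W ≠ ⊥ ∧ W ≠ ⊤ := by
    by_contra hcon
    refine hG ⟨exists_ne 0, fun W hW => by_contra fun e => hcon ⟨W, hW, not_or.1 e⟩⟩
  let ρ : Representation (ZMod p) (Γ ⊔ R : Subgroup (End (ZMod p) M)ˣ) M :=
    (Units.coeHom _).comp (Subgroup.subtype _)
  have hW' : ∀ x, W ≤ W.comap (ρ x) := fun x w hw => hW x x.2 w hw
  have h' := h.subgroupOf (Y := Γ ⊔ R) le_sup_left le_sup_right
  obtain ⟨D₁, a1, a2, a3, a4⟩ := (ihn _ (hn ▸ Submodule.finrank_lt w2) W rfl).rep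
    (ρ.subrepresentation W hW') h' (LinearMap.ext fun w => Subtype.ext (congrArg (· w.1) gg))
  have : Finite (M ⧸ W) := Finite.of_surjective _ W.mkQ_surjective
  obtain ⟨D₂, -, b2, b3, b4⟩ := (ihn _ (by
      have := W.finrank_quotient_add_finrank
      have := Submodule.finrank_eq_zero.not.2 w1
      omega) (M ⧸ W) rfl).rep
    (ρ.quotient W hW') h' (LinearMap.ext fun w => by
      obtain ⟨w, rfl⟩ := W.mkQ_surjective w
      exact congrArg (fun f : End (ZMod p) M => W.mkQ (f w)) gg)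
  refine ⟨(D₁ ⊓ D₂).map (Subgroup.subtype _), Subgroup.map_le_iff_le_comap.2 (inf_le_left.trans a1),
    IsPGroup.map (fun x => ?_) _, ⟨_, ⟨a3, b3⟩, rfl⟩, ?_⟩
  · obtain ⟨n₁, e1⟩ := a2 x x.2.1
    obtain ⟨n₂, e2⟩ := b2 x x.2.2
    replace e1 : ρ.subrepresentation W hW' (x.1 ^ p ^ (n₁ + n₂)) = 1 := by
      rw [pow_add, pow_mul, map_pow, e1, one_pow]
    replace e2 : ρ.quotient W hW' (x.1 ^ p ^ (n₁ + n₂)) = 1 := by
      rw [add_comm, pow_add, pow_mul, map_pow, e2, one_pow]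
    refine ⟨n₁ + n₂ + 1, Subtype.ext (Subtype.ext ?_)⟩
    rw [pow_succ, pow_mul]
    change (x.1 ^ p ^ (n₁ + n₂)).1 ^ p = 1
    generalize x.1 ^ p ^ (n₁ + n₂) = y at e1 e2
    refine pow_eq_one_of_cube hp.le ?_
    rw [show ((y.1 : End (ZMod p) M) - 1) * ((y.1 : End (ZMod p) M) - 1) = 0 from
      LinearMap.ext fun m => ?_, zero_mul]
    have f2 : (y.1 : End (ZMod p) M) m - m ∈ W :=
      (Submodule.Quotient.eq W).1 (congrArg (· (W.mkQ m)) e2)
    exact sub_eq_zero.2 (congrArg (fun f : End (ZMod p) W => (f ⟨_, f2⟩).1) e1)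
  · exact (Subgroup.map_subgroupOf_eq_of_le (le_sup_left : Γ ≤ Γ ⊔ R)).ge.trans
      ((Subgroup.map_mono (H2.le_normalizer_inf a4 b4)).trans (Subgroup.le_normalizer_map _))

/-- **Quadratic elements of `O_p(Γ; R)`.** -/
theorem quadratic_rep (hp : 3 < p) {M : Type u} [AddCommGroup M] [Module (ZMod p) M] [Finite M]
    {Y : Type*} [Group Y] [Finite Y] (ρ : Y →* End (ZMod p) M) {Γ R : Subgroup Y} {g : Y}
    (h : Hyp p Γ R g) (gg : (ρ g - 1) * (ρ g - 1) = 0) :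
    ∃ D ≤ Γ, (∀ x ∈ D, ∃ n, ρ (x ^ p ^ n) = 1) ∧ g ∈ D ∧ Γ ≤ Subgroup.normalizer (D : Set Y) :=
  (tbst hp _ M rfl).rep ρ h gg

end Cfsg.Agent.H3.Fl
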