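import Cfsg.Agent.H3.Fl6
import Cfsg.Agent.S1982
import Cfsg.Agent.H2.Omega
import Cfsg.Agent.H9.WC
import Cfsg.Agent.H9.Section

/-! Flavell's equivariant analogue of the `ZJ`-theorem. -/

set_option autoImplicit false

universe u

namespace Cfsg.Agent.H3.Fl

open Cfsg Cfsg.Agent.H9 Subgroup
open scoped commutatorElement

theorem exists_quad {G : Type u} [Group G] [Finite G] {p : ℕ} [Fact p.Prime] {S T A : Subgroup G}
    [T.Normal] (hTp : IsPGroup p T) (hTS : T ≤ S) [A.Normal] (hAT : A ≤ T) (hA3 : ⁅T, A⁆ ≤ zc A)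
    (hΦ : ∀ x ∈ S, x ∈ chiefStab ⊥ (zc A) → x ∈ chiefStab (zc A) A → x ∈ T)
    (hK : ¬ (inducedFunctor kInfLower S).Normal ∨ ¬ (inducedFunctor kInfUpper S).Normal) :
    ∃ g ∈ S, ∃ U V : Subgroup G, IsChiefFactor U V ∧ U ≤ A ∧
        ⁅⁅U, zpowers g⁆, zpowers g⁆ ≤ V ∧ ¬ ⁅U, zpowers g⁆ ≤ V := by
  have hAp : IsPGroup p A := hTp.to_le hAT
  have hTA : ⁅A, T⁆ ≤ zc A := by rwa [commutator_comm]
  have hA2 : A ∈ classTwoSubgroups G := (commutator_mono hAT le_rfl).trans (hA3.trans inf_le_right)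
  have good : ∀ g ∈ S, g ∉ T → ⁅⁅A, zpowers g⁆, zpowers g⁆ ≤ zc A →
      ⁅⁅zc A, zpowers g⁆, zpowers g⁆ = ⊥ →
      ∃ g ∈ S, ∃ U V : Subgroup G, IsChiefFactor U V ∧ U ≤ A ∧
        ⁅⁅U, zpowers g⁆, zpowers g⁆ ≤ V ∧ ¬ ⁅U, zpowers g⁆ ≤ V := by
    intro g hgS hgT h1 h2
    refine ⟨g, hgS, ?_⟩
    by_contra hcon
    refine hgT (hΦ g hgS ?_ ?_)
    · refine zpowers_le.1 (le_chiefStab_iff.2 fun U V hc _ hU => ?_)
      by_contra h
      exact hcon ⟨U, V, hc, hU.trans inf_le_left,
        (commutator_mono (commutator_mono hU le_rfl) le_rfl).trans (h2.le.trans bot_le), h⟩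
    · refine zpowers_le.1 (le_chiefStab_iff.2 fun U V hc hV hU => ?_)
      by_contra h
      exact hcon ⟨U, V, hc, hU,
        (commutator_mono (commutator_mono hU le_rfl) le_rfl).trans (h1.trans hV), h⟩
  have good' : ∀ g ∈ S, g ∉ T → ⁅⁅A, zpowers g⁆, zpowers g⁆ = ⊥ → _ := fun g h1 h2 h3 =>
    good g h1 h2 (h3.le.trans bot_le) (le_bot_iff.1 ((commutator_mono
      (commutator_mono inf_le_left le_rfl) le_rfl).trans h3.le))
  by_cases hA : A ∈ kLowerStarFamily S
  swap
  · have : ∃ A₁ ∈ classTwoSubgroups G, A₁ ≤ S ∧ A ≤ normalizer (A₁ : Set G) ∧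
        ⁅A, ⁅A₁, A₁⁆⁆ = ⊥ ∧ ⁅⁅zc A, A₁⁆, A₁⁆ = ⊥ ∧ ¬ ⁅A, A₁⁆ ≤ zc A := by
      by_contra h
      refine hA ⟨hA2, le_normalizer_of_normal, fun A₁ h1 h2 h3 h4 h5 => ?_⟩
      by_contra h6
      exact h ⟨A₁, h1, h2, h3, h4, h5, h6⟩
    obtain ⟨A₁, -, h2, h3, h4, h5, h6⟩ := this
    obtain ⟨g, hg, hgT⟩ := SetLike.not_le_iff_exists.1
      fun h : A₁ ≤ T => h6 ((commutator_mono le_rfl h).trans hTA)
    have hz := zpowers_le.2 hg
    refine good g (h2 hg) hgT (le_inf ?_ ?_)
      (le_bot_iff.1 ((commutator_mono (commutator_mono le_rfl hz) hz).trans h5.le))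
    · exact (commutator_mono (commutator_le_left _ _) le_rfl).trans (commutator_le_left _ _)
    · rw [commutator_comm, commutator_eq_bot_iff_le_centralizer] at h4
      exact (commutator_mono ((commutator_mono le_rfl hz).trans
        (le_normalizer_iff_commutator_le_right.1 h3)) hz).trans h4
  obtain ⟨B, hBS, hBT, hB | hB⟩ := S1982.exists_family hTS (hAT.trans hTS) hA hTA hK
  · obtain ⟨g, hg, hgT⟩ := SetLike.not_le_iff_exists.1 hBT
    have hz := zpowers_le.2 hg
    refine good' g (hBS hg) hgT (le_bot_iff.1 ?_)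
    have h1 := hB.2
    rw [commutator_comm] at h1
    refine (commutator_mono ((commutator_mono le_rfl hz).trans (h1.trans inf_le_right)) hz).trans ?_
    exact (commutator_eq_bot_iff_le_centralizer.2 le_rfl).le
  obtain ⟨hB2, hAB, hB⟩ := hB
  have hAB' : ⁅A, B⁆ ≤ B := le_normalizer_iff_commutator_le_right.1 hAB
  by_cases hZB : zc B ≤ T
  swap
  · obtain ⟨g, hg, hgT⟩ := SetLike.not_le_iff_exists.1 hZB
    have hz := zpowers_le.2 hg
    refine good' g (hBS hg.1) hgT (le_bot_iff.1 ?_)
    refine (commutator_mono ((commutator_mono le_rfl (hz.trans inf_le_left)).trans hAB')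
      (hz.trans inf_le_right)).trans ?_
    rw [commutator_comm]
    exact (commutator_eq_bot_iff_le_centralizer.2 le_rfl).le
  have hZA : ⁅zc A, A⁆ = ⊥ := commutator_eq_bot_iff_le_centralizer.2 inf_le_right
  have hfam : ∀ R ≤ A, B ≤ normalizer (R : Set G) → ⁅B, ⁅R, R⁆⁆ = ⊥ → ⁅⁅R, B⁆, B⁆ = ⊥ := by
    intro R hR h1 h2
    have := hB R ((commutator_mono hR hR).trans (le_trans hA2 (centralizer_le hR))) hR h1 h2
      (le_bot_iff.1 ((commutator_mono ((commutator_mono hZB hR).trans hA3) hR).trans hZA.le))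
    rw [commutator_comm] at this
    exact commutator_eq_bot_iff_le_centralizer.2 (this.trans inf_le_right)
  have h1 : ⁅⁅zc A, B⁆, B⁆ = ⊥ := hfam _ inf_le_left le_normalizer_of_normal (by
    rw [le_bot_iff.1 ((commutator_mono le_rfl inf_le_left).trans hZA.le), commutator_bot_right])
  have h2 : ⁅⁅A, B⁆, B⁆ ≤ zc B :=
    (commutator_mono hAB' le_rfl).trans (le_inf (commutator_le_self B) hB2)
  suffices key : ∃ U V : Subgroup G, IsChiefFactor U V ∧ U ≤ A ∧ ⁅⁅U, B⁆, B⁆ ≤ V ∧ ¬ ⁅U, B⁆ ≤ V by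
    obtain ⟨U, V, hc, hU, h4, h5⟩ := key
    have := hc.2.2.1
    rw [← le_ck_iff'] at h5
    obtain ⟨g, hg, hgV⟩ := SetLike.not_le_iff_exists.1 h5
    have hz := zpowers_le.2 hg
    exact ⟨g, hBS hg, U, V, hc, hU, (commutator_mono (commutator_mono le_rfl hz) hz).trans h4,
      fun h => hgV (mem_ck_iff'.2 h)⟩
  by_cases hB1 : B ≤ chiefStab ⊥ (zc A)
  swap
  · rw [le_chiefStab_iff] at hB1
    push Not at hB1
    obtain ⟨U, V, hc, -, hU, h⟩ := hB1
    exact ⟨U, V, hc, hU.trans inf_le_left,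
      (commutator_mono (commutator_mono hU le_rfl) le_rfl).trans (h1.le.trans bot_le), h⟩
  have hB2 : ¬ B ≤ chiefStab (zc A) A := fun h =>
    hBT fun x hx => hΦ x (hBS hx) (hB1 hx) (h hx)
  rw [le_chiefStab_iff] at hB2
  push Not at hB2
  obtain ⟨U, V, hc, hV, hU, h⟩ := hB2
  refine ⟨U, V, hc, hU, ?_, h⟩
  have := hc.2.1
  have := hc.2.2.1
  set H := centralizer (zc A : Set G) ⊔ B with hH
  have hsn : L.SN ⊤ H := sn_of_pow_mem (p := p) (C := centralizer (zc A : Set G))
    (K := chiefStab ⊥ (zc A)) le_sup_left (sup_le (le_chiefStab_iff.2 fun U V _ _ hU => by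
      refine le_trans (commutator_mono hU le_rfl) ?_
      rw [commutator_comm, commutator_eq_bot_iff_le_centralizer.2 le_rfl]
      exact bot_le) hB1) fun x hx hxc => by
      have := commutator_le_of_mem_chiefStab (hAp.to_le inf_le_left) bot_le hxc hx
      rw [le_bot_iff, commutator_comm, commutator_eq_bot_iff_le_centralizer] at this
      exact this (mem_zpowers x)
  set D := zc A ⊓ centralizer (B : Set G) with hD
  have hHD : H ≤ normalizer (D : Set G) := by
    refine le_trans (sup_le (centralizer_le (inf_le_left : D ≤ zc A)) ?_)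
      (centralizer_le_normalizer _)
    rw [le_centralizer_iff]; exact inf_le_right
  set R := U ⊓ ck A D with hR
  have hHR : H ≤ normalizer (R : Set G) :=
    H2.le_normalizer_inf le_normalizer_of_normal (le_normalizer_ck le_normalizer_of_normal hHD)
  have hR1 : ⁅⁅U, B⁆, B⁆ ≤ R := by
    have h4 : ⁅⁅U, B⁆, B⁆ ≤ U :=
      (commutator_mono (commutator_le_left _ _) le_rfl).trans (commutator_le_left _ _)
    refine le_inf h4 (le_ck_iff.2 ⟨?_, le_inf ?_ ?_⟩)
    · refine ((h4.trans hU).trans ?_).trans (centralizer_le_normalizer _)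
      rw [le_centralizer_iff]; exact inf_le_left.trans inf_le_right
    · exact (commutator_mono le_rfl (h4.trans (hU.trans hAT))).trans hTA
    · refine (commutator_mono le_rfl ((commutator_mono (commutator_mono hU le_rfl) le_rfl).trans
        h2)).trans (le_trans (le_normalizer_iff_commutator_le_right.1
          (hAB.trans (normalizer_le_normalizer_zc B))) inf_le_right)
  have hR2 : ⁅⁅R, B⁆, B⁆ = ⊥ := by
    refine hfam R (inf_le_left.trans hU) (le_sup_right.trans hHR) ?_
    rw [commutator_comm, commutator_eq_bot_iff_le_centralizer]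
    exact (commutator_mono (inf_le_left.trans hU) le_rfl).trans
      ((le_ck_iff.1 inf_le_right).2.trans inf_le_right)
  refine le_of_forall_maxInv hc hsn fun M hVM hM => ?_
  have hUM : U ≤ normalizer (M : Set G) := by
    rw [le_normalizer_iff_commutator_le_left]
    exact (commutator_mono hM.1.le (hU.trans hAT)).trans
      ((chief_commutator_le hc hTp (hU.trans hAT)).trans hVM)
  have hBM : B ≤ normalizer (M : Set G) := le_sup_right.trans hM.2.1
  rcases hM.2.2 (R ⊔ M) le_sup_right (sup_le inf_le_left hM.1.le)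
    (H2.le_normalizer_sup hHR hM.2.1) with h4 | h4
  · exact hR1.trans (le_sup_left.trans h4.le)
  · have hN : U ≤ normalizer ((⁅R, B⁆ ⊔ M : Subgroup G) : Set G) := by
      rw [le_normalizer_iff_commutator_le_left]
      refine (commutator_mono (sup_le ?_ hM.1.le) (hU.trans hAT)).trans
        ((chief_commutator_le hc hTp (hU.trans hAT)).trans (hVM.trans le_sup_right))
      exact (commutator_mono inf_le_left le_rfl).trans (commutator_le_left _ _)
    have h5 : ⁅U, B⁆ ≤ ⁅R, B⁆ ⊔ M := by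
      conv_lhs => rw [← h4]
      exact H2.commutator_sup_left_le (inf_le_left.trans hN) (hM.1.le.trans hN) le_sup_left
        ((le_normalizer_iff_commutator_le_left.1 hBM).trans le_sup_right)
    refine (commutator_mono h5 le_rfl).trans (H2.commutator_sup_left_le ?_ le_normalizer
      (hR2.le.trans bot_le) (le_normalizer_iff_commutator_le_left.1 hBM))
    exact ((commutator_mono inf_le_left le_rfl).trans (commutator_le_left _ _)).trans hUM

open Cfsg.Agent.H8 Cfsg.Agent.H8.QP in
theorem quad_minNormal {Y : Type u} [Group Y] [Finite Y] {p : ℕ} [Fact p.Prime] (hp : 3 < p)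
    {E Γ R : Subgroup Y} (hE : L.IsMinNormal E) (hEp : IsPGroup p E) [Γ.Normal] {g : Y}
    (h : Hyp p Γ R g) (hq : ⁅⁅E, zpowers g⁆, zpowers g⁆ = ⊥) : ⁅E, zpowers g⁆ = ⊥ := by
  have := hE.1
  obtain ⟨hc, hV⟩ := hE.elementary_of_isPGroup hEp
  letI : CommGroup E := { (inferInstance : Group E) with mul_comm := hc.is_comm.comm }
  have hV' : ∀ x : Additive E, p • x = 0 := fun x => Subtype.ext (hV x.toMul x.toMul.2)
  obtain ⟨inst⟩ : Nonempty (Module (ZMod p) (Additive E)) := ⟨AddCommGroup.zmodModule hV'⟩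
  let σ : Y →* Module.End (ZMod p) (Additive E) :=
    { toFun := fun x =>
        { toFun := MonoidHom.toAdditive (MulAut.conjNormal x : MulAut E).toMonoidHom
          map_add' := map_add _
          map_smul' := ZMod.map_smul
            (MonoidHom.toAdditive (MulAut.conjNormal x : MulAut E).toMonoidHom) }
      map_one' := LinearMap.ext fun v => by rw [map_one]; rfl
      map_mul' := fun x y => LinearMap.ext fun v => by rw [map_mul]; rfl }
  have hσ : ∀ (x : Y) (v : Additive E), (((σ x - 1) v).toMul : Y) = ⁅x, (v.toMul : Y)⁆ :=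
    fun x v => by
      rw [LinearMap.sub_apply, sub_eq_add_neg]; rfl
  obtain ⟨D, d1, d2, d3, d4⟩ := quadratic_rep hp σ h (LinearMap.ext fun v => by
    refine Additive.toMul.injective (Subtype.ext ?_)
    rw [Module.End.mul_apply, hσ, hσ]
    rw [commutator_comm, commutator_comm E] at hq
    exact hq.le (commutator_mem_commutator (mem_zpowers g)
      (commutator_mem_commutator (mem_zpowers g) v.toMul.2)))
  have : FiniteDimensional (ZMod p) (Additive E) := Module.Finite.of_finite
  have : Finite (Module.End (ZMod p) (Additive E)) := DFunLike.finite _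
  have hirr : IsIrreducibleFor σ.toHomUnits.range := by
    have := (Subgroup.nontrivial_iff_ne_bot E).2 hE.2.1
    refine ⟨exists_ne 0, fun W hW => ?_⟩
    rcases hE.2.2 ((AddSubgroup.toSubgroup' W.toAddSubgroup).map E.subtype) ⟨by
      rintro _ ⟨x, hx, rfl⟩ y
      exact ⟨_, hW _ ⟨y, rfl⟩ _ hx, rfl⟩⟩ (map_subtype_le _) with e | e
    · refine Or.inl (eq_bot_iff.2 fun w hw => ?_)
      exact Additive.toMul.injective (Subtype.ext (e.le ⟨w.toMul, hw, rfl⟩))
    · refine Or.inr (eq_top_iff.2 fun w _ => ?_)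
      obtain ⟨x, hx, e'⟩ := e.ge w.toMul.2
      exact (show Additive.ofMul x = w from congrArg Additive.ofMul (Subtype.ext e')) ▸ hx
  have hb := eq_bot_of_unip' (G₀ := Γ.map σ.toHomUnits) (U := D.map σ.toHomUnits) hirr
    (by rintro _ ⟨y, rfl⟩; rw [← map_smul', smul_eq_of_normal]) (Subgroup.map_mono d1)
    (by rintro _ ⟨y, hy, rfl⟩; rw [← map_smul', smul_eq_iff_mem_normalizer.2 (d4 hy)])
    (unip_of_isPGroup (by
      rintro ⟨_, x, hx, rfl⟩
      obtain ⟨n, hn⟩ := d2 x hx
      exact ⟨n, Subtype.ext (Units.ext (by simpa using hn))⟩))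
  have h1 : σ g = 1 := congrArg Units.val (hb.le ⟨g, d3, rfl⟩ : σ.toHomUnits g = 1)
  rw [commutator_comm, commutator_eq_bot_iff_le_centralizer, zpowers_le]
  intro x hx
  have := hσ g (Additive.ofMul ⟨x, hx⟩)
  rw [h1, sub_self] at this
  exact (commutatorElement_eq_one_iff_mul_comm.1 this.symm).symm

/-- **Flavell.** `T` is a normal `p`-subgroup, self-centralizing in the normal subgroup `G`, and
`P` lies in all `R`-invariant Sylow `p`-subgroups of `G`. -/
theorem kInf_normal {Y : Type u} [Group Y] [Finite Y] {p : ℕ} [Fact p.Prime] (hp : 3 < p)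
    {G R P T : Subgroup Y} [G.Normal] [T.Normal] (hTp : IsPGroup p T) (hTP : T ≤ P)
    (hmax : ∀ K : Subgroup Y, K.Normal → K ≤ G → IsPGroup p K → K ≤ T)
    (hC : G ⊓ centralizer (T : Set Y) ≤ T) (hP : ∀ g ∈ P, Hyp p G R g) :
    (inducedFunctor kInfLower P).Normal ∧ (inducedFunctor kInfUpper P).Normal := by
  by_contra hK
  rw [not_and_or] at hK
  obtain ⟨H, hH, -, h2, h3⟩ := H2.exists_critical hTp
  set A := H.map T.subtype with hA
  have hAT : A ≤ T := Subgroup.map_subtype_le _
  have hAp := hTp.to_le hAT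
  have : A.Normal := L.normal_map_subtype_of_char _
  have hA3 : ⁅T, A⁆ ≤ zc A := by
    have := Subgroup.map_mono (f := T.subtype) h2
    rwa [Subgroup.map_commutator, map_subtype_top, show (H ⊓ centralizer (H : Set T)) = zc H from rfl,
      map_zc T.subtype_injective, commutator_comm] at this
  obtain ⟨g, hg, U, V, hc, hU, q1, q2⟩ := exists_quad hTp hTP hAT hA3 (fun x hx x1 x2 =>
    hmax (G ⊓ (chiefStab ⊥ (zc A) ⊓ chiefStab (zc A) A)) inferInstance inf_le_left
      (isPGroup_of_forall_coprime fun x hx hc => by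
        have h1 := commutator_le_of_mem_chiefStab (hAp.to_le inf_le_left) bot_le hc hx.2.1
        have h2 := commutator_le_of_mem_chiefStab hAp inf_le_left hc hx.2.2
        have h4 : x ∈ centralizer (A : Set Y) := by
          rw [← zpowers_le, le_centralizer_iff, ← commutator_eq_bot_iff_le_centralizer, eq_bot_iff,
            ← H2.commutator_commutator_eq le_normalizer_of_normal (coprime_card_zpowers hAp hc)]
          exact (commutator_mono h2 le_rfl).trans h1
        have h5 := H2.mulAut_eq_one_of_fixes_self_centralizing hTp h3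
          (a := MulAut.conjNormal x) (m := orderOf x) (by rw [← map_pow, pow_orderOf_eq_one, map_one])
          hc fun a ha => Subtype.ext (by
            show x * a * x⁻¹ = a
            rw [← h4 a ⟨a, ha, rfl⟩]; group)
        have h6 : x ∈ T := hC ⟨hx.1, fun a ha => by
          have := congrArg (fun φ : MulAut T => (φ ⟨a, ha⟩ : Y)) h5
          exact (mul_inv_eq_iff_eq_mul.1 this).symm⟩
        obtain ⟨k, hk⟩ := H1.isPGroup_iff_mem.1 hTp x h6
        exact H1.eq_one_of_pow_of_coprime hk hc) ⟨(hP x hx).mem, x1, x2⟩) hK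
  have := hc.2.2.1
  have := (inferInstance : G.Normal).map _ (QuotientGroup.mk'_surjective V)
  refine q2 (le_iff_map_eq_bot.2 ?_)
  rw [le_iff_map_eq_bot] at q1
  simp only [Subgroup.map_commutator, MonoidHom.map_zpowers] at q1 ⊢
  exact quad_minNormal hp (chief_isMinNormal hc) ((hAp.to_le hU).map _) ((hP g hg).map _) q1

/-- **Flavell**, inside an ambient group. -/
theorem le_normalizer_kInf {X : Type u} [Group X] [Finite X] {p : ℕ} [Fact p.Prime] (hp : 3 < p)
    {G R P : Subgroup X} (hPp : IsPGroup p P) (hR : R ≤ normalizer (G : Set X))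
    (hTP : pCoreOf p G ≤ P) (hC : G ⊓ centralizer (pCoreOf p G : Set X) ≤ pCoreOf p G)
    (hP : ∀ g ∈ P, Hyp p G R g) :
    normalizer (G : Set X) ≤ normalizer (inducedFunctor kInfLower P : Set X) := by
  set Y := normalizer (G : Set X) with hY
  have hG : G ≤ Y := le_normalizer
  have hPG : P ≤ G := fun g hg => (hP g hg).mem
  have : (G.subgroupOf Y).Normal := normal_subgroupOf_of_le_normalizer le_rfl
  have : ((pCoreOf p G).subgroupOf Y).Normal :=
    normal_subgroupOf_of_le_normalizer (normalizer_le_normalizer_pCoreOf G)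
  have h := (kInf_normal hp (G := G.subgroupOf Y) (R := R.subgroupOf Y) (P := P.subgroupOf Y)
    (T := (pCoreOf p G).subgroupOf Y) (isPGroup_subgroupOf (pCoreOf_isPGroup G)) (comap_mono hTP)
    (fun K hK h1 h2 => map_le_iff_le_comap.1 (le_pCoreOf (map_le_iff_le_comap.2 h1) (hG.trans (by
      have := le_normalizer_map (H := K) Y.subtype
      rwa [normalizer_eq_top, map_subtype_top] at this)) (h2.map _)))
    (fun x hx => hC ⟨hx.1, fun a ha => congrArg Subtype.val
      (hx.2 ⟨a, hG (pCoreOf_le G ha)⟩ ha)⟩)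
    fun g hg => (hP g hg).subgroupOf hG hR).1
  have e := ind_map_injective (isCharPFunctor_kInfLower p) Y.subtype_injective
    (isPGroup_subgroupOf (H := Y) hPp)
  rw [map_subgroupOf_eq_of_le (hPG.trans hG)] at e
  have := le_normalizer_map (H := inducedFunctor kInfLower (P.subgroupOf Y)) Y.subtype
  rwa [normalizer_eq_top, map_subtype_top, e] at this

end Cfsg.Agent.H3.Fl
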