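import Cfsg.Agent.H3.Fl7
import Cfsg.Agent.L.Bender
import Cfsg.Agent.H2.CoprimeGen

/-! Noncyclic abelian coprime action centralizing the local residual layers. -/

set_option autoImplicit false

universe u

namespace Cfsg.Agent.H3.Fl

open Cfsg Cfsg.Agent.H9 Subgroup
open scoped commutatorElement

/-- **Flavell.** `T` is a normal `p`-subgroup, self-centralizing in the normal subgroup `G`, and
`P` lies in all `R`-invariant Sylow `p`-subgroups of `G`. -/
theorem kInf_normal' {Y : Type u} [Group Y] [Finite Y] {p : ℕ} [Fact p.Prime] (hp : 3 < p)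
    {G R P T : Subgroup Y} [G.Normal] [T.Normal] (hTp : IsPGroup p T) (hTP : T ≤ P)
    (hmax : ∀ K : Subgroup Y, K.Normal → K ≤ G → IsPGroup p K → K ≤ T)
    (hPp : IsPGroup p P) (hC : G ⊓ centralizer (T : Set Y) ≤ normalizer (P : Set Y)) (hP : ∀ g ∈ P, Hyp p G R g) :
    (inducedFunctor kInfLower P).Normal ∧ (inducedFunctor kInfUpper P).Normal := by
  by_contra hK
  rw [not_and_or] at hK
  obtain ⟨H, hH, -, h2, h3⟩ := H2.exists_critical hTp
  set A := H.map T.subtype with hA
  have hAT : A ≤ T := Subgroup.map_subtype_le _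
  have hAp := hTp.to_le hAT
  have : A.Normal := L.normal_map_subtype_of_char _
  have hA3 : ⁅T, A⁆ ≤ zc A := by
    have := Subgroup.map_mono (f := T.subtype) h2
    rwa [Subgroup.map_commutator, map_subtype_top, show (H ⊓ centralizer (H : Set T)) = zc H from rfl,
      map_zc T.subtype_injective, commutator_comm] at this
  set K := G ⊓ (chiefStab ⊥ (zc A) ⊓ chiefStab (zc A) A) with hKdef
  have hsn := sn_of_pow_mem (p := p) (C := K ⊓ centralizer (T : Set Y)) (K := K)
    (H := K ⊓ centralizer (T : Set Y) ⊔ P ⊓ K) le_sup_left (sup_le inf_le_left inf_le_right)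
    fun x hx hc => by
      have h1 := commutator_le_of_mem_chiefStab (hAp.to_le inf_le_left) bot_le hc hx.2.1
      have h2 := commutator_le_of_mem_chiefStab hAp inf_le_left hc hx.2.2
      have h4 : x ∈ centralizer (A : Set Y) := by
        rw [← zpowers_le, le_centralizer_iff, ← commutator_eq_bot_iff_le_centralizer, eq_bot_iff,
          ← H2.commutator_commutator_eq le_normalizer_of_normal (coprime_card_zpowers hAp hc)]
        exact (commutator_mono h2 le_rfl).trans h1
      have h5 := H2.mulAut_eq_one_of_fixes_self_centralizing hTp h3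
        (a := MulAut.conjNormal x) (m := orderOf x) (by rw [← map_pow, pow_orderOf_eq_one, map_one])
        hc fun a ha => Subtype.ext (by
          show x * a * x⁻¹ = a
          rw [← h4 a ⟨a, ha, rfl⟩]; group)
      exact ⟨hx, fun a ha => by
        have := congrArg (fun φ : MulAut T => (φ ⟨a, ha⟩ : Y)) h5
        exact (mul_inv_eq_iff_eq_mul.1 this).symm⟩
  have h6 : P ⊓ K ≤ pCoreOf p ⊤ := (L.pClass p).le_radOf_of_SN (hsn.trans (L.SN.of_le_normalizer
    le_sup_right (sup_le (H2.le_normalizer_inf ((inf_le_inf_right _ inf_le_left).trans hC)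
      le_normalizer_of_normal) le_normalizer))) hPp.to_inf_left
  rw [pCoreOf_top] at h6
  obtain ⟨g, hg, U, V, hc, hU, q1, q2⟩ := exists_quad hTp hTP hAT hA3 (fun x hx x1 x2 =>
    hmax (G ⊓ pCore p Y) inferInstance inf_le_left (L.pCore_isPGroup p).to_inf_right
      ⟨(hP x hx).mem, h6 ⟨hx, (hP x hx).mem, x1, x2⟩⟩) hK
  have := hc.2.2.1
  have := (inferInstance : G.Normal).map _ (QuotientGroup.mk'_surjective V)
  refine q2 (le_iff_map_eq_bot.2 ?_)
  rw [le_iff_map_eq_bot] at q1
  simp only [Subgroup.map_commutator, MonoidHom.map_zpowers] at q1 ⊢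
  exact quad_minNormal hp (chief_isMinNormal hc) ((hAp.to_le hU).map _) ((hP g hg).map _) q1

/-- **Flavell**, inside an ambient group. -/
theorem le_normalizer_kInf' {X : Type u} [Group X] [Finite X] {p : ℕ} [Fact p.Prime] (hp : 3 < p)
    {G R P : Subgroup X} (hPp : IsPGroup p P) (hR : R ≤ normalizer (G : Set X))
    (hTP : pCoreOf p G ≤ P) (hC : G ⊓ centralizer (pCoreOf p G : Set X) ≤ normalizer (P : Set X))
    (hP : ∀ g ∈ P, Hyp p G R g) :
    normalizer (G : Set X) ≤ normalizer (inducedFunctor kInfLower P : Set X) := by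
  set Y := normalizer (G : Set X) with hY
  have hG : G ≤ Y := le_normalizer
  have hPG : P ≤ G := fun g hg => (hP g hg).mem
  have : (G.subgroupOf Y).Normal := normal_subgroupOf_of_le_normalizer le_rfl
  have : ((pCoreOf p G).subgroupOf Y).Normal :=
    normal_subgroupOf_of_le_normalizer (normalizer_le_normalizer_pCoreOf G)
  have h := (kInf_normal' hp (G := G.subgroupOf Y) (R := R.subgroupOf Y) (P := P.subgroupOf Y)
    (T := (pCoreOf p G).subgroupOf Y) (isPGroup_subgroupOf (pCoreOf_isPGroup G)) (comap_mono hTP)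
    (fun K hK h1 h2 => map_le_iff_le_comap.1 (le_pCoreOf (map_le_iff_le_comap.2 h1) (hG.trans (by
      have := le_normalizer_map (H := K) Y.subtype
      rwa [normalizer_eq_top, map_subtype_top] at this)) (h2.map _)))
    (isPGroup_subgroupOf hPp)
    (fun x hx => le_normalizer_comap Y.subtype (hC ⟨hx.1, fun a ha => congrArg Subtype.val
      (hx.2 ⟨a, hG (pCoreOf_le G ha)⟩ ha)⟩))
    fun g hg => (hP g hg).subgroupOf hG hR).1
  have e := ind_map_injective (isCharPFunctor_kInfLower p) Y.subtype_injective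
    (isPGroup_subgroupOf (H := Y) hPp)
  rw [map_subgroupOf_eq_of_le (hPG.trans hG)] at e
  have := le_normalizer_map (H := inducedFunctor kInfLower (P.subgroupOf Y)) Y.subtype
  rwa [normalizer_eq_top, map_subtype_top, e] at this

section Main

variable {X : Type u} [Group X] [Finite X] {p : ℕ} [Fact p.Prime]

theorem pRes_le_of_le_sup {H P N : Subgroup X} (hP : IsPGroup p P)
    (hn : P ≤ normalizer (N : Set X)) (h : H ≤ P ⊔ N) : H1.pResidualOf p H ≤ N := by
  refine H1.pResidualOf_le_iff.2 fun x hx hc => ?_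
  have : (N.subgroupOf (P ⊔ N)).Normal := normal_subgroupOf_sup_of_le_normalizer hn
  obtain ⟨k, hk⟩ := hP.index (N.subgroupOf P)
  have h1 : x ^ N.relIndex (P ⊔ N) ∈ N := (N.subgroupOf (P ⊔ N)).pow_index_mem ⟨x, h hx⟩
  rw [H2.relIndex_sup_of_le_normalizer hn, relIndex, hk] at h1
  exact zpowers_le.2 h1 (mem_zpowers_pow_iff.2 (hc.pow_right k).symm)

variable (p) in
/-- `O^p(F*(H))` -/
abbrev Uf (H : Subgroup X) : Subgroup X := H1.pResidualOf p (L.gfOf H)

theorem Uf_le (H : Subgroup X) : Uf p H ≤ H := (H1.pResidualOf_le _).trans (L.gfOf_le H)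

theorem nrm_Uf (H : Subgroup X) : normalizer (H : Set X) ≤ normalizer (Uf p H : Set X) :=
  (L.normalizer_le_normalizer_gfOf H).trans (H1.normalizer_le_normalizer_pResidualOf _)

theorem gf_le_sup (H : Subgroup X) :
    L.gfOf H ≤ pCoreOf p H ⊔ (L.layerOf H ⊔ L.oc p H ⊓ fittingOf H) := by
  rw [L.gfOf_eq]
  exact sup_le (le_sup_of_le_right le_sup_left)
    ((L.fittingOf_le_op_sup p H).trans (sup_le_sup_left le_sup_right _))

theorem le_Uf (H : Subgroup X) : L.layerOf H ⊔ L.oc p H ⊓ fittingOf H ≤ Uf p H :=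
  sup_le ((L.pResidualOf_eq_of_perfect (L.commutator_layerOf H)).ge.trans
    (H1.pResidualOf_mono (L.layerOf_le_gfOf H))) fun _ hx =>
    H1.mem_pResidualOf (L.fittingOf_le_gfOf H hx.2)
      ((L.oc_coprime H).coprime_dvd_left (orderOf_dvd_natCard _ hx.1))

theorem Uf_le_cent (H : Subgroup X) : Uf p H ≤ centralizer (pCoreOf p H : Set X) :=
  pRes_le_of_le_sup (pCoreOf_isPGroup H) (H2.le_normalizer_centralizer le_normalizer)
    ((gf_le_sup H).trans (sup_le_sup_left (sup_le (le_centralizer_iff.1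
      ((L.op_le_fittingOf p H).trans (L.fittingOf_le_centralizer_layerOf H)))
      (inf_le_left.trans (le_centralizer_iff.1 (L.op_le_centralizer_oc p H)))) _))

theorem Uf_le_Uf (H : Subgroup X) : Uf p H ≤ Uf p (Uf p H) := by
  have h1 : Uf p H ≤ L.layerOf H ⊔ L.oc p H ⊓ fittingOf H :=
    pRes_le_of_le_sup (pCoreOf_isPGroup H) ((pCoreOf_le H).trans (H2.le_normalizer_sup
      (L.le_normalizer_layerOf H) (H2.le_normalizer_inf (L.le_normalizer_oc H)
        (L.le_normalizer_fittingOf H)))) (gf_le_sup H)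
  refine (H1.pResidualOf_pResidualOf _).ge.trans (H1.pResidualOf_mono (h1.trans ?_))
  rw [L.gfOf_eq]
  exact sup_le_sup (L.layerOf_le_of_le (le_sup_left.trans (le_Uf H)) (Uf_le H))
    ((le_inf inf_le_right (le_sup_right.trans (le_Uf H))).trans (L.nilClass.radOf_inf_le (Uf_le H)))

theorem Uf_mono {H N : Subgroup X} (h1 : N ≤ H) (h2 : H ≤ normalizer (N : Set X)) :
    Uf p N ≤ Uf p H := H1.pResidualOf_mono (L.gfOf_le_gfOf_of_SN (L.SN.of_le_normalizer h1 h2))

theorem le_cent_of_comm_le {H A Y : Subgroup X} (hY : IsPGroup p Y)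
    (h1 : ⁅A, H1.pResidualOf p H⁆ ≤ Y)
    (h2 : Y ≤ centralizer (H1.pResidualOf p H : Set X)) :
    A ≤ centralizer (H1.pResidualOf p H : Set X) := by
  refine le_centralizer_iff.1 (H1.pResidualOf_le_iff.2 fun u hu hc a ha => ?_)
  have hu' := H1.mem_pResidualOf hu hc
  have hz := h1 (commutator_mem_commutator ha hu')
  obtain ⟨k, hk⟩ := H1.isPGroup_iff_mem.1 hY _ hz
  have c : Commute ⁅a, u⁆ u := (h2 hz u hu').symm
  have e : ⁅a, u⁆ ^ orderOf u = 1 := by
    have : (⁅a, u⁆ * u) ^ orderOf u = 1 := by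
      rw [show ⁅a, u⁆ * u = a * u * a⁻¹ by simp [commutatorElement_def], conj_pow,
        pow_orderOf_eq_one]; simp
    rwa [c.mul_pow, pow_orderOf_eq_one, mul_one] at this
  exact commutatorElement_eq_one_iff_mul_comm.1 (H1.eq_one_of_pow_of_coprime hk
    (hc.coprime_dvd_left (orderOf_dvd_of_pow_eq_one e)))

theorem AxB {H P B : Subgroup X} (hP : IsPGroup p P) (hB : B ≤ P)
    (h1 : H1.pResidualOf p H ≤ normalizer (P : Set X))
    (h2 : P ⊓ normalizer (B : Set X) ≤ centralizer (H1.pResidualOf p H : Set X)) :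
    P ≤ centralizer (H1.pResidualOf p H : Set X) := by
  refine le_centralizer_iff.1 (H1.pResidualOf_le_iff.2 fun u hu hc => ?_)
  have hu' := zpowers_le.2 (H1.mem_pResidualOf hu hc)
  refine zpowers_le.1 (le_centralizer_iff.1 (H2.thompson_A_times_B hP (hP.to_le hB)
    (by rwa [Nat.card_zpowers]) (hu'.trans h1) (hB.trans le_normalizer)
    (((le_inf hB le_normalizer).trans h2).trans (centralizer_le hu'))
    (((inf_le_inf_left _ (centralizer_le_normalizer _)).trans h2).trans (centralizer_le hu'))))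

variable {R : Subgroup X}

theorem comm_le_pCore {H V : Subgroup X} (hH : R ≤ normalizer (H : Set X))
    (hc : (Nat.card R).Coprime (Nat.card H)) (hg : R ≤ centralizer (Uf p H : Set X))
    (hVH : V ≤ H) (hV : R ≤ normalizer (V : Set X))
    (h : V ≤ centralizer (pCoreOf p H : Set X)) : ⁅R, V⁆ ≤ pCoreOf p H := by
  have h1 : ⁅V, R⁆ ≤ V := H2.commutator_le_left_of_le_normalizer hV
  have h2 : ⁅V, R⁆ ≤ centralizer (Uf p H : Set X) :=
    (commutator_mono le_rfl hg).trans (le_normalizer_iff_commutator_le_right.1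
      (H2.le_normalizer_centralizer ((hVH.trans le_normalizer).trans (nrm_Uf H))))
  have h3 : ⁅V, R⁆ ≤ pCoreOf p H ⊔ Uf p H := by
    refine le_trans (le_inf (h1.trans hVH) ?_) ((L.inf_centralizer_gfOf_le H).trans
      ((gf_le_sup H).trans (sup_le_sup_left (le_Uf H) _)))
    rw [le_centralizer_iff]
    exact (gf_le_sup H).trans (sup_le (le_centralizer_iff.1 (h1.trans h))
      ((le_Uf H).trans (le_centralizer_iff.1 h2)))
  rw [commutator_comm, ← H2.commutator_commutator_eq hV (hc.coprime_dvd_right (card_dvd_of_le hVH)),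
    commutator_comm]
  refine (le_ck_iff.1 (h3.trans (sup_le (le_ck_iff.2 ⟨le_normalizer, ?_⟩)
    (le_ck_iff.2 ⟨(Uf_le H).trans (le_normalizer_pCoreOf H), ?_⟩)))).2
  · exact le_normalizer_iff_commutator_le_right.1 (hH.trans (normalizer_le_normalizer_pCoreOf H))
  · exact (commutator_eq_bot_iff_le_centralizer.2 hg).le.trans bot_le

variable (p R) in
/-- the intersection of the `R`-invariant Sylow `p`-subgroups -/
def opR (G : Subgroup X) : Subgroup X :=
  ⨅ (H : Subgroup X) (_ : H ≤ G ∧ R ≤ normalizer (H : Set X) ∧ ¬ p ∣ H.relIndex G), H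

omit [Finite X] [Fact p.Prime] in
theorem mem_opR {G : Subgroup X} {g : X} :
    g ∈ opR p R G ↔ ∀ H ≤ G, R ≤ normalizer (H : Set X) → ¬ p ∣ H.relIndex G → g ∈ H := by
  simp only [opR, mem_iInf, and_imp]

section

variable {G : Subgroup X} (hG : R ≤ normalizer (G : Set X))
  (hc : (Nat.card R).Coprime (Nat.card G)) (hs : Group.IsSolvable R)
include hG hc hs

omit [Finite X] [Fact p.Prime] in
theorem hyp_opR {g : X} (hg : g ∈ opR p R G) : Hyp p G R g := ⟨hG, hc, hs, mem_opR.1 hg⟩

theorem opR_isPGroup : IsPGroup p (opR p R G) := by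
  obtain ⟨S, s1, s2, s3, s4⟩ := H2.exists_invariant_sylow p hG hc (Or.inl hs)
  exact s2.to_le fun g hg => mem_opR.1 hg S s1 s4 s3

omit hc hs [Finite X] [Fact p.Prime] in
theorem nrm_opR : R ⊔ G ⊓ centralizer (R : Set X) ≤ normalizer (opR p R G : Set X) := by
  refine sup_le (H2.le_normalizer_of_conj_mem fun r hr x hx => mem_opR.2 fun H h1 h2 h3 =>
    H2.conj_mem_of_le_normalizer h2 hr (mem_opR.1 hx H h1 h2 h3))
    (H2.le_normalizer_of_conj_mem fun c hc x hx => mem_opR.2 fun H h1 h2 h3 => ?_)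
  have := mem_opR.1 hx (cj c⁻¹ H) (by rw [← cj_eq_of_mem (inv_mem hc.1)]; exact cj_mono _ h1)
    (by rw [← cj_normalizer, ← cj_eq_of_mem_centralizer (inv_mem hc.2)]; exact cj_mono _ h2)
    (by rwa [← cj_eq_of_mem (inv_mem hc.1), relIndex_cj])
  rwa [mem_cj, inv_inv] at this

theorem le_opR {Y : Subgroup X} (hY : IsPGroup p Y) (h1 : Y ≤ G)
    (h2 : R ⊔ G ⊓ centralizer (R : Set X) ≤ normalizer (Y : Set X)) : Y ≤ opR p R G := by
  refine fun g hg => mem_opR.2 fun H a1 a2 a3 => ?_
  obtain ⟨S₀, b1, b2, b3, b4⟩ := H2.exists_invariant_sylow p a2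
    (hc.coprime_dvd_right (card_dvd_of_le a1)) (Or.inl hs)
  obtain ⟨S, s0, s1, s2, s3, s4⟩ := H2.exists_invariant_sylow_ge hG hc (Or.inl hs) h1 hY
    (le_sup_left.trans h2)
  obtain ⟨c, hc', e⟩ := H2.exists_centralizer_conj_sylow hG hc (Or.inl hs) s1 s2 s3 s4
    (b1.trans a1) b2 (by
      rw [← relIndex_mul_relIndex S₀ H G b1 a1]
      exact fun e => ((Fact.out : p.Prime).dvd_mul.1 e).elim b3 a3) b4
  refine b1 (e ▸ (mem_cj.2 (s0 (H2.conj_mem_of_le_normalizer' (le_sup_right.trans h2) hc' hg))))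

end

theorem cent_Uf (hp : 3 < p) (hab : IsMulCommutative R) (hnc : ¬ IsCyclic R) (G : Subgroup X) :
    R ≤ normalizer (G : Set X) → (Nat.card R).Coprime (Nat.card G) →
    (∀ b ∈ R, b ≠ 1 → ∃ K, G ⊓ centralizer {b} ≤ K ∧ K ≤ G ∧ R ≤ normalizer (K : Set X) ∧
      R ≤ centralizer (Uf p K : Set X)) → R ≤ centralizer (Uf p G : Set X) := by
  induction G using WellFoundedLT.induction with
  | ind G ih =>
  intro hG hc h
  have hs : Group.IsSolvable R := Group.isSolvable_of_comm hab.is_comm.comm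
  have cop : ∀ {H}, H ≤ G → (Nat.card R).Coprime (Nat.card H) := fun h =>
    hc.coprime_dvd_right (card_dvd_of_le h)
  rcases (Uf_le (p := p) G).eq_or_lt with hU | hU
  swap
  · refine (ih _ hU (hG.trans (nrm_Uf G)) (cop hU.le) fun b hb hb1 => ?_).trans
      (centralizer_le (Uf_le_Uf G))
    obtain ⟨K, k1, k2, k3, k4⟩ := h b hb hb1
    exact ⟨K ⊓ Uf p G, le_inf ((inf_le_inf_right _ hU.le).trans k1) inf_le_left, inf_le_right,
      H2.le_normalizer_inf k3 (hG.trans (nrm_Uf G)), k4.trans (centralizer_le (Uf_mono inf_le_left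
        (H2.le_normalizer_inf le_normalizer ((k2.trans le_normalizer).trans (nrm_Uf G)))))⟩
  have hZ : pCoreOf p G ≤ centralizer (G : Set X) :=
    le_centralizer_iff.1 (hU.ge.trans (Uf_le_cent G))
  set C := G ⊓ centralizer (R : Set X) with hC
  set P := opR p R G with hP
  have hPp : IsPGroup p P := opR_isPGroup hG hc hs
  have hPG : P ≤ G := fun g hg => (hyp_opR hG hc hs hg).mem
  have hPn : R ⊔ C ≤ normalizer (P : Set X) := nrm_opR hG
  have hCb : ∀ b ∈ R, C ≤ G ⊓ centralizer {b} := fun b hb =>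
    inf_le_inf_left _ (centralizer_le (Set.singleton_subset_iff.2 hb))
  have hOp : ∀ H ≤ G, R ⊔ C ≤ normalizer (H : Set X) → pCoreOf p H ≤ P := fun H h1 h2 =>
    le_opR hG hc hs (pCoreOf_isPGroup H) ((pCoreOf_le H).trans h1)
      (h2.trans (normalizer_le_normalizer_pCoreOf H))
  have hRb : ∀ b ∈ R, R ≤ normalizer ((centralizer {b} : Subgroup X) : Set X) := fun b hb =>
    le_trans (fun r hr => mem_centralizer_singleton_iff.2
      (congrArg Subtype.val (hab.is_comm.comm (⟨r, hr⟩ : R) ⟨b, hb⟩))) le_normalizer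
  have cl1 : ∀ Y ≤ P, R ⊔ C ≤ normalizer (Y : Set X) → ¬ G ≤ normalizer (Y : Set X) →
      R ≤ centralizer (Uf p (G ⊓ normalizer (Y : Set X)) : Set X) := by
    intro Y hYP hY hne
    have hRH : R ≤ normalizer ((G ⊓ normalizer (Y : Set X) : Subgroup X) : Set X) :=
      H2.le_normalizer_inf hG ((le_sup_left.trans hY).trans le_normalizer)
    refine ih _ (lt_of_le_not_ge inf_le_left fun e => hne (e.trans inf_le_right)) hRH
      (cop inf_le_left) fun b hb hb1 => ?_
    obtain ⟨K, k1, k2, k3, k4⟩ := h b hb hb1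
    set P₀ := pCoreOf p K ⊔ Y with hP₀
    have p1 : P₀ ≤ P := sup_le (hOp K k2 (sup_le k3 (((hCb b hb).trans k1).trans le_normalizer))) hYP
    set B := G ⊓ normalizer (Y : Set X) ⊓ centralizer {b} with hB
    have b1 : B ≤ K := (inf_le_inf_right _ inf_le_left).trans k1
    have b2 : B ≤ normalizer (Y : Set X) := inf_le_left.trans inf_le_right
    have n1 : R ⊔ B ≤ normalizer (P₀ : Set X) := H2.le_normalizer_sup
      (sup_le (k3.trans (normalizer_le_normalizer_pCoreOf K)) (b1.trans (le_normalizer_pCoreOf K)))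
      (sup_le (le_sup_left.trans hY) b2)
    set W := P₀ ⊓ normalizer (Y : Set X) with hW
    have n2 : R ⊔ B ≤ normalizer (W : Set X) := H2.le_normalizer_inf n1
      ((sup_le (le_sup_left.trans hY) b2).trans le_normalizer)
    have hWp : IsPGroup p W := (hPp.to_le p1).to_inf_left
    have n3 : R ≤ normalizer ((W ⊔ B : Subgroup X) : Set X) :=
      H2.le_normalizer_sup (le_sup_left.trans n2) (H2.le_normalizer_inf hRH (hRb b hb))
    refine ⟨W ⊔ B, le_sup_right, sup_le (inf_le_inf_right _ (p1.trans hPG)) inf_le_left, n3, ?_⟩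
    have c1 : W ≤ centralizer (Uf p (W ⊔ B) : Set X) := le_centralizer_iff.1 ((Uf_le_cent _).trans
      (centralizer_le (le_pCoreOf le_sup_left (sup_le le_normalizer (le_sup_right.trans n2)) hWp)))
    have c2 := AxB (hPp.to_le p1) (le_sup_right : Y ≤ P₀) ((Uf_le _).trans
      (sup_le (inf_le_left.trans le_normalizer) (le_sup_right.trans n1))) c1
    have c3 := le_cent_of_comm_le (A := zpowers b) hWp (le_ck_iff.1 ((Uf_le (W ⊔ B)).trans (sup_le
      (le_ck_iff.2 ⟨le_normalizer, le_normalizer_iff_commutator_le_right.1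
        (((zpowers_le.2 hb).trans le_sup_left).trans n2)⟩)
      (le_ck_iff.2 ⟨le_sup_right.trans n2, (commutator_eq_bot_iff_le_centralizer.2
        (zpowers_le.2 fun x (hx : x ∈ B) => mem_centralizer_singleton_iff.1 hx.2)).le.trans bot_le⟩)))).2 c1
    have c4 : Uf p (W ⊔ B) ≤ K := le_trans (le_inf ((Uf_le _).trans (sup_le
      (inf_le_left.trans (p1.trans hPG)) (inf_le_left.trans inf_le_left))) fun x hx =>
        mem_centralizer_singleton_iff.2 (c3 (mem_zpowers b) x hx)) k1
    exact le_cent_of_comm_le (pCoreOf_isPGroup K) (comm_le_pCore k3 (cop k2) k4 c4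
      (n3.trans (nrm_Uf _)) (le_centralizer_iff.1 (le_sup_left.trans c2))) (le_sup_left.trans c2)
  have dec : ∀ V ≤ G, R ≤ normalizer (V : Set X) → ∀ Y : Subgroup X, ⁅R, V⁆ ≤ Y → V ≤ C ⊔ Y :=
    fun V h1 h2 Y h3 => (H2.centralizer_sup_of_commutator_le h2 (cop h1) (Or.inl hs)
      (commutator_comm R V ▸ h3)).trans (sup_le_sup_right (inf_le_inf_right _ h1) _)
  have cl2 : ∀ H ≤ G, R ≤ normalizer (H : Set X) → C ≤ H → R ≤ centralizer (Uf p H : Set X) →
      H ≤ normalizer (inducedFunctor kInfLower (P ⊓ H) : Set X) := by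
    intro H h1 h2 h3 h4
    have h5 : pCoreOf p H ≤ P ⊓ H :=
      le_inf (hOp H h1 (sup_le h2 (h3.trans le_normalizer))) (pCoreOf_le H)
    have h6 := H2.le_normalizer_inf h2
      (H2.le_normalizer_centralizer (h2.trans (normalizer_le_normalizer_pCoreOf (p := p) H)))
    exact le_normalizer.trans (le_normalizer_kInf' hp hPp.to_inf_left h2 h5
      ((dec _ (inf_le_left.trans h1) h6 _ (comm_le_pCore h2 (cop h1) h4 inf_le_left h6
        inf_le_right)).trans (sup_le (H2.le_normalizer_inf (le_sup_right.trans hPn)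
          (h3.trans le_normalizer)) (h5.trans le_normalizer)))
      fun g hg => (hyp_opR hG hc hs hg.1).sub h1 h2 hg.2)
  have nK : ∀ Q ≤ P, normalizer (Q : Set X) ≤ normalizer (inducedFunctor kInfLower Q : Set X) :=
    fun Q _ => by
      have : (kInfLower Q).Characteristic :=
        characteristic_iff_map_eq.2 fun e => (map_kInf_equiv e).1
      exact L.normalizer_le_normalizer_map_subtype _
  have cen : ∀ Q ≤ P, G ≤ normalizer (inducedFunctor kInfLower Q : Set X) → Q ≤ pCoreOf p G :=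
    fun Q h1 h2 => by
      have h3 : inducedFunctor kInfLower Q ≤ pCoreOf p G := le_pCoreOf
        ((ind_le _ Q).trans (h1.trans hPG)) h2 ((hPp.to_le h1).to_le (ind_le _ Q))
      exact le_trans (le_inf le_rfl ((h1.trans hPG).trans (le_centralizer_iff.1 (h3.trans hZ))))
        ((inf_centralizer_map_subtype_le (centralizer_kInf_le (hPp.to_le h1)).1).trans h3)
  have cm : ∀ H ≤ G, R ≤ normalizer (H : Set X) → C ≤ H → R ≤ centralizer (Uf p H : Set X) →
      P ⊓ H ≤ pCoreOf p G → ⁅R, H⁆ ≤ pCoreOf p G := fun H h1 h2 h3 h4 h5 => by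
    have h6 := (le_inf (hOp H h1 (sup_le h2 (h3.trans le_normalizer))) (pCoreOf_le H)).trans h5
    exact (comm_le_pCore h2 (cop h1) h4 le_rfl h2 (h1.trans (le_centralizer_iff.1
      (h6.trans hZ)))).trans h6
  have cl3 : ∀ Q H : Subgroup X, P ⊓ H = Q → H ≤ G → R ≤ normalizer (H : Set X) → C ≤ H →
      R ≤ centralizer (Uf p H : Set X) → H ≤ normalizer (inducedFunctor kInfLower P : Set X) := by
    intro Q
    induction Q using WellFoundedGT.induction with
    | ind Q ihQ =>
    rintro H rfl h1 h2 h3 h4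
    have h5 := cl2 H h1 h2 h3 h4
    rcases (inf_le_left : P ⊓ H ≤ P).eq_or_lt with e | hlt
    · rwa [e] at h5
    by_cases hn : G ≤ normalizer (inducedFunctor kInfLower (P ⊓ H) : Set X)
    · exact ((dec H h1 h2 _ (cm H h1 h2 h3 h4 (cen _ inf_le_left hn))).trans (sup_le
        (le_sup_right.trans hPn) ((hOp G le_rfl (sup_le hG (inf_le_left.trans le_normalizer))).trans
          le_normalizer))).trans (nK P le_rfl)
    have h6 := (H2.le_normalizer_inf hPn (sup_le h2 (h3.trans le_normalizer))).trans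
      (nK _ inf_le_left)
    exact (le_inf h1 h5).trans (ihQ _ ((lt_inf_normalizer hPp hlt).trans_le
      (le_inf inf_le_left (inf_le_inf hPG (nK _ inf_le_left)))) _ rfl inf_le_left
      (H2.le_normalizer_inf hG ((le_sup_left.trans h6).trans le_normalizer))
      (le_inf inf_le_left (le_sup_right.trans h6)) (cl1 _ ((ind_le _ _).trans inf_le_left) h6 hn))
  have h1 := cen P le_rfl (H2.le_of_forall_centralizer_le hab hnc hG hc fun b hb hb1 => by
    obtain ⟨K, k1, k2, k3, k4⟩ := h b hb hb1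
    exact k1.trans (cl3 _ K rfl k2 k3 ((hCb b hb).trans k1) k4))
  have h2 : G ≤ ck R (pCoreOf p G) := H2.le_of_forall_centralizer_le hab hnc hG hc fun b hb hb1 => by
    obtain ⟨K, k1, k2, k3, k4⟩ := h b hb hb1
    exact k1.trans (le_ck_iff.2 ⟨k2.trans (le_normalizer_pCoreOf G),
      cm K k2 k3 ((hCb b hb).trans k1) k4 (inf_le_left.trans h1)⟩)
  exact le_cent_of_comm_le (pCoreOf_isPGroup G) (le_ck_iff.1 ((Uf_le G).trans h2)).2
    (hZ.trans (centralizer_le (Uf_le G)))

end Main

end Cfsg.Agent.H3.Fl
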