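import Cfsg.Agent.H2.NoFour
import Cfsg.Agent.H3.Four

/-! A normal subgroup `S` of a `2`-group in which all `G`-normal abelian subgroups are cyclic. -/

set_option autoImplicit false

namespace Cfsg.Agent.H3

open Subgroup Cfsg.Agent.H2
open scoped commutatorElement

variable {G : Type*} [Group G] [Finite G]

theorem exists_rel_scn [Group.IsNilpotent G] (S : Subgroup G) [S.Normal] :
    ∃ A : Subgroup G, A.Normal ∧ A ≤ S ∧ IsMulCommutative A ∧
      centralizer (A : Set G) ⊓ S ≤ A := by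
  obtain ⟨A, ⟨hAn, hAS, hAc⟩, hmax⟩ := (Set.toFinite
    {A : Subgroup G | A.Normal ∧ A ≤ S ∧ IsMulCommutative A}).exists_maximal
    ⟨⊥, inferInstance, bot_le, inferInstance⟩
  refine ⟨A, hAn, hAS, hAc, ?_⟩
  by_contra hcon
  obtain ⟨x, hx, hxA, hxG⟩ := exists_mem_not_mem_commutator_mem_top hcon
  have := hmax (y := A ⊔ zpowers x) ⟨normal_sup_zpowers hxG, sup_le hAS (zpowers_le.mpr hx.2),
    isMulCommutative_sup_zpowers hAc hx.1⟩ le_sup_left
  exact hxA (this (mem_sup_right (mem_zpowers x)))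

theorem rel_noFour (hG : IsPGroup 2 G) (S : Subgroup G) [hSn : S.Normal]
    (h : ∀ A : Subgroup G, A.Normal → A ≤ S → IsMulCommutative A → IsCyclic A)
    (hS : ¬ IsCyclic S) :
    ∃ c ∈ S, ∃ k, (zpowers c).Normal ∧ orderOf c = 2 ^ (k + 2) ∧
      centralizer (zpowers (c ^ 2 ^ k) : Set G) ⊓ S ≤ zpowers c := by
  have := hG.isNilpotent
  obtain ⟨A, hAn, hAS, hAc, hA⟩ := exists_rel_scn S
  obtain ⟨c, rfl⟩ := (Subgroup.isCyclic_iff_exists_zpowers_eq_top A).mp (h A hAn hAS hAc)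
  have hcS : c ∈ S := hAS (mem_zpowers c)
  have hc : ∀ g ∈ S, g * c = c * g → g ∈ zpowers c := fun g hgS hg => hA ⟨by
    rintro _ ⟨i, rfl⟩
    exact ((Commute.zpow_right hg i).eq).symm, hgS⟩
  have hcZ : c ∉ center G := fun h1 => hS (by
    have : S = zpowers c := le_antisymm (fun g hg => hc g hg (mem_center_iff.mp h1 g)) hAS
    rw [this]; infer_instance)
  obtain ⟨n, hn⟩ := IsPGroup.iff_orderOf.mp hG c
  obtain ⟨k, rfl⟩ : ∃ k, n = k + 2 := by
    rcases n with _ | _ | k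
    · exact absurd (orderOf_eq_one_iff.mp hn ▸ one_mem _) hcZ
    · exact absurd (le_center_of_card_eq_prime hG (by rw [Nat.card_zpowers, hn, zero_add, pow_one])
        (mem_zpowers c)) hcZ
    · exact ⟨k, rfl⟩
  refine ⟨c, hcS, k, hAn, hn, ?_⟩
  set y := c ^ 2 ^ k with hy
  set z := c ^ 2 ^ (k + 1) with hz
  have hy4 : orderOf y = 2 ^ 2 := by
    rw [hy, orderOf_pow_of_dvd (by positivity) (hn ▸ pow_dvd_pow 2 (by omega)), hn,
      Nat.pow_div (by omega) two_pos, Nat.add_sub_cancel_left]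
  have hz2 : z ^ 2 = 1 := by rw [hz, ← pow_mul, ← pow_succ, ← hn, pow_orderOf_eq_one]
  have hz1 : z ≠ 1 := pow_ne_one_of_lt_orderOf (by positivity)
    (by rw [hn]; exact Nat.pow_lt_pow_right one_lt_two (by omega))
  have hzA : z ∈ zpowers c := pow_mem (mem_zpowers c) _
  have hcz : Commute c z := (Commute.refl c).pow_right _
  have : (zpowers y).Normal := normal_of_le_zpowers (zpowers_le.mpr (pow_mem (mem_zpowers c) _))
  have hyy : y ≠ y⁻¹ := H3.ne_inv_of_four hy4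
  by_contra hcon
  obtain ⟨t, ⟨ht, htS⟩, htA, ht2, htG⟩ := exists_mem_not_mem_pow_mem_top hG hcon
  have hty : t * y * t⁻¹ = y := mul_inv_eq_iff_eq_mul.mpr (ht y (mem_zpowers y)).symm
  have hk : ∀ w, t * c * t⁻¹ = c⁻¹ * w → w ^ 2 ^ k = 1 → Commute c w → False := fun w h1 h2 h3 =>
    hyy (by rw [hy, ← inv_pow, ← mul_one (c⁻¹ ^ _), ← h2, ← h3.inv_left.mul_pow, ← h1, conj_pow, hty])
  have hzk : 1 ≤ k → z ^ 2 ^ k = 1 := fun h1 => by
    obtain ⟨k, rfl⟩ := Nat.exists_eq_add_of_le' h1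
    rw [pow_succ', pow_mul, hz2, one_pow]
  rcases conj_cases hn (hAn.conj_mem c (mem_zpowers c) t)
    (commute_of_mem_zpowers ht2 (mem_zpowers c)) with h1 | h1 | h1 | h1
  · exact htA (hc t htS (mul_inv_eq_iff_eq_mul.mp h1))
  · exact hk 1 (by rwa [mul_one]) (one_pow _) (Commute.one_right c)
  swap
  · rcases Nat.eq_zero_or_pos k with rfl | h2
    · exact htA (hc t htS (mul_inv_eq_iff_eq_mul.mp
        (h1.trans (by rw [zero_add, pow_one, sq, inv_mul_cancel_left]))))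
    · exact hk z h1 (hzk h2) hcz
  rcases Nat.eq_zero_or_pos k with rfl | h2
  · exact htA (hc t htS (mul_inv_eq_iff_eq_mul.mp (by simpa [hy] using hty)))
  have hconj : ∀ s, s * c * s⁻¹ = c * z → ∀ i : ℤ, s * c ^ i * s⁻¹ = c ^ i * z ^ i :=
    fun s hs i => by rw [← conj_zpow, hs, hcz.mul_zpow]
  have heven : ∀ i : ℤ, z ^ i = 1 → ∃ j, i = 2 * j := fun i hi => by
    rw [← orderOf_dvd_iff_zpow_eq_one, orderOf_eq_prime hz2 hz1] at hi
    exact hi
  obtain ⟨s, hsS, hsA, hs2, hsc, hsG⟩ : ∃ s ∈ S, s ∉ zpowers c ∧ s ^ 2 = 1 ∧ s * c * s⁻¹ = c * z ∧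
      ∀ g, ⁅s, g⁆ ∈ zpowers c := by
    obtain ⟨j, hj⟩ := ht2
    simp only at hj
    obtain ⟨j, rfl⟩ := heven j (by
      have := hconj t h1 j
      rw [hj, show t * t ^ 2 * t⁻¹ = t ^ 2 by group] at this
      exact left_eq_mul.mp this)
    obtain ⟨i, hi⟩ : (t ^ 2)⁻¹ ∈ zpowers (c ^ 2 * z) := by
      have h3 : c ^ 2 ∈ zpowers (c ^ 2 * z) := by
        rw [hz, pow_succ' 2 k, pow_mul, ← pow_succ', mem_zpowers_pow_iff,
          orderOf_pow_of_dvd two_ne_zero (hn ▸ dvd_pow_self 2 (by omega)), hn,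
          show 2 ^ (k + 2) / 2 = 2 ^ (k + 1) by rw [pow_succ, Nat.mul_div_cancel _ two_pos]]
        exact Nat.Coprime.pow_right _ (Nat.coprime_two_right.mpr
          ((Nat.even_pow.mpr ⟨even_two, by omega⟩).add_one))
      rw [← hj, zpow_mul, zpow_ofNat]
      exact inv_mem (zpow_mem h3 j)
    simp only at hi
    refine ⟨t * c ^ i, mul_mem htS (zpow_mem hcS i),
      fun h => htA ((mul_mem_cancel_right (zpow_mem (mem_zpowers c) i)).mp h),
      ?_, by rw [← h1]; group, fun g => ?_⟩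
    · rw [show (t * c ^ i) ^ 2 = t * c ^ i * t⁻¹ * (t ^ 2 * c ^ i) by rw [sq, sq]; group,
        hconj t h1, ← hj, ← zpow_add, add_comm, zpow_add, hj, ← mul_assoc,
        mul_eq_one_iff_eq_inv, ← hi, (hcz.pow_left 2).mul_zpow, sq c, (Commute.refl c).mul_zpow,
        mul_assoc, mul_assoc, (hcz.zpow_zpow i i).eq]
    · rw [show ⁅t * c ^ i, g⁆ = t * ⁅c ^ i, g⁆ * t⁻¹ * ⁅t, g⁆ by
        simp only [commutatorElement_def]; group]
      exact mul_mem (hAn.conj_mem _ (commutator_le_left _ ⊤ (commutator_mem_commutator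
        (zpow_mem (mem_zpowers c) i) (mem_top g))) t) (htG g)
  have hzZ : zpowers z ≤ center G := by
    have : (zpowers z).Normal := normal_of_le_zpowers (zpowers_le.mpr hzA)
    exact le_center_of_card_eq_prime hG (by rw [Nat.card_zpowers, orderOf_eq_prime hz2 hz1])
  have : (zpowers z).Normal := normal_of_le_zpowers (zpowers_le.mpr hzA)
  have h3 : ∀ g, ⁅s, g⁆ ∈ zpowers z := fun g => by
    obtain ⟨i, hi⟩ := hsG g
    simp only at hi
    have h4 : c ^ i * c ^ i * z ^ i = 1 := by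
      rw [mul_assoc, ← hconj s hsc, hi, commutatorElement_def,
        inv_eq_of_mul_eq_one_right ((sq s).symm.trans hs2)]
      calc _ = s * (g * (s * (g⁻¹ * (s * s) * g) * s) * g⁻¹) * s := by group
        _ = 1 := by rw [← sq, hs2]; simp [← sq, hs2]
    have h5 : ((2 ^ (k + 2) : ℕ) : ℤ) ∣ 4 * i := by
      rw [← hn, orderOf_dvd_iff_zpow_eq_one, show 4 * i = (i + i) * 2 by ring, zpow_mul, zpow_add,
        eq_inv_of_mul_eq_one_left h4, inv_zpow, ← zpow_mul, mul_comm, zpow_mul, zpow_ofNat, hz2,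
        one_zpow, inv_one]
    obtain ⟨k, rfl⟩ := Nat.exists_eq_add_of_le' h2
    obtain ⟨r, hr⟩ := h5
    have h6 : i = 2 * (2 ^ k * r) := by
      push_cast at hr
      have : 4 * i = 4 * (2 * (2 ^ k * r)) := by rw [hr]; ring
      omega
    rw [show z ^ i = 1 by rw [h6, zpow_mul, zpow_ofNat, hz2, one_zpow], mul_one, ← sq] at h4
    rcases eq_one_or_eq_of_sq_eq_one hn (zpow_mem (mem_zpowers c) i) h4 with h7 | h7
    · rw [← hi, h7]; exact one_mem _
    · rw [← hi, h7]; exact mem_zpowers _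
  exact not_isCyclic_of_two_involutions (mem_sup_left (mem_zpowers z))
    (mem_sup_right (mem_zpowers s)) hz1 (fun h => hsA (h ▸ one_mem _)) hz2 hs2
    (fun h => hsA (h ▸ hzA)) (h _ (normal_sup_zpowers h3)
      (sup_le (zpowers_le.mpr (hAS hzA)) (zpowers_le.mpr hsS)) (isMulCommutative_sup_zpowers
      inferInstance (le_centralizer_iff.mp (hzZ.trans (center_le_centralizer _)) (mem_top s))))

end Cfsg.Agent.H3
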