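import Mathlib.NumberTheory.Cyclotomic.PrimitiveRoots
import Mathlib.FieldTheory.Finite.GaloisField
import Mathlib.FieldTheory.Finite.Basic
import Mathlib.FieldTheory.Normal.Basic
import Mathlib.FieldTheory.Galois.Basic

/-! The field `𝔽_p(ζ)`, `ζ` of prime order `q`: invariant alternating maps and simple modules. -/

set_option autoImplicit false

namespace Cfsg.Agent.H3.Sch

open Polynomial

/-- `F = 𝔽_p[ζ]` with `ζ` of order `q`. -/
structure Fld (p q : ℕ) {F : Type} [Field F] [Algebra (ZMod p) F] (ζ : Fˣ) : Prop where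
  ord : orderOf ζ = q
  surj : ∀ u : F, ∃ g : (ZMod p)[X], aeval (ζ : F) g = u

variable {p q : ℕ} [hp : Fact p.Prime] [hq : Fact q.Prime]

theorem exists_fld (hpq : p ≠ q) : ∃ (F : Type) (_ : Field F) (_ : Finite F)
    (_ : Algebra (ZMod p) F) (ζ : Fˣ), Fld p q ζ := by
  haveI : NeZero ((q : ℕ) : ZMod p) := ⟨by
    rw [Ne, ZMod.natCast_eq_zero_iff, Nat.prime_dvd_prime_iff_eq hp.out hq.out]; exact hpq⟩
  let F := CyclotomicField q (ZMod p)
  haveI : Module.Finite (ZMod p) F := IsCyclotomicExtension.finite {q} (ZMod p) F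
  have h := IsCyclotomicExtension.zeta_spec q (ZMod p) F
  refine ⟨F, inferInstance, Module.finite_of_finite (ZMod p), inferInstance,
    (h.isUnit hq.out.ne_zero).unit, ?_, fun u => ?_⟩
  · rw [← orderOf_units, IsUnit.unit_spec, ← h.eq_orderOf]
  · have h2 := IsCyclotomicExtension.adjoin_primitive_root_eq_top (A := ZMod p) h
    rw [Algebra.adjoin_singleton_eq_range_aeval] at h2
    exact (h2.ge Algebra.mem_top : u ∈ (aeval _).range)

variable {F : Type} [Field F] [Finite F] [Algebra (ZMod p) F] {ζ : Fˣ}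

namespace Fld

omit hq [Finite F] in
theorem ext (h : Fld p q ζ) {σ τ : F →ₐ[ZMod p] F} (e : σ ζ = τ ζ) : σ = τ := by
  ext u
  obtain ⟨g, rfl⟩ := h.surj u
  rw [← aeval_algHom_apply, ← aeval_algHom_apply, e]

omit [Finite F] in
theorem ne_one (h : Fld p q ζ) : ζ ≠ 1 := fun e =>
  hq.out.one_lt.ne' (by rw [← h.ord, e, orderOf_one])

omit [Finite F] in
theorem pow_eq_iff (h : Fld p q ζ) (m n : ℕ) :
    (ζ : F) ^ m = ζ ^ n ↔ (m : ZMod q) = n := by
  rw [← Units.val_pow_eq_pow_val, ← Units.val_pow_eq_pow_val, Units.val_inj, pow_eq_pow_iff_modEq,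
    h.ord, ZMod.natCast_eq_natCast_iff]

omit hq in
theorem frob_pow (n : ℕ) (x : F) :
    (FiniteField.frobeniusAlgHom (ZMod p) F ^ n) x = x ^ p ^ n := by
  rw [AlgHom.coe_pow, FiniteField.coe_frobeniusAlgHom, pow_iterate, ZMod.card]

theorem finrank_eq (h : Fld p q ζ) : Module.finrank (ZMod p) F = orderOf (p : ZMod q) := by
  rw [← FiniteField.orderOf_frobeniusAlgHom, orderOf_eq_orderOf_iff]
  intro n
  have e := h.pow_eq_iff (p ^ n) 1
  rw [pow_one, Nat.cast_pow, Nat.cast_one] at e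
  rw [← e]
  exact ⟨fun h1 => by rw [← frob_pow, h1, AlgHom.one_apply],
    fun h1 => h.ext (by rw [frob_pow, h1, AlgHom.one_apply])⟩

theorem card_eq (h : Fld p q ζ) : Nat.card F = p ^ orderOf (p : ZMod q) := by
  rw [← h.finrank_eq, Module.natCard_eq_pow_finrank (K := ZMod p), Nat.card_zmod]

theorem exists_sigma (h : Fld p q ζ) {m : ℕ} (hm : orderOf (p : ZMod q) = 2 * m) :
    ∃ σ : F →ₐ[ZMod p] F, σ ζ = (ζ⁻¹ : Fˣ) ∧
      ∀ (ε : F) (T : F →+ F), (∀ u, T u = u + ε * σ u) → p ^ m ≤ Nat.card T.range := by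
  have hm0 : 0 < m := by
    have := Module.finrank_pos (R := ZMod p) (M := F)
    rw [h.finrank_eq] at this; omega
  refine ⟨FiniteField.frobeniusAlgHom (ZMod p) F ^ m, ?_, fun ε T hT => ?_⟩
  · have h1 : (p : ZMod q) ^ m * p ^ m = 1 := by rw [← pow_add, ← two_mul, ← hm, pow_orderOf_eq_one]
    have h2 : (p : ZMod q) ^ m ≠ 1 := pow_ne_one_of_lt_orderOf hm0.ne' (by omega)
    have h3 := (h.pow_eq_iff (p ^ m + 1) 0).mpr (by
      simp [(mul_self_eq_one_iff.mp h1).resolve_left h2])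
    rw [pow_zero, pow_succ] at h3
    rw [frob_pow, Units.val_inv_eq_inv_val, eq_inv_of_mul_eq_one_left h3]
  · classical
    have := Fintype.ofFinite F
    have h1 : 1 < p ^ m := Nat.one_lt_pow hm0.ne' hp.out.one_lt
    have h2 : Nat.card T.ker ≤ p ^ m := by
      have := card_le_degree_of_subset_roots (p := (X + C ε * X ^ p ^ m : F[X]))
        (Z := Finset.univ.filter (· ∈ T.ker)) fun x hx => by
          rw [mem_roots', IsRoot]
          refine ⟨fun h => ?_, ?_⟩
          · simpa [coeff_X_pow, h1.ne] using congrArg (coeff · 1) h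
          · have := (Finset.mem_filter.mp hx).2
            rw [AddMonoidHom.mem_ker, hT, frob_pow] at this
            simpa using this
      rw [Nat.card_eq_fintype_card, Fintype.card_subtype]
      refine this.trans ((natDegree_add_le _ _).trans (max_le (natDegree_X_le.trans h1.le)
        ((natDegree_C_mul_le _ _).trans (natDegree_X_pow_le _))))
    have h3 := T.ker.card_eq_card_quotient_mul_card_addSubgroup
    rw [Nat.card_congr (QuotientAddGroup.quotientKerEquivRange T).toEquiv, h.card_eq, hm, two_mul,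
      pow_add] at h3
    by_contra h4
    exact (Nat.mul_lt_mul_of_lt_of_le (not_le.mp h4) h2 (by omega)).ne' h3

omit hq [Finite F] in
theorem induction (h : Fld p q ζ) {R : F → F → Prop} (h0 : R 0 0)
    (hadd : ∀ a b c d, R a b → R c d → R (a + c) (b + d))
    (hpow : ∀ i : ℕ, R (ζ ^ i) ((ζ⁻¹ : Fˣ) ^ i)) (g : (ZMod p)[X]) :
    R (aeval (ζ : F) g) (aeval ((ζ⁻¹ : Fˣ) : F) g) := by
  induction g using Polynomial.induction_on' with
  | add a b ha hb => rw [map_add, map_add]; exact hadd _ _ _ _ ha hb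
  | monomial i c =>
    obtain ⟨n, rfl⟩ := ZMod.natCast_zmod_surjective c
    simp only [aeval_monomial, map_natCast]
    induction n with
    | zero => simpa using h0
    | succ n ih => simpa [add_mul] using hadd _ _ _ _ ih (hpow i)

theorem beta (h : Fld p q ζ) {M : Type*} [AddCommGroup M] (β : F →+ F →+ M)
    (hinv : ∀ u v, β (ζ * u) (ζ * v) = β u v) (halt : ∀ u, β u u = 0) :
    (∀ u v, β u v ∈ (β 1).range) ∧ Nat.card F * Nat.card (β 1).range ≤
      p ^ (if orderOf (p : ZMod q) % 2 = 1 then orderOf (p : ZMod q)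
        else 3 * orderOf (p : ZMod q) / 2) := by
  have h1 : ∀ (i : ℕ) u v, β (ζ ^ i * u) (ζ ^ i * v) = β u v := fun i u v => by
    induction i with
    | zero => simp
    | succ i ih => rw [pow_succ', mul_assoc, mul_assoc, hinv, ih]
  have h2 : ∀ (g : (ZMod p)[X]) u,
      β (aeval (ζ : F) g) u = β 1 (aeval ((ζ⁻¹ : Fˣ) : F) g * u) := fun g =>
    h.induction (R := fun a b => ∀ u, β a u = β 1 (b * u)) (by simp)
      (fun a b c d h1 h2 u => by simp [h1, h2, add_mul])
      (fun i u => by rw [← h1 i 1, mul_one, ← mul_assoc, ← mul_pow]; simp) g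
  have h3 : ∀ u v, β u v + β v u = 0 := fun u v => by
    have := halt (u + v)
    simpa [halt, add_comm] using this
  have h4 : ∀ σ : F →ₐ[ZMod p] F, σ ζ = (ζ⁻¹ : Fˣ) → ∀ u, β u 1 = β 1 (σ u) := fun σ hσ u => by
    obtain ⟨g, rfl⟩ := h.surj u
    rw [h2, mul_one, ← aeval_algHom_apply σ, hσ]
  refine ⟨fun u v => ?_, ?_⟩
  · obtain ⟨g, rfl⟩ := h.surj u
    exact ⟨_, (h2 g v).symm⟩
  split_ifs with ha
  · suffices h5 : (β 1).range = ⊥ by rw [h5, AddSubgroup.card_bot, mul_one, h.card_eq]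
    rw [AddMonoidHom.range_eq_bot_iff]
    by_cases h5 : aeval ((ζ⁻¹ : Fˣ) : F) (minpoly (ZMod p) (ζ : F)) = 0
    · obtain ⟨σ, hσ⟩ := minpoly.exists_algEquiv_of_root' (Algebra.IsAlgebraic.isAlgebraic _) h5
      have h6 : σ * σ = 1 := AlgEquiv.coe_toAlgHom_injective (h.ext (by simp [hσ]))
      have h7 : σ = 1 := by
        have h8 := orderOf_dvd_natCard σ
        rw [IsGalois.card_aut_eq_finrank, h.finrank_eq] at h8
        exact orderOf_eq_one_iff.mp (Nat.eq_one_of_dvd_coprimes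
          (Nat.coprime_two_left.mpr (Nat.odd_iff.mpr ha))
          (orderOf_dvd_of_pow_eq_one ((sq σ).trans h6)) h8)
      have h8 : (ζ : F) = 1 ∨ (ζ : F) = -1 := mul_self_eq_one_iff.mp (by
        nth_rewrite 1 [show (ζ : F) = (ζ⁻¹ : Fˣ) by rw [← hσ, h7]; rfl]; simp)
      ext u
      obtain ⟨g, rfl⟩ := h.surj u
      exact h.induction (R := fun a _ => β 1 a = 0) (by simp)
        (fun a b c d h1 h2 => by simp [h1, h2]) (fun i => by
          rcases h8 with h8 | h8 <;> rw [h8]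
          · simp [halt]
          · rcases neg_one_pow_eq_or F i with h9 | h9 <;> simp [h9, halt]) g
    · ext u
      have := h2 (minpoly (ZMod p) (ζ : F)) ((aeval ((ζ⁻¹ : Fˣ) : F) (minpoly (ZMod p) (ζ : F)))⁻¹ * u)
      rw [minpoly.aeval, mul_inv_cancel_left₀ h5] at this
      simpa using this.symm
  · obtain ⟨m, hm⟩ : ∃ m, orderOf (p : ZMod q) = 2 * m := ⟨_, (Nat.two_mul_div_two_of_even
      (Nat.even_iff.mpr (by omega))).symm⟩
    obtain ⟨σ, hσ, h5⟩ := h.exists_sigma hm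
    have h6 := h5 1 (AddMonoidHom.id F + σ.toRingHom.toAddMonoidHom) (by simp)
    have h7 : (AddMonoidHom.id F + σ.toRingHom.toAddMonoidHom).range ≤ (β 1).ker := by
      rintro _ ⟨u, rfl⟩
      have := h3 1 u
      rw [h4 σ hσ] at this
      simpa using this
    have h8 := (β 1).ker.card_eq_card_quotient_mul_card_addSubgroup
    rw [Nat.card_congr (QuotientAddGroup.quotientKerEquivRange (β 1)).toEquiv, h.card_eq, hm,
      two_mul, pow_add] at h8
    have h9 : Nat.card (β 1).range ≤ p ^ m := by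
      by_contra h9
      exact (Nat.mul_lt_mul_of_lt_of_le (not_le.mp h9) (h6.trans (AddSubgroup.card_le_of_le h7))
        Nat.card_pos).ne h8
    rw [h.card_eq, hm, show 3 * (2 * m) / 2 = 2 * m + m by omega, pow_add]
    exact Nat.mul_le_mul_left _ h9

theorem simple (h : Fld p q ζ) {M : Type*} [AddCommGroup M] [Module (ZMod p) M]
    (Y : M →ₗ[ZMod p] M) (hY : Y ^ q = 1) (hY1 : Y ≠ 1)
    (hs : ∀ W : Submodule (ZMod p) M, (∀ w ∈ W, Y w ∈ W) → W = ⊥ ∨ W = ⊤) :
    ∃ ξ ∈ Subgroup.zpowers ζ, ξ ≠ 1 ∧ ∃ ψ : M ≃+ F, ∀ m, ψ (Y m) = ξ * ψ m := by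
  obtain ⟨v, hv⟩ : ∃ v, Y v ≠ v := by
    by_contra h1
    push Not at h1
    exact hY1 (LinearMap.ext h1)
  have hv0 : v ≠ 0 := by rintro rfl; simp at hv
  have hcomm : ∀ g : (ZMod p)[X], ∀ m, aeval Y g (Y m) = Y (aeval Y g m) := fun g m => by
    have := (Commute.all g X).map (aeval Y)
    rw [aeval_X] at this
    exact congrArg (· m) this.eq
  have hker : ∀ g : (ZMod p)[X], ∀ m, m ≠ 0 → aeval Y g m = 0 → aeval Y g = 0 := fun g m hm e =>
    LinearMap.ker_eq_top.mp ((hs (LinearMap.ker (aeval Y g)) fun w hw => by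
      rw [LinearMap.mem_ker, hcomm, hw, map_zero]).resolve_left fun h1 =>
        hm ((Submodule.eq_bot_iff _).mp h1 m e))
  have h0 : aeval Y (X ^ q - 1 : (ZMod p)[X]) = 0 := by simp [hY]
  have hint : IsIntegral (ZMod p) Y := ⟨X ^ q - 1, monic_X_pow_sub_C 1 hq.out.ne_zero, h0⟩
  haveI : Nontrivial (M →ₗ[ZMod p] M) := ⟨_, _, hY1⟩
  have hirr : Irreducible (minpoly (ZMod p) Y) := by
    refine Prime.irreducible ⟨minpoly.ne_zero hint, minpoly.not_isUnit _ _, fun a b hab => ?_⟩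
    rw [minpoly.dvd_iff, map_mul] at hab
    rw [minpoly.dvd_iff, minpoly.dvd_iff]
    by_cases hb : aeval Y b v = 0
    · exact Or.inr (hker b v hv0 hb)
    · exact Or.inl (hker a _ hb (congrArg (· v) hab))
  have hprim : IsPrimitiveRoot (ζ : F) q := by
    rw [← h.ord, ← orderOf_units]; exact IsPrimitiveRoot.orderOf _
  obtain ⟨x, hx⟩ : ∃ x : F, aeval x (minpoly (ZMod p) Y) = 0 := by
    have h1 := X_pow_sub_one_splits hprim
    have h2 : ((minpoly (ZMod p) Y).map (algebraMap (ZMod p) F)).Splits :=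
      h1.of_dvd (X_pow_sub_C_ne_zero hq.out.pos 1) (by
        simpa using Polynomial.map_dvd (algebraMap (ZMod p) F) (minpoly.dvd _ _ h0))
    obtain ⟨x, hx⟩ := h2.exists_eval_eq_zero (by
      rw [degree_map]; exact (minpoly.degree_pos hint).ne')
    exact ⟨x, by rwa [eval_map_algebraMap] at hx⟩
  have hmin := minpoly.eq_of_irreducible_of_monic hirr hx (minpoly.monic hint)
  have hiff : ∀ g : (ZMod p)[X], aeval Y g v = 0 ↔ aeval x g = 0 := fun g => by
    rw [← minpoly.dvd_iff, ← hmin, minpoly.dvd_iff]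
    exact ⟨hker g v hv0, fun e => by rw [e]; rfl⟩
  have hxq : x ^ q = 1 := by
    have := (hiff (X ^ q - 1)).mp (by rw [h0]; rfl)
    simpa [sub_eq_zero] using this
  have hx1 : x ≠ 1 := fun e => hv (by
    have := (hiff (X - 1)).mpr (by simp [e])
    simpa [sub_eq_zero] using this)
  haveI : NeZero q := ⟨hq.out.ne_zero⟩
  obtain ⟨i, -, rfl⟩ := hprim.eq_pow_of_pow_eq_one hxq
  have hi1 : ζ ^ i ≠ 1 := fun e => hx1 (by rw [← Units.val_pow_eq_pow_val, e, Units.val_one])
  let e1 : (ZMod p)[X] →ₗ[ZMod p] M := (LinearMap.applyₗ v).comp (aeval Y).toLinearMap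
  let e2 : (ZMod p)[X] →ₗ[ZMod p] F := (aeval ((ζ : F) ^ i)).toLinearMap
  have he1 : ∀ g, e1 g = aeval Y g v := fun _ => rfl
  have hs1 : Function.Surjective e1 := LinearMap.range_eq_top.mp
    ((hs (LinearMap.range e1) (by
      rintro _ ⟨g, rfl⟩
      exact ⟨X * g, by rw [he1, he1, map_mul, aeval_X]; rfl⟩)).resolve_left fun h1 =>
        hv0 ((Submodule.eq_bot_iff _).mp h1 v ⟨1, by rw [he1, map_one]; rfl⟩))
  have hs2 : Function.Surjective e2 := fun u => by
    obtain ⟨g, rfl⟩ := h.surj u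
    obtain ⟨k, hk⟩ := (mem_powers_iff_mem_zpowers.mpr (mem_zpowers_of_prime_card
      (G := Subgroup.zpowers ζ) (p := q) (by rw [Nat.card_zpowers, h.ord])
      (g := ⟨ζ ^ i, pow_mem (Subgroup.mem_zpowers ζ) i⟩) (g' := ⟨ζ, Subgroup.mem_zpowers ζ⟩)
      fun e => hi1 (congrArg Subtype.val e)))
    have hk' : ((ζ : F) ^ i) ^ k = ζ := by
      simpa using congrArg (fun x : Subgroup.zpowers ζ => ((x : Fˣ) : F)) hk
    exact ⟨g.comp (X ^ k), by simp [e2, aeval_comp, hk']⟩
  let ψ := (e1.quotKerEquivOfSurjective hs1).symm.trans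
    ((Submodule.quotEquivOfEq _ _ (Submodule.ext hiff)).trans (e2.quotKerEquivOfSurjective hs2))
  have hψ : ∀ g, ψ (e1 g) = e2 g := fun g => by
    simp only [ψ, LinearEquiv.trans_apply]
    rw [show (e1.quotKerEquivOfSurjective hs1).symm (e1 g) = Submodule.Quotient.mk g from
      (LinearEquiv.symm_apply_eq _).mpr rfl]
    rfl
  refine ⟨ζ ^ i, pow_mem (Subgroup.mem_zpowers ζ) i, hi1, ψ.toAddEquiv, fun m => ?_⟩
  obtain ⟨g, rfl⟩ := hs1 m
  have : Y (e1 g) = e1 (X * g) := by rw [he1, he1, map_mul, aeval_X]; rfl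
  change ψ _ = _ * ψ _
  rw [this, hψ, hψ]
  simp [e2]

end Fld

end Cfsg.Agent.H3.Sch
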