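import Cfsg.Agent.H3.SchA
import Cfsg.Agent.H1.Frobenius
import Cfsg.Agent.H1.ThompsonTransfer
import Cfsg.Agent.H2.Class2
import Cfsg.Agent.H2.PGroup
import Mathlib.GroupTheory.SemidirectProduct
import Mathlib.Algebra.Group.MinimalAxioms

/-! Minimal non-`p`-nilpotent groups as central extensions of `𝔽_p(ζ) ⋊ ⟨ζ⟩`. -/

set_option autoImplicit false

namespace Cfsg.Agent.H3.Sch

open Subgroup
open scoped commutatorElement

variable {F : Type} [Field F] {ζ : Fˣ}

/-- The affine group `F ⋊ ⟨ζ⟩`. -/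
@[ext] structure Aff (ζ : Fˣ) where
  u : F
  c : zpowers ζ

namespace Aff

instance : Mul (Aff ζ) := ⟨fun x y => ⟨x.u + (x.c : Fˣ) * y.u, x.c * y.c⟩⟩
instance : One (Aff ζ) := ⟨⟨0, 1⟩⟩
instance : Inv (Aff ζ) := ⟨fun x => ⟨-(((x.c : Fˣ)⁻¹ : Fˣ) * x.u), x.c⁻¹⟩⟩

@[simp] theorem mul_u (x y : Aff ζ) : (x * y).u = x.u + (x.c : Fˣ) * y.u := rfl
@[simp] theorem mul_c (x y : Aff ζ) : (x * y).c = x.c * y.c := rfl
@[simp] theorem one_u : (1 : Aff ζ).u = 0 := rfl
@[simp] theorem one_c : (1 : Aff ζ).c = 1 := rfl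
@[simp] theorem inv_u (x : Aff ζ) : x⁻¹.u = -(((x.c : Fˣ)⁻¹ : Fˣ) * x.u) := rfl
@[simp] theorem inv_c (x : Aff ζ) : x⁻¹.c = x.c⁻¹ := rfl

instance : Group (Aff ζ) := Group.ofLeftAxioms
  (fun x y z => Aff.ext (by simp; ring) (by simp [mul_assoc]))
  (fun x => Aff.ext (by simp) (by simp)) (fun x => Aff.ext (by simp) (by simp))

instance [Finite F] : Finite (Aff ζ) :=
  Finite.of_injective (fun x : Aff ζ => (x.u, x.c)) fun _ _ h =>
    Aff.ext (congrArg Prod.fst h) (congrArg Prod.snd h)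

/-- The linear part. -/
def lin : Aff ζ →* zpowers ζ := MonoidHom.mk' (·.c) fun _ _ => rfl

/-- The translations. -/
def tr : Multiplicative F →* Aff ζ := MonoidHom.mk' (fun u => ⟨u.toAdd, 1⟩) fun _ _ =>
  Aff.ext (by simp) (by simp)

/-- The scalings. -/
def sc : zpowers ζ →* Aff ζ := MonoidHom.mk' (fun c => ⟨0, c⟩) fun _ _ =>
  Aff.ext (by simp) (by simp)

@[simp] theorem lin_apply (x : Aff ζ) : lin x = x.c := rfl
@[simp] theorem tr_u (u : Multiplicative F) : (tr u : Aff ζ).u = u.toAdd := rfl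
@[simp] theorem tr_c (u : Multiplicative F) : (tr u : Aff ζ).c = 1 := rfl
@[simp] theorem sc_u (c : zpowers ζ) : (sc c).u = 0 := rfl
@[simp] theorem sc_c (c : zpowers ζ) : (sc c).c = c := rfl

theorem tr_mul_sc (x : Aff ζ) : tr (Multiplicative.ofAdd x.u) * sc x.c = x :=
  Aff.ext (by simp) (by simp)

/-- The distinguished generator. -/
def y0 (ζ : Fˣ) : Aff ζ := sc ⟨ζ, mem_zpowers ζ⟩

theorem sc_mem (c : zpowers ζ) : sc c ∈ zpowers (y0 ζ) := by
  obtain ⟨_, i, rfl⟩ := c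
  exact ⟨i, (map_zpow (sc (ζ := ζ)) ⟨ζ, mem_zpowers ζ⟩ i).symm⟩

theorem commutator_eq (hζ : ζ ≠ 1) (u : F) :
    ⁅(tr (Multiplicative.ofAdd ((1 - (ζ : F))⁻¹ * u)) : Aff ζ), y0 ζ⁆ = tr (Multiplicative.ofAdd u) := by
  have : 1 - (ζ : F) ≠ 0 := sub_ne_zero.mpr fun h => hζ (Units.val_eq_one.mp h.symm)
  refine Aff.ext ?_ (by simp [commutatorElement_def])
  simp [commutatorElement_def, y0]
  field_simp
  ring

theorem normalClosure_y0 (hζ : ζ ≠ 1) : normalClosure {y0 ζ} = ⊤ := by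
  have h1 : y0 ζ ∈ normalClosure {y0 ζ} := subset_normalClosure rfl
  rw [eq_top_iff]
  intro x _
  rw [← tr_mul_sc x, ← commutator_eq hζ]
  exact mul_mem (mul_mem (normalClosure_normal.conj_mem _ h1 _) (inv_mem h1))
    (zpowers_le.mpr h1 (sc_mem _))

end Aff

open Aff

variable {p q : ℕ} [hp : Fact p.Prime] [hq : Fact q.Prime] [Finite F] [Algebra (ZMod p) F]

omit [Finite F] in
theorem Fld.comm_of_ne_top (h : Fld p q ζ) {K : Subgroup (Aff ζ)} (hK : K ≠ ⊤) :
    IsMulCommutative K := by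
  by_cases h1 : ∀ x ∈ K, x.c = 1
  · exact ⟨⟨fun x y => Subtype.ext (Aff.ext (by simp [h1 x x.2, h1 y y.2, add_comm])
      (by simp [mul_comm]))⟩⟩
  push Not at h1
  obtain ⟨x, hx, hx1⟩ := h1
  obtain ⟨y, hy, hyc⟩ : ∃ y ∈ K, y.c = ⟨ζ, mem_zpowers ζ⟩ := by
    obtain ⟨i, hi⟩ := mem_zpowers_of_prime_card (G := zpowers ζ) (p := q)
      (by rw [Nat.card_zpowers, h.ord]) (g' := ⟨ζ, mem_zpowers ζ⟩) hx1
    exact ⟨x ^ i, zpow_mem hx i, (map_zpow lin x i).trans hi⟩
  have h2 : ∀ w : F, tr (Multiplicative.ofAdd w) ∈ K → w = 0 := fun w hw => by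
    by_contra hw0
    have h3 : ∀ u : F, tr (Multiplicative.ofAdd u) ∈ K := fun u => by
      obtain ⟨g, hg⟩ := h.surj (u * w⁻¹)
      have := h.induction (R := fun a _ => tr (Multiplicative.ofAdd (a * w)) ∈ K) (by simp)
        (fun a b c d h1 h2 => by rw [add_mul, ofAdd_add, map_mul]; exact mul_mem h1 h2)
        (fun i => by
          induction i with
          | zero => simpa using hw
          | succ i ih =>
            convert mul_mem (mul_mem hy ih) (inv_mem hy) using 1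
            exact Aff.ext (by simp [hyc]; ring) (by simp)) g
      rwa [hg, inv_mul_cancel_right₀ hw0] at this
    have h4 : y0 ζ ∈ K := by
      rw [← tr_mul_sc y, hyc] at hy
      exact (mul_mem_cancel_left (h3 _)).mp hy
    exact hK (eq_top_iff.mpr fun z _ => tr_mul_sc z ▸ mul_mem (h3 _) (zpowers_le.mpr h4 (sc_mem _)))
  refine ⟨⟨fun a b => Subtype.ext (commutatorElement_eq_one_iff_mul_comm.mp ?_)⟩⟩
  have h3 : ⁅(a : Aff ζ), (b : Aff ζ)⁆ ∈ K :=
    mul_mem (mul_mem (mul_mem a.2 b.2) (inv_mem a.2)) (inv_mem b.2)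
  have h4 : ⁅(a : Aff ζ), (b : Aff ζ)⁆.c = 1 := by simp [commutatorElement_def]
  rw [← tr_mul_sc ⁅(a : Aff ζ), (b : Aff ζ)⁆, h4, map_one, mul_one] at h3 ⊢
  rw [h2 _ h3, ofAdd_zero, map_one]

theorem Fld.not_comp (h : Fld p q ζ) (hpq : p ≠ q) : ¬ HasNormalPComplement p (Aff ζ) := fun h1 => by
  have h2 := H1.mem_centralizer_of_hasNormalPComplement (H1.hasNormalPComplement_top_iff.mpr h1)
    (Q := (lin (ζ := ζ)).ker) (fun x => ⟨1, Subtype.ext (by
      have h3 : (x : Aff ζ).c = 1 := x.2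
      rw [coe_pow, ← tr_mul_sc (x : Aff ζ), h3, map_one, mul_one, ← map_pow, ← ofAdd_nsmul,
        pow_one, nsmul_eq_mul, ← map_natCast (algebraMap (ZMod p) F), ZMod.natCast_self]
      simp)⟩) le_top (g := y0 ζ) (H1.mem_pResidualOf (mem_top _)
      (((Nat.coprime_primes hq.out hp.out).mpr hpq.symm).coprime_dvd_left
        ((orderOf_map_dvd _ _).trans (by rw [orderOf_mk, h.ord]))))
    (by rw [normalizer_eq_top]; trivial)
  have h3 := congrArg Aff.u (h2 (tr (Multiplicative.ofAdd 1)) rfl)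
  exact h.ne_one (by simpa [y0] using h3.symm)

theorem Fld.simple_grp (h : Fld p q ζ) {V : Type*} [CommGroup V] (hexp : ∀ v : V, v ^ p = 1)
    (α : MulAut V) (h1 : α ^ q = 1) (h2 : α ≠ 1)
    (hs : ∀ W : Subgroup V, (∀ w ∈ W, α w ∈ W) → W = ⊥ ∨ W = ⊤) :
    ∃ ξ ∈ zpowers ζ, ξ ≠ 1 ∧ ∃ ψ : V ≃* Multiplicative F,
      ∀ v, (ψ (α v)).toAdd = ξ * (ψ v).toAdd := by
  haveI : Module (ZMod p) (Additive V) := AddCommGroup.zmodModule fun a => hexp a.toMul
  let Y : Additive V →ₗ[ZMod p] Additive V :=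
    (MonoidHom.toAdditive α.toMonoidHom).toZModLinearMap p
  have hY : ∀ (n : ℕ) (v : V), (Y ^ n) (Additive.ofMul v) = Additive.ofMul ((α ^ n) v) :=
    fun n v => by
      induction n with
      | zero => simp
      | succ n ih => rw [pow_succ', Module.End.mul_apply, ih, pow_succ', MulAut.mul_apply]; rfl
  obtain ⟨ξ, hξ, hξ1, ψ, hψ⟩ := h.simple Y (LinearMap.ext fun a => by
      rw [← ofMul_toMul a, hY, h1]; rfl)
    (fun e => h2 (MulEquiv.ext fun v => congrArg (· (Additive.ofMul v)) e)) fun W hW =>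
      (hs W.toAddSubgroup.toSubgroup' hW).imp
        (fun e => (Submodule.eq_bot_iff _).mpr fun a ha => (eq_bot_iff_forall _).mp e a.toMul ha)
        fun e => eq_top_iff.mpr fun a _ => e.ge (mem_top a.toMul)
  exact ⟨ξ, hξ, hξ1, AddEquiv.toMultiplicativeRight ψ, fun v => hψ (Additive.ofMul v)⟩

section Struct

variable {X : Type*} [Group X] [Finite X]

/-- Minimal non-`p`-nilpotent. -/
abbrev Mn (p : ℕ) (X : Type*) [Group X] : Prop :=
  ¬ HasNormalPComplement p X ∧ ∀ K : Subgroup X, K ≠ ⊤ → HasNormalPComplement p K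

theorem Mn.cent (h : Mn p X) {x : X} (hx : (orderOf x).Coprime p) {W : Subgroup X}
    (hW : IsPGroup p W) (hn : x ∈ normalizer (W : Set X)) (hne : W ⊔ zpowers x ≠ ⊤) :
    x ∈ centralizer (W : Set X) :=
  H1.mem_centralizer_of_hasNormalPComplement (h.2 _ hne) hW le_sup_left
    (H1.mem_pResidualOf (mem_sup_right (mem_zpowers x)) hx) hn

theorem Mn.struct (h : Mn p X) : ∃ D : Subgroup X, D.Normal ∧ IsPGroup p D ∧ ∃ s : ℕ, s.Prime ∧
    s ≠ p ∧ ∃ g k, orderOf g = s ^ k ∧ D ⊔ zpowers g = ⊤ ∧ g ∉ centralizer (D : Set X) := by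
  obtain ⟨D, -, hD, s, hs, hsp, g, -, ⟨k, hk⟩, hgN, hgC⟩ := H1.exists_of_not_hasNormalPComplement
    (mt H1.hasNormalPComplement_top_iff.1 h.1)
  obtain ⟨k, -, hk⟩ := (Nat.dvd_prime_pow hs).mp (orderOf_dvd_of_pow_eq_one hk)
  have htop : D ⊔ zpowers g = ⊤ := by
    by_contra h1
    exact hgC (h.cent (hk ▸ ((Nat.coprime_primes hs hp.out).2 hsp).pow_left k) hD hgN h1)
  exact ⟨D, normalizer_eq_top_iff.1 (eq_top_iff.2
    (htop ▸ sup_le le_normalizer (zpowers_le.2 hgN))), hD, s, hs, hsp, g, k, hk, htop, hgC⟩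

theorem isComplement_of {D : Subgroup X} [D.Normal] (hD : IsPGroup p D) {g : X}
    (hg : (orderOf g).Coprime p) (h : D ⊔ zpowers g = ⊤) : D.IsComplement' (zpowers g) := by
  obtain ⟨n, hn⟩ := hD.exists_card_eq
  refine isComplement'_of_disjoint_and_mul_eq_univ (disjoint_of_coprime_natCard ?_) ?_
  · rw [hn, Nat.card_zpowers]; exact hg.symm.pow_left n
  · rw [← normal_mul, h, coe_top]

omit [Finite X] in
theorem commutator_le_of_sup {D : Subgroup X} [D.Normal] {g : X} (h : D ⊔ zpowers g = ⊤) :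
    commutator X ≤ D := by
  rw [← Normal.quotient_commutative_iff_commutator_le]
  haveI : IsCyclic (X ⧸ D) := ⟨⟨(g : X ⧸ D), fun x => by
    obtain ⟨x, rfl⟩ := QuotientGroup.mk_surjective x
    obtain ⟨d, hd, _, ⟨i, rfl⟩, rfl⟩ := H1.mem_normal_sup_iff.mp (h.ge (mem_top x))
    exact ⟨i, by simp [(QuotientGroup.eq_one_iff d).mpr hd]⟩⟩⟩
  infer_instance

/-- A central extension of the affine group generated by the conjugates of `y`. -/
structure Sc (n : ℕ) (θ : X →* Aff ζ) (y : X) : Prop where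
  surj : Function.Surjective θ
  ker : θ.ker ≤ center X
  ord : orderOf y = n
  map : θ y = y0 ζ
  ncl : normalClosure {y} = ⊤

variable {θ : X →* Aff ζ} {y : X} {r : ℕ}

omit [Finite F] [Finite X] in
theorem Sc.sup {n : ℕ} (h : Sc n θ y) : commutator X ⊔ zpowers y = ⊤ := by
  haveI : (commutator X ⊔ zpowers y).Normal := Normal.of_commutator_le _ le_sup_left
  exact eq_top_iff.mpr (h.ncl ▸ normalClosure_le_normal
    (Set.singleton_subset_iff.mpr (mem_sup_right (mem_zpowers y))))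

omit [Finite F] [Finite X] in
theorem exists_mul_center (hker : θ.ker ≤ center X) {K : Subgroup X} (hK : K.map θ = ⊤) (x : X) :
    ∃ k ∈ K, ∃ z ∈ center X, x = k * z := by
  obtain ⟨k, hk, e⟩ := hK.ge (mem_top (θ x))
  exact ⟨k, hk, k⁻¹ * x, hker (by simp [MonoidHom.mem_ker, e]), by group⟩

omit [Finite F] in
theorem Sc.eq_top (h : Sc (q ^ r) θ y) (hF : Fld p q ζ) {K : Subgroup X} (hK : K.map θ = ⊤) :
    K = ⊤ := by
  have h1 : commutator X ≤ K := commutator_le.mpr fun a _ b _ => by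
    obtain ⟨a, ha, z, hz, rfl⟩ := exists_mul_center h.ker hK a
    obtain ⟨b, hb, w, hw, rfl⟩ := exists_mul_center h.ker hK b
    convert mul_mem (mul_mem (mul_mem ha hb) (inv_mem ha)) (inv_mem hb) using 1
    calc ⁅a * z, b * w⁆ = a * (z * (b * w)) * z⁻¹ * (a⁻¹ * w⁻¹) * b⁻¹ := by group
      _ = _ := by rw [← mem_center_iff.mp hz, mem_center_iff.mp (inv_mem hw) a⁻¹]; group
  obtain ⟨k, hk, e⟩ := hK.ge (mem_top (y0 ζ))
  obtain ⟨d, hd, _, ⟨i, rfl⟩, rfl⟩ := H1.mem_normal_sup_iff.mp (h.sup.ge (mem_top k))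
  have h2 : (lin.comp θ) d = 1 := Abelianization.commutator_subset_ker _ hd
  have h3 : ζ ^ i = ζ ^ (1 : ℤ) := by
    have := congrArg lin e
    rw [map_mul, map_mul, map_zpow, map_zpow, h.map, ← MonoidHom.comp_apply, h2, one_mul] at this
    simpa [y0] using congrArg Subtype.val this
  rw [zpow_eq_zpow_iff_modEq, hF.ord] at h3
  have h4 : y ∈ zpowers (y ^ i) := by
    rw [mem_zpowers_zpow_iff, h.ord, ← Int.isCoprime_iff_gcd_eq_one, Nat.cast_pow]
    obtain ⟨c, hc⟩ := h3.dvd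
    exact IsCoprime.pow_right ⟨1, c, by linarith⟩
  exact eq_top_iff.mpr (h.sup ▸ sup_le h1 (zpowers_le.mpr
    (zpowers_le.mpr ((mul_mem_cancel_left (h1 hd)).mp hk) h4)))

open scoped IsMulCommutative in
theorem Sc.mn (h : Sc (q ^ r) θ y) (hF : Fld p q ζ) (hpq : p ≠ q) : Mn p X := by
  refine ⟨fun h1 => hF.not_comp hpq (H1.hasNormalPComplement_of_surjective θ h.surj h1),
    fun K hK => ?_⟩
  haveI := hF.comm_of_ne_top (mt (h.eq_top hF) hK)
  haveI : Group.IsNilpotent K := Subgroup.isNilpotent_of_ker_le_center (θ.subgroupMap K) (fun x hx =>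
    mem_center_iff.mpr fun g => Subtype.ext (mem_center_iff.mp
      (h.ker (congrArg Subtype.val hx)) g))
  exact H1.hasNormalPComplement_of_isNilpotent

theorem Sc.isPGroup (h : Sc (q ^ r) θ y) (hF : Fld p q ζ) (hpq : p ≠ q) :
    IsPGroup p (commutator X) := by
  obtain ⟨D, _, hD, -, -, -, g, -, -, hg, -⟩ := (h.mn hF hpq).struct
  exact hD.to_le (commutator_le_of_sup hg)

theorem Sc.compl (h : Sc (q ^ r) θ y) (hF : Fld p q ζ) (hpq : p ≠ q) :
    (commutator X).IsComplement' (zpowers y) :=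
  isComplement_of (h.isPGroup hF hpq)
    (h.ord ▸ ((Nat.coprime_primes hq.out hp.out).mpr hpq.symm).pow_left r) h.sup

omit [Finite F] [Finite X] in
theorem Sc.exists_lift {n : ℕ} (h : Sc n θ y) (hF : Fld p q ζ) (u : F) :
    ∃ x ∈ commutator X, θ x = tr (Multiplicative.ofAdd u) := by
  obtain ⟨x, hx⟩ := h.surj (tr (Multiplicative.ofAdd ((1 - (ζ : F))⁻¹ * u)))
  exact ⟨⁅x, y⁆, commutator_mem_commutator (mem_top _) (mem_top _), by
    rw [map_commutatorElement, hx, h.map, commutator_eq hF.ne_one]⟩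

omit [Finite F] [Finite X] in
theorem eq_tr_of_mem {x : X} (hx : x ∈ commutator X) : θ x = tr (Multiplicative.ofAdd (θ x).u) := by
  have h2 : (θ x).c = 1 := Abelianization.commutator_subset_ker (lin.comp θ) hx
  nth_rewrite 1 [← tr_mul_sc (θ x), h2, map_one, mul_one]; rfl

theorem Sc.card (h : Sc (q ^ r) θ y) (hF : Fld p q ζ) (hpq : p ≠ q) :
    Nat.card X = Nat.card F * Nat.card (θ.ker ⊓ commutator X : Subgroup X) * q ^ r := by
  have h1 : (commutator X).map θ = tr.range := by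
    refine le_antisymm ?_ ?_
    · rintro _ ⟨x, hx, rfl⟩
      exact ⟨_, (eq_tr_of_mem hx).symm⟩
    · rintro _ ⟨u, rfl⟩
      exact h.exists_lift hF u.toAdd
  have h2 : Nat.card (tr (ζ := ζ)).range = Nat.card F :=
    (Nat.card_congr (MonoidHom.ofInjective fun a b e => congrArg Aff.u e).toEquiv).symm
  rw [← (h.compl hF hpq).card_mul_card, Nat.card_zpowers, h.ord, ← h2, ← h1, ← relIndex_ker,
    ← inf_relIndex_right, mul_comm (relIndex _ _), H2.card_mul_relIndex inf_le_right]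

open scoped IsMulCommutative in
theorem Sc.card_le (h : Sc (q ^ r) θ y) (hF : Fld p q ζ) (hpq : p ≠ q) :
    Nat.card X ≤ p ^ (if orderOf (p : ZMod q) % 2 = 1 then orderOf (p : ZMod q)
        else 3 * orderOf (p : ZMod q) / 2) * q ^ r := by
  choose s hs1 hs2 using h.exists_lift hF
  have hcen : ∀ x ∈ commutator X, ∀ x' ∈ commutator X, ⁅x, x'⁆ ∈ center X := fun x hx x' hx' =>
    h.ker (by
      rw [MonoidHom.mem_ker, map_commutatorElement, eq_tr_of_mem hx, eq_tr_of_mem hx',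
        ← map_commutatorElement, commutatorElement_eq_one_iff_mul_comm.mpr (mul_comm _ _), map_one])
  have hwd : ∀ x x' u v, θ x = tr (Multiplicative.ofAdd u) → θ x' = tr (Multiplicative.ofAdd v) →
      ⁅x, x'⁆ = ⁅s u, s v⁆ := fun x x' u v e1 e2 => by
    have hz : (s u)⁻¹ * x ∈ center X := h.ker (by simp [MonoidHom.mem_ker, e1, hs2])
    have hw : (s v)⁻¹ * x' ∈ center X := h.ker (by simp [MonoidHom.mem_ker, e2, hs2])
    rw [← mul_inv_cancel_left (s u) x, ← mul_inv_cancel_left (s v) x']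
    generalize (s u)⁻¹ * x = z at hz
    generalize (s v)⁻¹ * x' = w at hw
    calc ⁅s u * z, s v * w⁆ = s u * (z * (s v * w)) * z⁻¹ * ((s u)⁻¹ * w⁻¹) * (s v)⁻¹ := by group
      _ = _ := by rw [← mem_center_iff.mp hz, mem_center_iff.mp (inv_mem hw) (s u)⁻¹]; group
  have hc : ∀ g u v, Commute g ⁅s u, s v⁆ := fun g u v =>
    mem_center_iff.mp (hcen _ (hs1 u) _ (hs1 v)) g
  let β : F →+ F →+ Additive (center X) := AddMonoidHom.mk' (fun u => AddMonoidHom.mk'
    (fun v => Additive.ofMul ⟨⁅s u, s v⁆, hcen _ (hs1 u) _ (hs1 v)⟩) fun v v' => Subtype.ext (by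
      change ⁅s u, s (v + v')⁆ = ⁅s u, s v⁆ * ⁅s u, s v'⁆
      rw [← H2.commutator_mul_right_of_commute (hc _ _ _)]
      exact (hwd _ _ _ _ (hs2 u) (by rw [map_mul, hs2, hs2, ← map_mul]; rfl)).symm))
    fun u u' => AddMonoidHom.ext fun v => Subtype.ext (by
      change ⁅s (u + u'), s v⁆ = ⁅s u, s v⁆ * ⁅s u', s v⁆
      rw [← H2.commutator_mul_left_of_commute (hc _ _ _)]
      exact (hwd _ _ _ _ (by rw [map_mul, hs2, hs2, ← map_mul, mul_comm]; rfl) (hs2 v)).symm)
  have hy : ∀ u, θ (y * s u * y⁻¹) = tr (Multiplicative.ofAdd (ζ * u)) := fun u => by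
    rw [map_mul, map_mul, map_inv, hs2, h.map]
    exact Aff.ext (by simp [y0]) (by simp)
  obtain ⟨h1, h2⟩ := hF.beta β (fun u v => Subtype.ext (by
    change ⁅s _, s _⁆ = ⁅s u, s v⁆
    rw [← hwd _ _ _ _ (hy u) (hy v), ← conjugate_commutatorElement, (hc y u v).eq,
      mul_inv_cancel_right])) fun u => Subtype.ext (commutatorElement_self _)
  rw [h.card hF hpq]
  refine Nat.mul_le_mul_right _ (le_trans (Nat.mul_le_mul_left _ ?_) h2)
  have h3 : ¬ p ∣ (commutator X).index := by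
    rw [(h.compl hF hpq).symm.index_eq_card, Nat.card_zpowers, h.ord]
    exact fun e => hpq ((Nat.prime_dvd_prime_iff_eq hp.out hq.out).mp (hp.out.dvd_of_dvd_pow e))
  have h4 := H1.center_inf_commutator_inf_sylow_le ((h.isPGroup hF hpq).toSylow h3)
  have h5 : θ.ker ⊓ commutator X ≤ ((β 1).range.toSubgroup').map (center X).subtype := by
    refine (le_inf (inf_le_inf_right _ h.ker) inf_le_right).trans (h4.trans
      (commutator_le.mpr fun a ha b hb => ?_))
    exact ⟨_, h1 (θ a).u (θ b).u, (hwd _ _ _ _ (eq_tr_of_mem ha) (eq_tr_of_mem hb)).symm⟩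
  refine (card_le_of_le h5).trans ?_
  rw [card_map_of_injective (center X).subtype_injective]
  rfl

omit [Finite F] [Finite X] in
theorem exists_sc (hζ : ζ ≠ 1) (hs : Function.Surjective θ) (hk : θ.ker ≤ center X)
    (hy : θ y = y0 ζ) : Sc (orderOf y) (θ.comp (normalClosure {y}).subtype)
      ⟨y, subset_normalClosure rfl⟩ := by
  have h1 : (normalClosure {y}).map θ = ⊤ := by
    rw [map_normalClosure _ _ hs, Set.image_singleton, hy, normalClosure_y0 hζ]
  refine ⟨fun a => ?_, fun x hx => mem_center_iff.mpr fun g => Subtype.ext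
    (mem_center_iff.mp (hk hx) g), orderOf_mk _ _, hy, ?_⟩
  · obtain ⟨x, hx, rfl⟩ := h1.ge (mem_top a)
    exact ⟨⟨x, hx⟩, rfl⟩
  · set N := normalClosure {(⟨y, subset_normalClosure rfl⟩ : normalClosure {y})}
    haveI : (N.map (normalClosure {y}).subtype).Normal := ⟨by
      rintro _ ⟨n, hn, rfl⟩ g
      obtain ⟨d, hd, z, hz, rfl⟩ := exists_mul_center hk h1 g
      refine ⟨_, normalClosure_normal.conj_mem n hn ⟨d, hd⟩, ?_⟩
      simp only [coe_subtype, coe_mul, coe_inv]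
      rw [mul_assoc d z, ← mem_center_iff.mp hz]; group⟩
    refine eq_top_iff.mpr fun x _ => ?_
    obtain ⟨x', hx', e⟩ := normalClosure_le_normal (N := N.map (normalClosure {y}).subtype)
      (Set.singleton_subset_iff.mpr ⟨_, subset_normalClosure rfl, rfl⟩) x.2
    exact Subtype.ext e ▸ hx'

theorem Mn.exists_sc (h : Mn p X) (hF : Fld p q ζ) (hpq : p ≠ q) (hr : 1 ≤ r) {t : ℕ}
    (hc : Nat.card X = p ^ t * q ^ r) : ∃ (θ : X →* Aff ζ) (y : X), Sc (q ^ r) θ y := by
  obtain ⟨D, _, hD, s, hs, hsp, g, k, hk, htop, hgC⟩ := h.struct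
  have hcop : ∀ x ∈ zpowers g, (orderOf x).Coprime p := fun x hx =>
    (((Nat.coprime_primes hs hp.out).2 hsp).pow_left k).coprime_dvd_left
      (hk ▸ orderOf_dvd_of_mem_zpowers hx)
  have hcompl := isComplement_of hD (hcop g (mem_zpowers g)) htop
  have hord : orderOf g = q ^ r := by
    obtain ⟨n, hn⟩ := hD.exists_card_eq
    have h1 := hcompl.card_mul_card
    rw [hn, Nat.card_zpowers, hc] at h1
    refine Nat.dvd_antisymm (((hcop g (mem_zpowers g)).pow_right t).dvd_of_dvd_mul_left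
      (h1 ▸ dvd_mul_left _ _)) ((((Nat.coprime_primes hq.out hp.out).mpr hpq.symm).pow
        r n).dvd_of_dvd_mul_left (h1 ▸ dvd_mul_left _ _))
  have hncl : normalClosure {g} = ⊤ := by
    by_contra h1
    refine hgC fun d hd => ?_
    have h2 : g ∈ H1.pResidualOf p (normalClosure {g}) :=
      H1.mem_pResidualOf (subset_normalClosure rfl) (hcop g (mem_zpowers g))
    have h3 := mul_mem (H1.conj_mem_of_mem_normalizer (H1.normalizer_le_normalizer_pResidualOf _
      (le_normalizer_of_normal (mem_top d))) h2) (inv_mem h2)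
    obtain ⟨j, hj⟩ := H1.isPGroup_iff_mem.mp hD (d * g * d⁻¹ * g⁻¹) (by
      simpa only [mul_assoc] using mul_mem hd (‹D.Normal›.conj_mem _ (inv_mem hd) g))
    exact commutatorElement_eq_one_iff_mul_comm.mp (H1.eq_one_of_pow_of_coprime hj
      (H1.hasNormalPComplement_subgroup_iff.mp (h.2 _ h1) _ h3))
  have hcen : ∀ W : Subgroup X, W.Normal → W < D → W ≤ center X := fun W _ hW => by
    have h1 : g ∈ centralizer (W : Set X) := h.cent (hcop g (mem_zpowers g)) (hD.to_le hW.le)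
      (le_normalizer_of_normal (mem_top g)) fun e => hW.not_ge fun d hd => by
        obtain ⟨w, hw, x, hx, rfl⟩ := H1.mem_normal_sup_iff.mp (e.ge (mem_top d))
        have : x ∈ D ⊓ zpowers g := ⟨(mul_mem_cancel_left (hW.le hw)).mp hd, hx⟩
        rw [hcompl.disjoint.eq_bot, mem_bot] at this
        rwa [this, mul_one]
    have h2 : ⊤ ≤ centralizer (W : Set X) :=
      hncl ▸ normalClosure_le_normal (Set.singleton_subset_iff.mpr h1)
    exact fun w hw => mem_center_iff.mpr fun x => (h2 (mem_top x) w hw).symm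
  have hgq : g ^ q ∈ center X := by
    have h1 : g ^ q ∈ centralizer (D : Set X) := h.cent (hcop _ (pow_mem (mem_zpowers g) q)) hD
      (le_normalizer_of_normal (mem_top _)) fun e => by
        obtain ⟨w, hw, x, hx, e⟩ := H1.mem_normal_sup_iff.mp (e.ge (mem_top g))
        have h2 := zpowers_le.mpr (pow_mem (mem_zpowers g) q) hx
        have : w ∈ D ⊓ zpowers g := ⟨hw, (mul_mem_cancel_right h2).mp (e ▸ mem_zpowers g)⟩
        rw [hcompl.disjoint.eq_bot, mem_bot] at this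
        rw [this, one_mul] at e
        rw [← e, mem_zpowers_pow_iff, hord] at hx
        exact hq.out.one_lt.ne' ((Nat.gcd_eq_left (dvd_pow_self q (by omega))).symm.trans hx)
    refine mem_center_iff.mpr fun x => ?_
    obtain ⟨w, hw, _, ⟨i, rfl⟩, rfl⟩ := H1.mem_normal_sup_iff.mp (htop.ge (mem_top x))
    exact (show Commute w (g ^ q) from h1 w hw).mul_left ((Commute.refl g).zpow_left i |>.pow_right q)
  haveI : Nontrivial D := (nontrivial_iff_ne_bot D).mpr (by
    rintro rfl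
    exact hgC fun x hx => by rw [mem_bot.mp hx, one_mul, mul_one])
  have hΦ : (frattini D).map D.subtype ≤ center X := hcen _ inferInstance
    (lt_of_le_of_ne (map_subtype_le _) fun e => H2.frattini_lt_top.ne
      (map_injective D.subtype_injective (by rw [e, ← MonoidHom.range_eq_map, range_subtype])))
  let π := QuotientGroup.mk' (center X)
  have hπ : ∀ x, π x = 1 ↔ x ∈ center X := fun x => QuotientGroup.eq_one_iff x
  haveI : (D.map π).Normal := Normal.map inferInstance _ (QuotientGroup.mk'_surjective _)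
  let ρ : D →* D.map π := π.subgroupMap D
  have hρ : Function.Surjective ρ := π.subgroupMap_surjective D
  have hρ1 : ∀ d : D, ρ d = 1 ↔ (d : X) ∈ center X := fun d => by
    rw [← hπ]; exact Subtype.ext_iff
  have hcomm : ∀ a b : D.map π, a * b = b * a := fun a b => by
    obtain ⟨a, rfl⟩ := hρ a
    obtain ⟨b, rfl⟩ := hρ b
    rw [← commutatorElement_eq_one_iff_mul_comm, ← map_commutatorElement, hρ1]
    exact hΦ ⟨_, H2.commutator_le_frattini hD (commutator_mem_commutator (mem_top a) (mem_top b)),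
      rfl⟩
  letI : CommGroup (D.map π) := { (inferInstance : Group (D.map π)) with mul_comm := hcomm }
  have hY : ∀ x (d : D), MulAut.conjNormal (π x) (ρ d) = ρ (MulAut.conjNormal x d) :=
    fun _ _ => rfl
  obtain ⟨ξ, hξ, hξ1, ψ, hψ⟩ := hF.simple_grp (V := D.map π) (fun a => by
      obtain ⟨a, rfl⟩ := hρ a
      rw [← map_pow, (hρ1 _).mpr (hΦ ⟨_, H2.pow_mem_frattini hD a, rfl⟩)])
    (MulAut.conjNormal (π g)) (by rw [← map_pow, ← map_pow, (hπ _).mpr hgq, map_one])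
    (fun e => by
      have h1 : normalClosure {g} ≤ centralizer {g} := (closure_le _).mpr fun x hx => by
        obtain ⟨g', hg', hx'⟩ := Group.mem_conjugatesOfSet_iff.mp hx
        rw [Set.mem_singleton_iff.mp hg'] at hx'
        obtain ⟨x, rfl⟩ := isConj_iff.mp hx'
        obtain ⟨w, hw, _, ⟨i, rfl⟩, rfl⟩ := H1.mem_normal_sup_iff.mp (htop.ge (mem_top x))
        have h2 := hY g ⟨w, hw⟩⁻¹
        rw [e, MulAut.one_apply, ← inv_mul_eq_one, ← map_inv, ← map_mul, hρ1] at h2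
        have h3 : g * (w * (g * w⁻¹ * g⁻¹)) = w * (g * w⁻¹ * g⁻¹) * g := by
          simpa [mul_assoc] using mem_center_iff.mp h2 g
        refine mem_centralizer_singleton_iff.mpr ?_
        calc w * g ^ i * g * (w * g ^ i)⁻¹ * g = w * (g * w⁻¹ * g⁻¹) * g * g := by group
          _ = _ := by rw [← h3]; group
      exact hgC fun d _ => mem_centralizer_singleton_iff.mp (h1 (hncl ▸ mem_top d)))
    (fun W hW => by
      have h1 : ((W.comap ρ).map D.subtype).Normal :=
        normalizer_eq_top_iff.mp (eq_top_iff.mpr (htop ▸ sup_le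
        (fun d hd => H1.mem_normalizer_of_conj_mem (by
          rintro _ ⟨w, hw, rfl⟩
          refine ⟨⟨d, hd⟩ * w * ⟨d, hd⟩⁻¹, ?_, rfl⟩
          rwa [SetLike.mem_coe, mem_comap, map_mul, map_mul, map_inv, mul_inv_cancel_comm]))
        (zpowers_le.mpr (H1.mem_normalizer_of_conj_mem (by
          rintro _ ⟨w, hw, rfl⟩
          exact ⟨MulAut.conjNormal g w, hW _ hw, rfl⟩)))))
      rcases (map_subtype_le _ : (W.comap ρ).map D.subtype ≤ D).lt_or_eq with h2 | h2
      · refine Or.inl ((eq_bot_iff_forall _).mpr fun a ha => ?_)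
        obtain ⟨d, rfl⟩ := hρ a
        exact (hρ1 d).mpr (hcen _ h1 h2 ⟨d, ha, rfl⟩)
      · refine Or.inr (eq_top_iff.mpr fun a _ => ?_)
        obtain ⟨d, rfl⟩ := hρ a
        obtain ⟨d', hd', e⟩ := h2.ge d.2
        rw [← (Subtype.ext e : d' = d)]
        exact hd')
  let fn : D →* Aff ζ := tr.comp (ψ.toMonoidHom.comp ρ)
  have hξq : orderOf (⟨ξ, hξ⟩ : zpowers ζ) = q := orderOf_eq_prime (by
    rw [← hF.ord, ← Nat.card_zpowers, pow_card_eq_one']) fun e => hξ1 (congrArg Subtype.val e)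
  have hgen : ∀ x : zpowers g, x ∈ zpowers (⟨g, mem_zpowers g⟩ : zpowers g) := by
    rintro ⟨_, i, rfl⟩
    exact ⟨i, rfl⟩
  let c : zpowers g →* zpowers ζ := monoidHomOfForallMemZpowers hgen (g' := ⟨ξ, hξ⟩)
    (by rw [hξq, orderOf_mk, hord]; exact dvd_pow_self q (by omega))
  have hcg : c ⟨g, mem_zpowers g⟩ = ⟨ξ, hξ⟩ := monoidHomOfForallMemZpowers_apply_gen _ _
  have hcomp : ∀ (n : ℕ) (d : D), fn (MulAut.conjNormal (g ^ n) d) =
      sc (⟨ξ, hξ⟩ ^ n) * fn d * (sc (⟨ξ, hξ⟩ ^ n))⁻¹ := fun n d => by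
    induction n with
    | zero => simp
    | succ n ih =>
      rw [pow_succ', map_mul, MulAut.mul_apply, pow_succ', map_mul, mul_inv_rev, mul_assoc (sc _),
        ← mul_assoc _ (sc _)⁻¹, mul_assoc (sc _), ← ih]
      exact Aff.ext (by simpa [fn, ← hY g] using hψ _) (by simp [fn])
  let e := SemidirectProduct.mulEquivSubgroup hcompl
  let θ := (SemidirectProduct.lift fn (sc.comp c) fun x => MonoidHom.ext fun d => by
    obtain ⟨n, rfl⟩ := mem_powers_iff_mem_zpowers.mpr (hgen x)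
    simp only [MonoidHom.comp_apply, map_pow c, hcg]
    exact hcomp n d).comp e.symm.toMonoidHom
  have hθ : ∀ (d : D) (x : zpowers g), θ (d * x) = fn d * sc (c x) := fun d x => by
    have : e.symm (d * x) = ⟨d, x⟩ := e.symm_apply_eq.mpr rfl
    simp only [θ, MonoidHom.comp_apply, MulEquiv.coe_toMonoidHom, this]
    rfl
  obtain ⟨m, hm⟩ := mem_powers_iff_mem_zpowers.mpr (mem_zpowers_of_prime_card (G := zpowers ζ)
    (p := q) (by rw [Nat.card_zpowers, hF.ord]) (g := ⟨ξ, hξ⟩) (g' := ⟨ζ, mem_zpowers ζ⟩)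
    fun e => hξ1 (congrArg Subtype.val e))
  simp only at hm
  have hm1 : m.Coprime (q ^ r) := (((Nat.Prime.coprime_iff_not_dvd hq.out).mpr fun e => by
    rw [← hξq, orderOf_dvd_iff_pow_eq_one, hm] at e
    exact hF.ne_one (congrArg Subtype.val e)).symm).pow_right r
  have hθg : θ (g ^ m) = y0 ζ := by
    have := hθ 1 (⟨g, mem_zpowers g⟩ ^ m)
    rwa [map_one, map_pow, hcg, hm, one_mul, coe_one, one_mul] at this
  refine ⟨θ, g ^ m, fun a => ?_, fun x hx => ?_, ?_, hθg, ?_⟩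
  · obtain ⟨d, hd⟩ := hρ (ψ.symm (Multiplicative.ofAdd a.u))
    obtain ⟨i, hi⟩ := sc_mem a.c
    refine ⟨d * (g ^ m) ^ i, ?_⟩
    have h1 := hθ d 1
    rw [coe_one, mul_one, map_one, map_one, mul_one] at h1
    rw [map_mul, map_zpow, hθg, h1, ← tr_mul_sc a, ← hi]
    simp [fn, hd]
  · obtain ⟨d, hd, x, hx', rfl⟩ := H1.mem_normal_sup_iff.mp (htop.ge (mem_top x))
    have h1 := (hθ ⟨d, hd⟩ ⟨x, hx'⟩).symm.trans hx
    obtain ⟨n, hn⟩ := mem_powers_iff_mem_zpowers.mpr (hgen ⟨x, hx'⟩)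
    have h2 : c ⟨x, hx'⟩ = 1 := by simpa [fn] using congrArg Aff.c h1
    have h3 : ρ ⟨d, hd⟩ = 1 := by simpa [fn] using congrArg Aff.u h1
    rw [← hn, map_pow, hcg, ← orderOf_dvd_iff_pow_eq_one, hξq] at h2
    obtain ⟨n, rfl⟩ := h2
    rw [← show g ^ (q * n) = x from congrArg Subtype.val hn, pow_mul]
    exact mul_mem ((hρ1 _).mp h3) (pow_mem hgq n)
  · rw [Nat.Coprime.orderOf_pow (by rw [hord]; exact hm1.symm), hord]
  · refine eq_top_iff.mpr (hncl ▸ normalClosure_le_normal (Set.singleton_subset_iff.mpr ?_))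
    exact (zpowers_le (H := normalClosure {g ^ m})).mpr (subset_normalClosure rfl)
      (mem_zpowers_pow_iff.mpr (by rw [hord]; exact hm1))

end Struct

end Cfsg.Agent.H3.Sch
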